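import Cfsg.Agent.Lib.Basic

/-!
Groups of U₄(3) type: tables for `SL₂(3)`, the product `K` of two copies and the model of the centraliser.

An element of `SL₂(3)` is a code below 24: `q + 4 * c + 12 * s`, with `q` one of `1, i, j, k`, `c` the power of an
element of order three and `s` the sign. An element of `K` is a code `24 * a + b` below 288 with `a < 12`. An element
of the model is `4 * k + r`, where `r` records the swap and the outer automorphism.
-/

set_option autoImplicit false

namespace CfsgU43Type

/-- The multiplication table of `SL₂(3)`, five bits to an entry. -/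
def sTab : ℕ := 0x89a0768983aaa8b2c8930b80f4d91784ca663c22a5d2a21e3200dae42eb63c2451b1c15d2c9990d17804dba155314e4104605256894670735ecb56f4131a3552ab342277002fb2137910b378582ba68a996061b40e5d5163c49263861a5969848e5009ed42af521a7108c404ad4829cc46bdccaded48ce50a554b844c763443426d721653005cf4d2ea2c2660b1e2aa176890f26806eb2e8991e0570d8155d1534c9113c0d5a928398a418820bdab49ca307b9ac2c8930b80f4d91789a0768983aaa8b21e3200dae42eb684ca663c22a5d2a990d17804dba1553c2451b1c15d2c994670735ecb56f4314e410460525687002fb2137910b3131a3552ab342271b40e5d5163c49278582ba68a99606009ed42af521a7163861a5969848e56bdccaded48ce5008c404ad4829cc4426d721653005cfa554b844c763443aa176890f26806e4d2ea2c2660b1e255d1534c9113c0db2e8991e0570d81bdab49ca307b9ac5a928398a418820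

/-- The table of inverses. -/
def sInvTab : ℕ := 0x29cd0525741882c8ce44b56e87b9a0

/-- The twenty-four automorphisms. -/
def sAutTab : ℕ := 0x298f04a9740886c8ca64adae86b9e0ada97992457046c4a90b3c0d1135e03c0a642d556b86c99232a5ec9089e0a5eb68c8871346c42d2a29a13705e0bd6969122768c4c5a50a340b30bdc0394d05a5541844c9c644bd6c87b5c0a5af59c4860bc4c429693961268dc0340e5429377b44c91271a5aab185c031cb052d3410c2c94e24b5ea873da0b5e95892667882c52d092c0f21b9a02c0c74257673c2c89253a56ea10da0a56d794c851b82c4254b31e11789a081cc552517689ec24e51b568b0b860bd2d524e26105ec5a14981cb273460316075a1360b9ec94493bd2aa68860b56f494670735ec52568314e410460b52b724a6508dcc5212b818f16bc40818a74ad16785cc24a33ade8a1b440aded48ce506bdcc4ad4829cc408c4029e06521751b5cc8cc92b52e978440814e65a91570dac24672bda8913c20ad2f624647189ac4a16a814d37b82039a054a15713dac9c891ad2cb70c20bdab49ca307b9ac5a928398a418820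

/-- The product in `SL₂(3)`. -/
def smul (a b : ℕ) : ℕ := (sTab >>> (5 * (24 * a + b))) % 32

/-- The inverse in `SL₂(3)`. -/
def sinv (a : ℕ) : ℕ := (sInvTab >>> (5 * a)) % 32

/-- The automorphism number `p`. -/
def saut (p a : ℕ) : ℕ := (sAutTab >>> (5 * (24 * p + a))) % 32

/-- The code of a pair in `K`, with the central elements identified. -/
def kc (a b : ℕ) : ℕ := if a < 12 then 24 * a + b else 24 * (a - 12) + (b + 12) % 24

/-- The product in `K`. -/
def kmul (x y : ℕ) : ℕ := kc (smul (x / 24) (y / 24)) (smul (x % 24) (y % 24))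

/-- The inverse in `K`. -/
def kinv (x : ℕ) : ℕ := kc (sinv (x / 24)) (sinv (x % 24))

/-- Conjugation in `K`. -/
def kconj (k x : ℕ) : ℕ := kmul (kmul k x) (kinv k)

/-- The action of the automorphism pair `P`, with the swap when `576 ≤ P`. -/
def kapp (P x : ℕ) : ℕ :=
  if P < 576 then kc (saut (P / 24) (x / 24)) (saut (P % 24) (x % 24))
  else kc (saut (P % 24) (x % 24)) (saut ((P - 576) / 24) (x / 24))

/-- The pair of outer automorphisms inverting the elements of order three. -/
def tauCode : ℕ := 24 * 15 + 15

/-- The swap. -/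
def swapCode : ℕ := 576

/-- The action of the representative `r`. -/
def ract (r x : ℕ) : ℕ :=
  match r with
  | 1 => kapp swapCode x
  | 2 => kapp tauCode x
  | 3 => kapp swapCode (kapp tauCode x)
  | _ => x

/-- The central correction of a product of representatives. -/
def rcorr (r r' : ℕ) : ℕ :=
  if 2 ≤ r ∧ (r' = 1 ∨ r' = 2) then 12 else 0

/-- The product in the model. -/
def mmul (x y : ℕ) : ℕ :=
  4 * kmul (kmul (x / 4) (ract (x % 4) (y / 4))) (rcorr (x % 4) (y % 4)) + ((x % 4) ^^^ (y % 4))

/-- Membership in the quaternion product. -/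
def inQ (x : ℕ) : Bool := x < 288 && x / 24 % 12 < 4 && x % 24 % 12 < 4

end CfsgU43Type

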