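import Cfsg.Agent.Lib.U43Type.Checks

/-!
The identification of `SL₂(3)` with its table.
-/

set_option autoImplicit false
set_option maxRecDepth 100000
set_option Elab.async false

namespace CfsgU43Type

open Matrix

/-- The entries of the element with code `a`, in base three. -/
def slEntries : List ℕ :=
  [28, 21, 41, 67, 37, 22, 48, 59, 46, 23, 31, 75, 56, 15, 79, 53, 74, 17, 69, 34, 65, 16, 62, 42]

/-- The matrix with code `a`. -/
def slMat (a : ℕ) : Matrix (Fin 2) (Fin 2) (ZMod 3) :=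
  !![((slEntries.getD a 0 / 27 : ℕ) : ZMod 3), ((slEntries.getD a 0 / 9 % 3 : ℕ) : ZMod 3);
    ((slEntries.getD a 0 / 3 % 3 : ℕ) : ZMod 3), ((slEntries.getD a 0 % 3 : ℕ) : ZMod 3)]

theorem slMat_mul : ∀ a < 24, ∀ b < 24, slMat (smul a b) = slMat a * slMat b := by decide +kernel

theorem slMat_det : ∀ a : Fin 24, (slMat a).det = 1 := by decide +kernel

theorem slMat_inj : ∀ a : Fin 24, ∀ b : Fin 24, slMat a = slMat b → a = b := by decide +kernel

theorem slMat_surj : ∀ M : Matrix (Fin 2) (Fin 2) (ZMod 3), M.det = 1 → ∃ a : Fin 24, slMat a = M := by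
  decide +kernel

/-- The element with code `a`. -/
def slEl (a : Fin 24) : Matrix.SpecialLinearGroup (Fin 2) (ZMod 3) := ⟨slMat a, slMat_det a⟩

theorem slEl_bijective : Function.Bijective slEl :=
  ⟨fun a b h => slMat_inj a b (congrArg Subtype.val h), fun M => by
    obtain ⟨a, ha⟩ := slMat_surj M.1 M.2
    exact ⟨a, Subtype.ext ha⟩⟩

theorem slEl_mul (a b : Fin 24) : slEl ⟨smul a b, smul_lt a a.2 b b.2⟩ = slEl a * slEl b :=
  Subtype.ext (slMat_mul a a.2 b b.2)

end CfsgU43Type
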