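import Cfsg.Agent.Lib.Basic

/-!
Groups of U₄(3) type: small facts on finite groups.
-/

set_option autoImplicit false

namespace CfsgU43Type

/-- A group whose order is twice an odd number and which has an involution has a subgroup of index two. -/
theorem exists_index_two_of_invol {Y : Type*} [Group Y] [Finite Y] {m : ℕ} (hY : Nat.card Y = 2 * m) (hm : Odd m)
    {t : Y} (ht : t * t = 1) (ht1 : t ≠ 1) : ∃ K : Subgroup Y, K.Normal ∧ K.index = 2 := by
  classical
  letI : Fintype Y := Fintype.ofFinite Y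
  let f : Y →* ℤˣ := Equiv.Perm.sign.comp (MulAction.toPermHom Y Y)
  have hsq : (MulAction.toPermHom Y Y t) ^ 2 = 1 := by rw [← map_pow, sq, ht, map_one]
  have hfix : Fintype.card (Function.fixedPoints (MulAction.toPermHom Y Y t)) = 0 := by
    rw [Fintype.card_eq_zero_iff]
    exact ⟨fun ⟨q, hq⟩ => ht1 (mul_eq_right.1 hq)⟩
  have hft : f t = -1 := by
    show Equiv.Perm.sign _ = _
    rw [Equiv.Perm.sign_of_pow_two_eq_one hsq, hfix, Nat.sub_zero, ← Nat.card_eq_fintype_card, hY,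
      Nat.mul_div_cancel_left _ two_pos, hm.neg_one_pow]
  refine ⟨f.ker, inferInstance, ?_⟩
  rw [Subgroup.index_ker]
  have htop : f.range = ⊤ := by
    refine eq_top_iff.mpr fun u _ => ?_
    rcases Int.units_eq_one_or u with rfl | rfl
    exacts [one_mem _, ⟨t, hft⟩]
  rw [htop, Subgroup.card_top, Nat.card_eq_fintype_card]
  rfl

/-- A proper subgroup of a finite `p`-group is properly contained in its normaliser there. -/
theorem exists_normalizing {G : Type*} [Group G] [Finite G] {p : ℕ} [Fact p.Prime] {P Q : Subgroup G}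
    (hQ : IsPGroup p Q) (hPQ : P ≤ Q) (hne : P ≠ Q) :
    ∃ n ∈ Q, n ∉ P ∧ ∀ x, x ∈ P ↔ n * x * n⁻¹ ∈ P := by
  haveI : Group.IsNilpotent Q := hQ.isNilpotent
  have hlt : P.subgroupOf Q < ⊤ := lt_top_iff_ne_top.2 fun h => hne (le_antisymm hPQ fun x hx => by
    have : (⟨x, hx⟩ : Q) ∈ P.subgroupOf Q := by rw [h]; exact Subgroup.mem_top _
    exact this)
  obtain ⟨n, hn, hn'⟩ := SetLike.exists_of_lt (Group.normalizerCondition_of_isNilpotent _ hlt)
  refine ⟨n, n.2, hn', fun x => ⟨fun hx => ?_, fun hx => ?_⟩⟩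
  · exact (Subgroup.mem_normalizer_iff.1 hn ⟨x, hPQ hx⟩).1 hx
  · have hxQ : x ∈ Q := by
      have e : x = (n : G)⁻¹ * ((n : G) * x * (n : G)⁻¹) * (n : G) := by group
      rw [e]
      exact Q.mul_mem (Q.mul_mem (Q.inv_mem n.2) (hPQ hx)) n.2
    exact (Subgroup.mem_normalizer_iff.1 hn ⟨x, hxQ⟩).2 hx

end CfsgU43Type
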