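import Cfsg.Agent.Lib.U43Type.Codes

/-!
Groups of U₄(3) type: kernel checks for the Sylow 3-subgroup of the centraliser.
-/

set_option autoImplicit false
set_option maxRecDepth 100000
set_option Elab.async false

namespace CfsgU43Type

/-- The Sylow 3-subgroup of the centraliser. -/
def tList : List ℕ := [0, 16, 32, 384, 400, 416, 768, 784, 800]

/-- The cube in the model. -/
def mcube (h : ℕ) : ℕ := mmul h (mmul h h)

theorem tList_group : (tList.all fun p => decide (p < 1152) && mcube p == 0 && tList.contains (minv p) &&
    tList.all fun q => tList.contains (mmul p q) && mmul p q == mmul q p) = true ∧ tList.Nodup := by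
  decide +kernel

/-- The elements of the centraliser commuting with the Sylow 3-subgroup. -/
theorem t_cent : ((List.range 1152).all fun h => mmul h 384 != mmul 384 h || mmul h 16 != mmul 16 h ||
    tList.contains h || tList.contains (mmul h 48)) = true ∧
    (tList.all fun p => mmul (mmul p 48) (mmul p 48) != 0 || p == 0) = true ∧
    (tList.all fun p => mmul p p != 0 || p == 0) = true := by
  decide +kernel

theorem t_norm : ((List.range 1152).all fun h => !(tList.all fun p => tList.contains (mconj h p)) ||
    ((mconj h 400 == 400 || mconj h 400 == 800) && (mcube (mcube h) != 0 || tList.contains h))) = true := by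
  decide +kernel

theorem t_cube : ((List.range 1152).all fun h => mcube (mcube h) != 0 || mcube h == 0) = true := by
  decide +kernel

end CfsgU43Type
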