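import Cfsg.Agent.Lib.U43Type.LThree
import Cfsg.Agent.Lib.U43Type.TChecks

/-!
Groups of U₄(3) type: kernel checks for the centraliser of a one-sided element of order three.
-/

set_option autoImplicit false
set_option maxRecDepth 100000
set_option Elab.async false

namespace CfsgU43Type

/-- The span of a coordinate of `φ 384` and the two coordinates inverted by `z`. -/
def wSpan (v : ℕ) : List ℕ :=
  ([0, v, vneg v].product ([0, 9, 18].product [0, 27, 54])).map fun p => vadd p.1 (vadd p.2.1 p.2.2)

theorem h_cent_w : ((List.range 1152).all fun h => mmul h h != 0 || mmul h 384 != mmul 384 h || h == 0 || h == 48) = true ∧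
    ((List.range 1152).all fun h => mmul h 384 != mmul 384 h || mcube (mcube h) != 0 ||
      mcube (mcube (mmul (minv h) (mconj 4 h))) != 0 || [0, 384, 768].contains h) = true ∧
    ((List.range 1152).filter fun h => mmul h 384 == mmul 384 h).length = 72 ∧
    mmul 4 384 = mmul 384 4 ∧ mmul 4 4 = 48 ∧ mcube (mmul 16 (mconj 4 16)) = 48 ∧
    mmul 16 384 = mmul 384 16 ∧ mmul 48 384 = mmul 384 48 ∧ mconj 2 384 = 768 := by
  decide +kernel

theorem vectors_types : ((List.range 81).all fun v => v == 0 || lList.any fun L => [1, 2, 3, 6, 4, 5, 7, 8].contains (lapp L v)) =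
    true := by
  decide +kernel

theorem wSpan_ok : ([4, 5, 7, 8].all fun v => decide ((wSpan v).Nodup) && (wSpan v).length == 27 &&
    ((lList.filter fun L => lapp L v == v).length == 18) &&
    ((lThree.filter fun L => lapp L v == v).length == 8) &&
    (wSpan v).all (fun a => decide (a < 81)) &&
    (lThree.filter fun L => lapp L v == v).all fun L => (List.range 81).all fun u =>
      vadd (vadd u (lapp L u)) (lapp L (lapp L u)) != 0 || (wSpan v).contains u) = true ∧
    ([1, 2, 3, 6].all fun v => (lList.filter fun L => lapp L v == v).length == 12) = true := by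
  decide +kernel

end CfsgU43Type
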