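import Cfsg.Agent.Lib.U43Type.LThree
import Cfsg.Agent.Lib.U43Type.TChecks
import Cfsg.Agent.Lib.U43Type.WChecks

/-!
Groups of U₄(3) type: kernel checks for the elements of order three.
-/

set_option autoImplicit false
set_option maxRecDepth 100000
set_option Elab.async false

namespace CfsgU43Type

/-- Representatives moving the four planes. -/
def rList : List ℕ := [0, 4, 8, 12]

/-- Representatives of the eight lines conjugate to that of `φ 384`. -/
def mList : List ℕ := [0, 96, 192, 288].flatMap fun r => [r, mmul 1 r]

theorem not_real_check : ((List.range 1152).all fun h => mmul h h != 0 || mconj h 384 != 768) = true ∧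
    ((List.range 1152).all fun h => mcube h != 0 || h == 0 || (List.range 1152).any fun m =>
      tList.contains (mconj m h)) = true := by
  decide +kernel

theorem rList_ok : ((List.range 1152).all fun h => mmul h 384 != mmul 384 h || rList.any fun r =>
      tList.all fun p => tList.contains (mconj (mmul (minv r) h) p)) = true ∧
    (rList.all fun r => decide (r < 1152) && mmul r 384 == mmul 384 r && rList.all fun r' => r == r' ||
      !(tList.all fun p => tList.contains (mconj (mmul (minv r) r') p))) = true ∧
    ((List.range 1152).all fun h => mmul h 384 != mmul 384 h || [0, 384, 768].contains h ||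
      [h, mmul h h, mcube h, mmul (mcube h) (mcube h)].contains 48 || rList.any fun r => [0, 384, 768].any fun p =>
        [mmul h p, mmul (mmul h p) (mmul h p)].contains (mconj r 16)) = true := by
  decide +kernel

theorem mList_ok : ((List.range 1152).all fun h => mList.any fun m =>
      [384, 768].contains (mconj (mmul (minv m) h) 384)) = true ∧
    (mList.all fun m => decide (m < 1152) && mList.all fun m' => m == m' ||
      !([mconj m 384, mconj m 768].contains (mconj m' 384))) = true ∧ mList.length = 8 ∧ mList.Nodup := by
  decide +kernel

end CfsgU43Type
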