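import Cfsg.Agent.Lib.U43Type.WStruct
import Cfsg.Agent.Lib.U43Type.WTypes

/-!
Groups of U₄(3) type: an element of order three centralising two noncommuting square roots of the central
involution lies in the derived group of its centraliser.
-/

set_option autoImplicit false
set_option maxRecDepth 100000
set_option linter.unusedSectionVars false

namespace CfsgU43Type

open Cfsg

/-- The square roots of the central involution, in the model. -/
def rootList : List ℕ :=
  [2, 4, 6, 8, 12, 18, 30, 34, 42, 50, 52, 54, 56, 60, 66, 78, 82, 90, 96, 98, 102, 114, 126, 130, 138, 144, 146, 150, 162, 174, 178, 186, 192, 240, 288, 336, 386, 390, 402, 414, 418, 426, 434, 438, 450, 462, 466, 474, 674, 678, 690, 702, 706, 714, 722, 726, 738, 750, 754, 762, 770, 774, 786, 798, 802, 810, 818, 822, 834, 846, 850, 858, 962, 966, 978, 990, 994, 1002, 1010, 1014, 1026, 1038, 1042, 1050]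

theorem rootList_ok : ((List.range 1152).all fun q => mmul q q != 48 || rootList.contains q) = true ∧
    ((List.range 1152).all fun h => h == 0 || mcube h != 0 ||
      !((rootList.filter fun q => mmul h q == mmul q h).any fun q =>
        (rootList.filter fun q => mmul h q == mmul q h).any fun r => mmul q r != mmul r q) ||
      mList.any fun m => [384, 768].contains (mconj (minv m) h)) = true := by
  decide +kernel

variable {G : Type*} [Group G] {z : G} {φ : ℕ → G} {B : Subgroup G} {θ : ℕ → G} {e e' : G}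

/-- A one-sided element lies in the derived group of its centraliser. -/
theorem WData.mem_derived [Finite G] {O : Subgroup G} {vw : ℕ} (W : WData z φ B θ O vw)
    (D : Base z φ B θ e e') {w q r : G} (hwz : w * z = z * w) (w3 : w ^ 3 = 1) (w1 : w ≠ 1)
    (hq : q * q = z) (hr : r * r = z) (hwq : w * q = q * w) (hwr : w * r = r * w) (hne : q * r ≠ r * q) :
    w ∈ ⁅Subgroup.centralizer ({w} : Set G), Subgroup.centralizer ({w} : Set G)⁆ := by
  have hc : ∀ x : G, x * x = z → x * z = z * x := fun x hx => by rw [← hx, mul_assoc]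
  obtain ⟨h, hh, rfl⟩ := (D.data.cent w).1 hwz
  obtain ⟨a, ha, rfl⟩ := (D.data.cent q).1 (hc q hq)
  obtain ⟨b, hb, rfl⟩ := (D.data.cent r).1 (hc r hr)
  have root : ∀ x < 1152, φ x * φ x = z → x ∈ rootList := fun x hx hxx => by
    have hm : mmul x x = 48 := D.data.inj _ (mmul_lt hx hx) 48 (by norm_num)
      (by rw [D.data.mul _ hx _ hx, hxx, D.data.zc])
    simpa [hm] using of_range_all rootList_ok.1 hx
  have h0 : h ≠ 0 := fun e0 => w1 (by rw [e0, D.data.one])
  have h3 : mcube h = 0 := D.data.inj _ (mcube_lt hh) 0 (by norm_num)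
    (by rw [D.data.cube_eq hh, D.data.one, w3])
  have hab : mmul a b ≠ mmul b a := fun e0 => hne ((D.data.commute_iff ha hb).2 e0)
  have hit : ((rootList.filter fun q => mmul h q == mmul q h).any fun q =>
      (rootList.filter fun q => mmul h q == mmul q h).any fun r => mmul q r != mmul r q) = true := by
    simp only [List.any_eq_true, List.mem_filter, beq_iff_eq, bne_iff_ne]
    exact ⟨a, ⟨root a ha hq, (D.data.commute_iff hh ha).1 hwq⟩, b, ⟨root b hb hr, (D.data.commute_iff hh hb).1 hwr⟩,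
      hab⟩
  have hchk := of_range_all rootList_ok.2 hh
  rw [hit] at hchk
  simp only [h0, h3, bne_self_eq_false, Bool.not_true, Bool.or_false, Bool.or_eq_true, beq_iff_eq, false_or,
    List.any_eq_true, List.contains_iff_mem] at hchk
  obtain ⟨m, hm, hmc⟩ := hchk
  have hml : m < 1152 := by
    have := of_all mList_ok.2.1 hm
    simp only [Bool.and_eq_true, decide_eq_true_eq] at this
    exact this.1
  obtain ⟨c, hcdef⟩ : ∃ c, φ (minv m) = c := ⟨_, rfl⟩
  obtain ⟨n, hn, hcw⟩ : ∃ n, (n = 1 ∨ n = 2) ∧ c * φ h * c⁻¹ = φ 384 ^ n := by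
    rw [← hcdef, ← D.data.conj (minv_lt hml) hh]
    simp only [List.mem_cons, List.not_mem_nil, or_false] at hmc
    rcases hmc with e0 | e0 <;> rw [e0]
    · exact ⟨1, Or.inl rfl, (pow_one _).symm⟩
    · exact ⟨2, Or.inr rfl, by rw [pow_two, ← D.data.mul _ (by norm_num) _ (by norm_num),
        show mmul 384 384 = 768 by decide +kernel]⟩
  obtain ⟨x, hx, hxn⟩ : ∃ x ∈ O, x ∉ Subgroup.zpowers (φ 384) := by
    by_contra hall
    push Not at hall
    have h1 := Subgroup.card_le_of_le (show O ≤ Subgroup.zpowers (φ 384) from hall)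
    rw [W.card, Nat.card_zpowers] at h1
    have h2 := Nat.le_of_dvd (by norm_num) (orderOf_dvd_of_pow_eq_one D.w_cube)
    omega
  obtain ⟨y, hy, hxy⟩ : ∃ y ∈ O, x * y ≠ y * x := by
    by_contra hall
    push Not at hall
    obtain ⟨k, hk⟩ := W.center x hx hall
    exact hxn (hk ▸ Subgroup.pow_mem _ (Subgroup.mem_zpowers _) k)
  obtain ⟨k, hk⟩ := W.core.comm D hx hy
  have hk0 : k % 3 ≠ 0 := fun e0 => hxy (by
    rw [hk, pow_eq_pow_mod k D.w_cube, e0, pow_zero, mul_one])
  have hfix : ∀ o ∈ O, c⁻¹ * o * c ∈ Subgroup.centralizer ({φ h} : Set G) := fun o ho =>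
    Subgroup.mem_centralizer_singleton_iff.2 (by
      have hcomm : Commute o (φ 384 ^ n) := (show Commute o (φ 384) from W.core.comm_w o ho).pow_right n
      rw [show φ h = c⁻¹ * (c * φ h * c⁻¹) * c by group, hcw,
        show c⁻¹ * o * c * (c⁻¹ * φ 384 ^ n * c) = c⁻¹ * (o * φ 384 ^ n) * c by group, hcomm.eq]
      group)
  have hmem : c⁻¹ * φ 384 ^ k * c ∈
      ⁅Subgroup.centralizer ({φ h} : Set G), Subgroup.centralizer ({φ h} : Set G)⁆ := by
    have := Subgroup.commutator_mem_commutator (hfix _ (O.inv_mem hx)) (hfix _ (O.inv_mem hy))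
    rwa [commutatorElement_def,
      show c⁻¹ * x⁻¹ * c * (c⁻¹ * y⁻¹ * c) * (c⁻¹ * x⁻¹ * c)⁻¹ * (c⁻¹ * y⁻¹ * c)⁻¹ = c⁻¹ * ((y * x)⁻¹ * (x * y)) * c
        by group, hk, inv_mul_cancel_left] at this
  have hw : φ h = (c⁻¹ * φ 384 ^ k * c) ^ (k * n) := by
    have : (c⁻¹ * φ 384 ^ k * c) ^ (k * n) = c⁻¹ * (φ 384 ^ k) ^ (k * n) * c := by
      have e1 := conj_pow (i := k * n) (a := c⁻¹) (b := φ 384 ^ k)
      rwa [inv_inv] at e1
    rw [this, ← pow_mul, pow_eq_pow_mod _ D.w_cube,
      show k * (k * n) % 3 = n % 3 by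
        rcases (show k % 3 = 1 ∨ k % 3 = 2 by omega) with e0 | e0 <;>
          simp [Nat.mul_mod, e0, ← mul_assoc],
      ← pow_eq_pow_mod _ D.w_cube, ← hcw]
    group
  have hfin := Subgroup.pow_mem _ hmem (k * n)
  rwa [← hw] at hfin

end CfsgU43Type
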