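import Cfsg.Agent.Lib.U43Type.Tables

/-!
Groups of U₄(3) type: kernel checks on the tables, and the determination of the two lifts outside `K`.
-/

set_option autoImplicit false
set_option maxRecDepth 100000
set_option Elab.async false

namespace CfsgU43Type

theorem smul_lt : ∀ a < 24, ∀ b < 24, smul a b < 24 := by decide +kernel

theorem smul_assoc : ∀ a < 24, ∀ b < 24, ∀ c < 24, smul (smul a b) c = smul a (smul b c) := by decide +kernel

theorem sone_mul : ∀ a < 24, smul 0 a = a ∧ smul a 0 = a ∧ smul (sinv a) a = 0 ∧ smul a (sinv a) = 0 ∧ sinv a < 24 := by
  decide +kernel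

theorem saut_hom : ∀ p < 24, ∀ a < 24, ∀ b < 24, saut p (smul a b) = smul (saut p a) (saut p b) ∧ saut p a < 24 := by
  decide +kernel

/-- The relations of the two generators. -/
def genRel (x y : ℕ) : Bool :=
  smul x x == 12 && smul y (smul y y) == 0 && y != 0 &&
    smul (smul x y) (smul (smul x y) (smul x y)) == 12

/-- The automorphisms are determined by the images of the two generators. -/
theorem saut_cases : ∀ x < 24, ∀ y < 24,
    (!genRel x y || (List.range 24).any fun p => saut p 1 == x && saut p 4 == y) = true := by
  decide +kernel

theorem genRel_gens : genRel 1 4 = true := by decide +kernel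

/-- The generators of `K`. -/
def kgens : List ℕ := [24, 96, 1, 4]

/-- The elements of `Q` commuting with the standard involution. -/
def uList : List ℕ := (List.range 288).filter fun k => inQ k && kmul k 25 == kmul 25 k

/-- The action commutes with the standard involution and is not induced by `uList`. -/
def outerFix (P : ℕ) : Bool :=
  kapp P 25 == 25 && uList.all fun k => kgens.any fun g => kapp P g != kconj k g

/-- The commutator of `y` with an action. -/
def kcom (y : ℕ) (f : ℕ → ℕ) : ℕ := kmul (kinv y) (f y)

/-- The conditions on the first lift. -/
def uOK (P : ℕ) : Bool :=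
  outerFix P && (kgens.all fun g => kapp P (kapp P g) == kconj 25 g) &&
    [0, 37].contains (kcom 24 (kapp P)) && [0, 12, 25, 37].contains (kcom 50 (kapp P))

/-- The conditions on the second lift. -/
def vOK (P : ℕ) : Bool :=
  outerFix P && (kgens.all fun g => kapp P (kapp P g) == g) &&
    [0, 12, 25, 37].contains (kcom 24 (kapp P)) && [0, 12, 25, 37].contains (kcom 50 (kapp P))

/-- The conditions on the pair. -/
def pairOK (u v : ℕ) : Bool :=
  (kgens.all fun g => kapp u (kapp v g) == kconj 25 (kapp v (kapp u g))) &&
    (uList.all fun k => kgens.any fun g => kapp u (kapp v g) != kconj k g) &&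
    [24, 50, kmul 24 50].all fun p =>
      !([0, 25].contains (kcom p (kapp u)) && [0, 25].contains (kcom p (kapp v)))

/-- The pair gives the lifts with the standard actions, squares and commutator. -/
def normalPair (u : ℕ) (f : ℕ → ℕ) : Bool :=
  ((List.range 288).filter inQ).any fun q₁ =>
    (kgens.all fun g => f (kconj q₁ g) == kapp swapCode g) && kmul (f q₁) q₁ == 0 &&
      ((List.range 288).filter inQ).any fun q₂ =>
        (kgens.all fun g => kapp u (kconj q₂ g) == kapp tauCode g) &&
          kmul (kmul (kapp u q₂) 25) q₂ == 12 &&
          kmul (f q₁) (f (kapp u q₂)) == kmul (kmul (kmul (kapp u q₂) (kapp u (f q₁))) 25) 12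

theorem enum_all : (((List.range 1152).filter uOK).all fun u => ((List.range 1152).filter vOK).all fun v =>
    !pairOK u v || normalPair u (kapp v) || normalPair u (fun x => kapp u (kapp v x))) = true := by
  decide +kernel

theorem enum_count : ((List.range 1152).filter uOK).length = 8 ∧ ((List.range 1152).filter vOK).length = 12 := by
  decide +kernel

end CfsgU43Type
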