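import Cfsg.Agent.Lib.U43Type.KChecks
import Cfsg.Agent.Lib.U43Type.SLModel

/-!
Groups of U₄(3) type: coordinates on a product of two copies of `SL₂(3)` with common centre.
-/

set_option autoImplicit false
set_option maxRecDepth 100000

namespace CfsgU43Type

variable {G : Type*} [Group G]

theorem of_all {L : List ℕ} {p : ℕ → Bool} (h : L.all p = true) {x : ℕ} (hx : x ∈ L) : p x = true :=
  List.all_eq_true.1 h x hx

theorem of_range_all {n : ℕ} {p : ℕ → Bool} (h : (List.range n).all p = true) {x : ℕ} (hx : x < n) : p x = true :=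
  of_all h (List.mem_range.2 hx)

/-- Two commuting factors with the same central involution, given by their tables. -/
structure Two (z : G) (f₁ f₂ : ℕ → G) : Prop where
  hom₁ : ∀ a < 24, ∀ b < 24, f₁ (smul a b) = f₁ a * f₁ b
  hom₂ : ∀ a < 24, ∀ b < 24, f₂ (smul a b) = f₂ a * f₂ b
  inj₁ : ∀ a < 24, ∀ b < 24, f₁ a = f₁ b → a = b
  comm : ∀ a < 24, ∀ b < 24, f₁ a * f₂ b = f₂ b * f₁ a
  mid₁ : f₁ 12 = z
  mid₂ : f₂ 12 = z
  inj₂ : ∀ a < 24, ∀ b < 24, f₂ a = f₂ b → a = b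
  meet : ∀ a < 24, ∀ b < 24, f₁ a = f₂ b → a = 0 ∨ a = 12

/-- The element of `G` with code `k`. -/
def ι (f₁ f₂ : ℕ → G) (k : ℕ) : G := f₁ (k / 24) * f₂ (k % 24)

variable {z : G} {f₁ f₂ : ℕ → G}

theorem Two.f₁_zero (h : Two z f₁ f₂) : f₁ 0 = 1 := by
  have e := h.hom₁ 0 (by norm_num) 0 (by norm_num)
  rw [show smul 0 0 = 0 from (sone_mul 0 (by norm_num)).1] at e
  exact mul_eq_left.1 e.symm

theorem Two.f₂_zero (h : Two z f₁ f₂) : f₂ 0 = 1 := by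
  have e := h.hom₂ 0 (by norm_num) 0 (by norm_num)
  rw [show smul 0 0 = 0 from (sone_mul 0 (by norm_num)).1] at e
  exact mul_eq_left.1 e.symm

theorem Two.ι_kc (h : Two z f₁ f₂) {a b : ℕ} (ha : a < 24) (hb : b < 24) : ι f₁ f₂ (kc a b) = f₁ a * f₂ b := by
  unfold kc ι
  split_ifs with hc
  · rw [show (24 * a + b) / 24 = a by omega, show (24 * a + b) % 24 = b by omega]
  · rw [show (24 * (a - 12) + (b + 12) % 24) / 24 = a - 12 by omega,
      show (24 * (a - 12) + (b + 12) % 24) % 24 = (b + 12) % 24 by omega]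
    have h1 := ((sneg (a - 12) (by omega)).1 (by omega))
    rw [show a - 12 + 12 = a by omega] at h1
    have e1 : f₁ a = f₁ (a - 12) * z := by rw [← h.mid₁, ← h.hom₁ _ (by omega) 12 (by norm_num), h1]
    have e2 : f₂ ((b + 12) % 24) = z * f₂ b := by
      rw [← h.mid₂, ← h.hom₂ 12 (by norm_num) b hb, (sneg b hb).2.1]
    rw [e1, e2, mul_assoc]

theorem Two.ι_mul (h : Two z f₁ f₂) {x y : ℕ} (hx : x < 288) (hy : y < 288) :
    ι f₁ f₂ (kmul x y) = ι f₁ f₂ x * ι f₁ f₂ y := by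
  have h1 : x / 24 < 24 := by omega
  have h2 : y / 24 < 24 := by omega
  have h3 : x % 24 < 24 := by omega
  have h4 : y % 24 < 24 := by omega
  rw [kmul, h.ι_kc (smul_lt _ h1 _ h2) (smul_lt _ h3 _ h4), h.hom₁ _ h1 _ h2, h.hom₂ _ h3 _ h4]
  unfold ι
  rw [mul_assoc (f₁ (x / 24)), ← mul_assoc (f₁ (y / 24)) (f₂ (x % 24)), h.comm _ h2 _ h3, mul_assoc, mul_assoc]

theorem kmul_lt {x y : ℕ} (hx : x < 288) (hy : y < 288) : kmul x y < 288 :=
  kc_lt _ (smul_lt _ (by omega) _ (by omega)) _ (smul_lt _ (by omega) _ (by omega))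

theorem kinv_lt {x : ℕ} (hx : x < 288) : kinv x < 288 :=
  kc_lt _ (sone_mul _ (by omega)).2.2.2.2 _ (sone_mul _ (by omega)).2.2.2.2

theorem kconj_lt {k x : ℕ} (hk : k < 288) (hx : x < 288) : kconj k x < 288 :=
  kmul_lt (kmul_lt hk hx) (kinv_lt hk)

theorem kapp_lt' {P x : ℕ} (hP : P < 1152) (hx : x < 288) : kapp P x < 288 := by
  have h1 : x / 24 < 24 := by omega
  have h2 : x % 24 < 24 := by omega
  unfold kapp
  split_ifs with hc
  · exact kc_lt _ (saut_hom _ (by omega) _ h1 0 (by norm_num)).2 _ (saut_hom _ (by omega) _ h2 0 (by norm_num)).2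
  · exact kc_lt _ (saut_hom _ (by omega) _ h2 0 (by norm_num)).2 _ (saut_hom _ (by omega) _ h1 0 (by norm_num)).2

theorem Two.ι_zero (h : Two z f₁ f₂) : ι f₁ f₂ 0 = 1 := by
  show f₁ 0 * f₂ 0 = 1
  rw [h.f₁_zero, h.f₂_zero, one_mul]

theorem Two.ι_twelve (h : Two z f₁ f₂) : ι f₁ f₂ 12 = z := by
  show f₁ 0 * f₂ 12 = z
  rw [h.f₁_zero, h.mid₂, one_mul]

theorem Two.ι_left (h : Two z f₁ f₂) (a : ℕ) : ι f₁ f₂ (24 * a) = f₁ a := by
  unfold ι
  rw [show 24 * a / 24 = a by omega, show 24 * a % 24 = 0 by omega, h.f₂_zero, mul_one]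

theorem Two.ι_right (h : Two z f₁ f₂) {b : ℕ} (hb : b < 24) : ι f₁ f₂ b = f₂ b := by
  unfold ι
  rw [Nat.div_eq_of_lt hb, Nat.mod_eq_of_lt hb, h.f₁_zero, one_mul]

theorem Two.ι_inv (h : Two z f₁ f₂) {x : ℕ} (hx : x < 288) : ι f₁ f₂ (kinv x) = (ι f₁ f₂ x)⁻¹ := by
  have h1 := sone_mul (x / 24) (by omega)
  have h2 := sone_mul (x % 24) (by omega)
  refine (inv_eq_of_mul_eq_one_left ?_).symm
  rw [kinv, h.ι_kc h1.2.2.2.2 h2.2.2.2.2]
  unfold ι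
  rw [mul_assoc (f₁ (sinv (x / 24))), ← mul_assoc (f₂ (sinv (x % 24))), ← h.comm _ (by omega) _ h2.2.2.2.2,
    mul_assoc, ← mul_assoc, ← h.hom₁ _ h1.2.2.2.2 _ (by omega), h1.2.2.1, h.f₁_zero, one_mul,
    ← h.hom₂ _ h2.2.2.2.2 _ (by omega), h2.2.2.1, h.f₂_zero]

theorem Two.ι_conj (h : Two z f₁ f₂) {k x : ℕ} (hk : k < 288) (hx : x < 288) :
    ι f₁ f₂ (kconj k x) = ι f₁ f₂ k * ι f₁ f₂ x * (ι f₁ f₂ k)⁻¹ := by
  rw [kconj, h.ι_mul (kmul_lt hk hx) (kinv_lt hk), h.ι_mul hk hx, h.ι_inv hk]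

theorem Two.ι_inj (h : Two z f₁ f₂) {x y : ℕ} (hx : x < 288) (hy : y < 288) (e : ι f₁ f₂ x = ι f₁ f₂ y) :
    x = y := by
  unfold ι at e
  have h1 : x / 24 < 12 := by omega
  have h2 : y / 24 < 12 := by omega
  have hs := sone_mul (y / 24) (by omega)
  have hs2 := sone_mul (x % 24) (by omega)
  have e' : f₁ (smul (sinv (y / 24)) (x / 24)) = f₂ (smul (y % 24) (sinv (x % 24))) := by
    rw [h.hom₁ _ hs.2.2.2.2 _ (by omega), h.hom₂ _ (by omega) _ hs2.2.2.2.2]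
    have i1 : f₁ (sinv (y / 24)) * f₁ (y / 24) = 1 := by
      rw [← h.hom₁ _ hs.2.2.2.2 _ (by omega), hs.2.2.1, h.f₁_zero]
    have i2 : f₂ (x % 24) * f₂ (sinv (x % 24)) = 1 := by
      rw [← h.hom₂ _ (by omega) _ hs2.2.2.2.2, hs2.2.2.2.1, h.f₂_zero]
    calc f₁ (sinv (y / 24)) * f₁ (x / 24)
        = f₁ (sinv (y / 24)) * (f₁ (x / 24) * f₂ (x % 24)) * f₂ (sinv (x % 24)) := by
          rw [mul_assoc, mul_assoc (f₁ (x / 24)), i2, mul_one]
      _ = f₁ (sinv (y / 24)) * (f₁ (y / 24) * f₂ (y % 24)) * f₂ (sinv (x % 24)) := by rw [e]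
      _ = f₂ (y % 24) * f₂ (sinv (x % 24)) := by rw [← mul_assoc, i1, one_mul]
  have hc : smul (sinv (y / 24)) (x / 24) = 0 ∨ smul (sinv (y / 24)) (x / 24) = 12 :=
    h.meet _ (smul_lt _ hs.2.2.2.2 _ (by omega)) _ (smul_lt _ (by omega) _ hs2.2.2.2.2) e'
  have hk : ∀ a < 12, ∀ b < 12, smul (sinv b) a ≠ 12 ∧ (smul (sinv b) a = 0 → a = b) := by decide +kernel
  rcases hc with hc | hc
  · have hab : x / 24 = y / 24 := (hk _ h1 _ h2).2 hc
    rw [hab] at e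
    have := h.inj₂ _ (Nat.mod_lt _ (by norm_num)) _ (Nat.mod_lt _ (by norm_num)) (mul_left_cancel e)
    omega
  · exact absurd hc (hk _ h1 _ h2).1

end CfsgU43Type
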