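import Cfsg.Agent.Lib.U43Type.KChecks

/-!
Groups of U₄(3) type: kernel checks for the choice of the two lifts.
-/

set_option autoImplicit false
set_option maxRecDepth 100000
set_option Elab.async false

namespace CfsgU43Type

/-- The involutions of the quaternion product other than the central one are conjugate under `K`. -/
theorem q_trans : (qList.all fun q => kmul q q != 0 || q == 0 || q == 12 ||
    (List.range 288).any fun k => kconj k q == 25) = true := by
  decide +kernel

theorem q_facts : kmul 25 25 = 0 ∧ kmul 24 24 = 12 ∧ kmul 50 50 = 0 ∧ kmul 24 25 = kmul 25 24 ∧
    kmul 50 25 = kmul 25 50 ∧ kmul 24 50 = kmul 12 (kmul 50 24) ∧ kmul 24 50 ≠ kmul 50 24 ∧ kmul 25 12 = 37 ∧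
    kmul 12 25 = 37 ∧ inQ 37 = true := by
  decide +kernel

/-- The elements of `Q` commuting with the standard involution whose square is central nontrivial. -/
theorem uList_root : (uList.all fun q => kmul q q != 12 ||
    [0, 12, 25, 37].any fun e => q == kmul 24 e) = true := by
  decide +kernel

/-- An outer action fixing the standard involution moves the quotient modulo the central involution. -/
theorem outer_moves : (((List.range 1152).filter outerFix).all fun P => uList.all fun r => uList.all fun r' =>
    kmul r r != 12 || kmul r' r' != 0 || [0, 12, 25, 37].contains r' ||
      !([0, 12].contains (kcom r (kapp P)) && [0, 12].contains (kcom r' (kapp P)))) = true := by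
  decide +kernel

end CfsgU43Type
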