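import Cfsg.Agent.Lib.U43Type.Setting
import Cfsg.Agent.Lib.U43Type.LiftChecks

/-!
Groups of U₄(3) type: from the hypotheses of the statement to coordinates on `K` and `Q`.
-/

set_option autoImplicit false
set_option maxRecDepth 100000
set_option linter.unusedSectionVars false

namespace CfsgU43Type

open Cfsg CfsgLargeExtra

variable {G : Type*} [Group G] {z : G} {f₁ f₂ : ℕ → G}

theorem mem_qList_iff {x : ℕ} : x ∈ qList ↔ x < 288 ∧ inQ x = true := by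
  rw [← qList_eq, List.mem_filter, List.mem_range]

theorem lt_of_inQ {x : ℕ} (h : inQ x = true) : x < 288 := by
  by_contra hx
  simp [inQ, show ¬ x < 288 from hx] at h

theorem inQ_kmul {x y : ℕ} (hx : inQ x = true) (hy : inQ y = true) : inQ (kmul x y) = true :=
  of_all (of_all qList_closed.1 (mem_qList_iff.2 ⟨lt_of_inQ hx, hx⟩)) (mem_qList_iff.2 ⟨lt_of_inQ hy, hy⟩)

theorem inQ_kinv {x : ℕ} (hx : inQ x = true) : inQ (kinv x) = true :=
  of_all qList_closed.2.1 (mem_qList_iff.2 ⟨lt_of_inQ hx, hx⟩)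

/-- The quaternion product. -/
def qSub (h : Two z f₁ f₂) : Subgroup G where
  carrier := {g | ∃ x, inQ x = true ∧ ι f₁ f₂ x = g}
  one_mem' := ⟨0, qList_closed.2.2.2.2.1, h.ι_zero⟩
  mul_mem' := by
    rintro _ _ ⟨x, hx, rfl⟩ ⟨y, hy, rfl⟩
    exact ⟨kmul x y, inQ_kmul hx hy, h.ι_mul (lt_of_inQ hx) (lt_of_inQ hy)⟩
  inv_mem' := by
    rintro _ ⟨x, hx, rfl⟩
    exact ⟨kinv x, inQ_kinv hx, h.ι_inv (lt_of_inQ hx)⟩

/-- Coordinates on `K` and `Q`, with a conjugate of the central involution at the standard place. -/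
structure Frame (z : G) (f₁ f₂ : ℕ → G) : Prop where
  two : Two z f₁ f₂
  acts : ∀ c : G, c * z = z * c → ∃ P < 1152, Acts f₁ f₂ c P
  es : ES (qSub two) z
  central : ∀ x < 288, ι f₁ f₂ x * z = z * ι f₁ f₂ x
  card : Nat.card ↥(Subgroup.centralizer ({z} : Set G)) = 1152
  fused : ∃ g : G, g * z * g⁻¹ = ι f₁ f₂ 25
  small : ∀ g : G, g * z * g⁻¹ = ι f₁ f₂ 25 → Nat.card ↥(qSub two ⊓ cj g (qSub two)) = 4

theorem Two.ι_root (h : Two z f₁ f₂) {x : ℕ} (hx : x < 288) (k : ℕ)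
    (he : ι f₁ f₂ x ^ 2 ^ k = 1) (hk : k ≤ 5) : inQ x = true := by
  have h32 : ι f₁ f₂ x ^ 32 = 1 := by
    rw [show 32 = 2 ^ k * 2 ^ (5 - k) by rw [← pow_add, show k + (5 - k) = 5 by omega]; norm_num, pow_mul, he,
      one_pow]
  have hy : ∀ y < 288, ι f₁ f₂ (kmul y y) = ι f₁ f₂ y ^ 2 := fun y hy => by rw [sq, h.ι_mul hy hy]
  have l1 := kmul_lt hx hx
  have l2 := kmul_lt l1 l1
  have l3 := kmul_lt l2 l2
  have l4 := kmul_lt l3 l3
  have := of_range_all two_power_inQ hx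
  simp only at this
  have h0 : kmul (kmul (kmul (kmul (kmul x x) (kmul x x)) (kmul (kmul x x) (kmul x x)))
      (kmul (kmul (kmul x x) (kmul x x)) (kmul (kmul x x) (kmul x x))))
      (kmul (kmul (kmul (kmul x x) (kmul x x)) (kmul (kmul x x) (kmul x x)))
      (kmul (kmul (kmul x x) (kmul x x)) (kmul (kmul x x) (kmul x x)))) = 0 := by
    refine h.ι_inj (kmul_lt l4 l4) (by norm_num) ?_
    rw [hy _ l4, hy _ l3, hy _ l2, hy _ l1, hy _ hx, h.ι_zero, ← pow_mul, ← pow_mul, ← pow_mul, ← pow_mul]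
    exact h32
  simpa [h0] using this

theorem qSub_comap_normal (h : Two z f₁ f₂) {A : Type*} [Group A] (φ : A →* G)
    (hφ : ∀ a, ∃ x < 288, ι f₁ f₂ x = φ a) : ((qSub h).comap φ).Normal := by
  refine ⟨fun n hn a => ?_⟩
  obtain ⟨q, hq, hqe⟩ := hn
  obtain ⟨k, hk, hke⟩ := hφ a
  show φ (a * n * a⁻¹) ∈ qSub h
  have key : ∀ k < 288, ∀ q, inQ q = true → inQ (kconj k q) = true := by
    intro k hk q hq
    have gen : ∀ g ∈ kgens, ∀ q, inQ q = true → inQ (kconj g q) = true := fun g hg q hq =>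
      of_all (of_all qList_closed.2.2.1 (mem_qList_iff.2 ⟨lt_of_inQ hq, hq⟩)) hg
    have step : ∀ a b, a < 288 → b < 288 → ∀ q, q < 288 → kconj (kmul a b) q = kconj a (kconj b q) := by
      intro a b ha hb q hq
      refine h.ι_inj (kconj_lt (kmul_lt ha hb) hq) (kconj_lt ha (kconj_lt hb hq)) ?_
      rw [h.ι_conj (kmul_lt ha hb) hq, h.ι_conj ha (kconj_lt hb hq), h.ι_conj hb hq, h.ι_mul ha hb]
      group
    have M1 : ∀ a < 24, ∀ b < 24, kmul (kc a 0) (kc b 0) = kc (smul a b) 0 := by decide +kernel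
    have M2 : ∀ a < 24, ∀ b < 24, kmul (kc 0 a) (kc 0 b) = kc 0 (smul a b) := by decide +kernel
    have gk : kc 1 0 = 24 ∧ kc 4 0 = 96 ∧ kc 0 1 = 1 ∧ kc 0 4 = 4 := by decide +kernel
    have s1 : ∀ a < 24, ∀ q, inQ q = true → inQ (kconj (kc a 0) q) = true := by
      refine sgen_induction (P := fun a => ∀ q, inQ q = true → inQ (kconj (kc a 0) q) = true) ?_ ?_ ?_
      · rw [gk.1]; exact gen 24 (by simp [kgens])
      · rw [gk.2.1]; exact gen 96 (by simp [kgens])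
      · intro a ha b hb pa pb q hq
        rw [← M1 a ha b hb, step _ _ (kc_lt a ha 0 (by norm_num)) (kc_lt b hb 0 (by norm_num)) q (lt_of_inQ hq)]
        exact pa _ (pb q hq)
    have s2 : ∀ a < 24, ∀ q, inQ q = true → inQ (kconj (kc 0 a) q) = true := by
      refine sgen_induction (P := fun a => ∀ q, inQ q = true → inQ (kconj (kc 0 a) q) = true) ?_ ?_ ?_
      · rw [gk.2.2.1]; exact gen 1 (by simp [kgens])
      · rw [gk.2.2.2]; exact gen 4 (by simp [kgens])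
      · intro a ha b hb pa pb q hq
        rw [← M2 a ha b hb, step _ _ (kc_lt 0 (by norm_num) a ha) (kc_lt 0 (by norm_num) b hb) q (lt_of_inQ hq)]
        exact pa _ (pb q hq)
    have hk' : k = kmul (kc (k / 24) 0) (kc 0 (k % 24)) := by
      refine h.ι_inj hk (kmul_lt (kc_lt _ (by omega) 0 (by norm_num)) (kc_lt 0 (by norm_num) _ (by omega))) ?_
      rw [h.ι_mul (kc_lt _ (by omega) 0 (by norm_num)) (kc_lt 0 (by norm_num) _ (by omega)),
        h.ι_kc (by omega) (by norm_num), h.ι_kc (by norm_num) (by omega), h.f₁_zero, h.f₂_zero, one_mul, mul_one]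
      rfl
    rw [hk', step _ _ (kc_lt _ (by omega) 0 (by norm_num)) (kc_lt 0 (by norm_num) _ (by omega)) q (lt_of_inQ hq)]
    exact s1 _ (by omega) _ (s2 _ (by omega) q hq)
  exact ⟨kconj k q, key k hk q hq, by rw [h.ι_conj hk (lt_of_inQ hq), map_mul, map_mul, map_inv, hke, hqe]⟩

/-- The hypotheses of the statement give a frame. -/
theorem exists_frame [Finite G] (z : G) (hz : orderOf z = 2) (H₁ H₂ : Subgroup (Subgroup.centralizer ({z} : Set G)))
    (hK : H₁ ⊔ H₂ = Subgroup.closure {x : Subgroup.centralizer ({z} : Set G) | Odd (orderOf x)})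
    (hn₁ : (H₁.subgroupOf (H₁ ⊔ H₂)).Normal) (hn₂ : (H₂.subgroupOf (H₁ ⊔ H₂)).Normal)
    (e₁ : H₁ ≃* Matrix.SpecialLinearGroup (Fin 2) (ZMod 3)) (e₂ : H₂ ≃* Matrix.SpecialLinearGroup (Fin 2) (ZMod 3))
    (hmeet : (H₁ ⊓ H₂).map (Subgroup.subtype (Subgroup.centralizer ({z} : Set G))) = Subgroup.zpowers z)
    (Q : Subgroup (Subgroup.centralizer ({z} : Set G))) [Q.Normal]
    (hQ : Q = (Cfsg.pCore 2 ↥(H₁ ⊔ H₂)).map (Subgroup.subtype (H₁ ⊔ H₂)))
    (hF : Cfsg.generalizedFittingSubgroup (Subgroup.centralizer ({z} : Set G)) = Q)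
    (hnwc : ∃ g : G, (∃ hq : g * z * g⁻¹ ∈ Subgroup.centralizer ({z} : Set G),
      (⟨g * z * g⁻¹, hq⟩ : Subgroup.centralizer ({z} : Set G)) ∈ Q) ∧ g * z * g⁻¹ ≠ z)
    (hH : Nat.card ↥(Subgroup.centralizer ({z} : Set G)) = 2 ^ 7 * 3 ^ 2)
    (hQQg : ∀ g : G, g * z * g⁻¹ ∈ Q.map (Subgroup.subtype (Subgroup.centralizer ({z} : Set G))) →
      g * z * g⁻¹ ≠ z → Nat.card ↥((Q.map (Subgroup.subtype (Subgroup.centralizer ({z} : Set G)))) ⊓
        (Q.map (Subgroup.subtype (Subgroup.centralizer ({z} : Set G)))).map (MulAut.conj g).toMonoidHom) = 4) :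
    ∃ f₁ f₂ : ℕ → G, Frame z f₁ f₂ := by
  classical
  haveI : Fact (Nat.Prime 2) := ⟨Nat.prime_two⟩
  have memC : ∀ {c : G}, c ∈ Subgroup.centralizer ({z} : Set G) ↔ c * z = z * c := fun {c} =>
    Subgroup.mem_centralizer_singleton_iff
  let j := (Subgroup.centralizer ({z} : Set G)).subtype
  have jinj : Function.Injective j := Subgroup.subtype_injective _
  have hn : ∀ (A B : Subgroup (Subgroup.centralizer ({z} : Set G))), A ≤ H₁ ⊔ H₂ →
      (B.subgroupOf (H₁ ⊔ H₂)).Normal → B ≤ H₁ ⊔ H₂ → ∀ a ∈ A, ∀ b ∈ B, a * b * a⁻¹ ∈ B := by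
    intro A B hA hB hB' a ha b hb
    exact hB.conj_mem ⟨b, hB' hb⟩ hb ⟨a, hA ha⟩
  obtain ⟨f₁, f₂, h, r1, r2⟩ := exists_two (z := z) (H₁.map j) (H₂.map j)
    ((Subgroup.equivMapOfInjective H₁ j jinj).symm.trans e₁)
    ((Subgroup.equivMapOfInjective H₂ j jinj).symm.trans e₂) hz
    (by rintro _ ⟨a, -, rfl⟩; exact memC.1 a.2)
    (by rw [← Subgroup.map_inf _ _ _ jinj]; exact hmeet)
    (by
      rintro _ ⟨a, ha, rfl⟩ _ ⟨b, hb, rfl⟩
      exact ⟨⟨a * b * a⁻¹, hn H₁ H₂ le_sup_left hn₂ le_sup_right a ha b hb, by simp [map_mul, map_inv]⟩,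
        ⟨b * a * b⁻¹, hn H₂ H₁ le_sup_right hn₁ le_sup_left b hb a ha, by simp [map_mul, map_inv]⟩⟩)
  have hKmem : ∀ g, g ∈ (H₁ ⊔ H₂).map j ↔ ∃ x < 288, ι f₁ f₂ x = g := by
    intro g
    have hle : (H₁ ⊔ H₂).map j ≤ kSub h := by
      rw [Subgroup.map_sup]
      refine sup_le (fun g hg => ?_) fun g hg => ?_
      · obtain ⟨a, ha, rfl⟩ := (r1 g).1 hg
        exact ⟨kc a 0, kc_lt a ha 0 (by norm_num), by rw [h.ι_kc ha (by norm_num), h.f₂_zero, mul_one]⟩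
      · obtain ⟨a, ha, rfl⟩ := (r2 g).1 hg
        exact ⟨kc 0 a, kc_lt 0 (by norm_num) a ha, by rw [h.ι_kc (by norm_num) ha, h.f₁_zero, one_mul]⟩
    refine ⟨fun hg => hle hg, ?_⟩
    rintro ⟨x, hx, rfl⟩
    rw [Subgroup.map_sup]
    exact mul_mem (Subgroup.mem_sup_left ((r1 _).2 ⟨x / 24, by omega, rfl⟩))
      (Subgroup.mem_sup_right ((r2 _).2 ⟨x % 24, by omega, rfl⟩))
  have hcentral : ∀ x < 288, ι f₁ f₂ x * z = z * ι f₁ f₂ x := fun x hx => by
    obtain ⟨a, -, ha⟩ := (hKmem _).2 ⟨x, hx, rfl⟩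
    rw [← ha]; exact memC.1 a.2
  have hacts : ∀ c : G, c * z = z * c → ∃ P < 1152, Acts f₁ f₂ c P := by
    intro c hc
    refine exists_acts h hc fun x hx => ?_
    obtain ⟨a, ha, hae⟩ := (hKmem _).2 ⟨x, hx, rfl⟩
    have hle : H₁ ⊔ H₂ ≤ (H₁ ⊔ H₂).comap (MulAut.conj (⟨c, memC.2 hc⟩ :
        Subgroup.centralizer ({z} : Set G))).toMonoidHom := by
      conv_lhs => rw [hK]
      rw [Subgroup.closure_le]
      intro y hy
      show MulAut.conj _ y ∈ H₁ ⊔ H₂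
      rw [hK]
      refine Subgroup.subset_closure ?_
      show Odd (orderOf (MulAut.conj _ y))
      rwa [MulEquiv.orderOf_eq]
    obtain ⟨y, hy, hye⟩ := (hKmem _).1 ⟨_, hle ha, rfl⟩
    refine ⟨y, hy, ?_⟩
    rw [hye, ← hae]
    simp [j]
  -- the 2-core
  have hQeq : Q.map j = qSub h := by
    rw [hQ, Subgroup.map_map]
    haveI := qSub_comap_normal h (j.comp (H₁ ⊔ H₂).subtype) fun a => (hKmem _).1 ⟨a, a.2, rfl⟩
    refine le_antisymm ?_ fun g hg => ?_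
    · rintro _ ⟨a, ha, rfl⟩
      obtain ⟨k, hk⟩ := (CfsgLib.isPGroup_pCore 2) ⟨a, ha⟩
      obtain ⟨x, hx, hxe⟩ := (hKmem _).1 ⟨a, a.2, rfl⟩
      refine ⟨x, ?_, hxe⟩
      have hdvd : orderOf (ι f₁ f₂ x) ∣ 2 ^ k := orderOf_dvd_of_pow_eq_one (by
        rw [hxe]
        have := congrArg (fun b : ↥(Cfsg.pCore 2 ↥(H₁ ⊔ H₂)) => j ((b : ↥(H₁ ⊔ H₂)) :
          Subgroup.centralizer ({z} : Set G))) hk
        simpa [j] using this)
      obtain ⟨m, -, hm⟩ := (Nat.dvd_prime_pow Nat.prime_two).1 hdvd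
      -- elements of `K` of 2-power order have order at most 32
      have hle5 : m ≤ 5 := by
        have h1 : orderOf (ι f₁ f₂ x) ∣ Nat.card ↥(kSub h) := Subgroup.orderOf_dvd_natCard _ ⟨x, hx, rfl⟩
        have hc : Nat.card ↥(kSub h) = 288 := by
          rw [← Nat.card_congr (Equiv.ofBijective (fun i : Fin 288 => (⟨ι f₁ f₂ i, i, i.2, rfl⟩ : ↥(kSub h)))
            ⟨fun a b e => Fin.ext (h.ι_inj a.2 b.2 (congrArg Subtype.val e)), by
              rintro ⟨g, x, hx, rfl⟩; exact ⟨⟨x, hx⟩, rfl⟩⟩), Nat.card_eq_fintype_card, Fintype.card_fin]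
        rw [hm, hc, show 288 = 2 ^ 5 * 3 ^ 2 by norm_num] at h1
        exact (Nat.pow_dvd_pow_iff_le_right (by norm_num)).1
          (((Nat.Coprime.pow m 2 (by norm_num : Nat.Coprime 2 3))).dvd_of_dvd_mul_right h1)
      exact h.ι_root hx m (hm ▸ pow_orderOf_eq_one _) hle5
    · obtain ⟨x, hx, rfl⟩ := hg
      obtain ⟨a, ha, hae⟩ := (hKmem _).2 ⟨x, lt_of_inQ hx, rfl⟩
      refine ⟨⟨a, ha⟩, CfsgLib.le_pCore (N := (qSub h).comap (j.comp (H₁ ⊔ H₂).subtype)) (fun b => ⟨2, ?_⟩)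
        (show j a ∈ qSub h from ⟨x, hx, hae.symm⟩), hae⟩
      obtain ⟨y, hy, hye⟩ := b.2
      refine Subtype.ext (Subtype.ext (Subtype.ext ?_))
      have hl := lt_of_inQ hy
      have h0 : kmul (kmul y y) (kmul y y) = 0 := by
        simpa using of_all q_power (mem_qList_iff.2 ⟨hl, hy⟩)
      have e4 : ι f₁ f₂ y ^ (2 ^ 2) = 1 := by
        rw [show 2 ^ 2 = 2 * 2 by norm_num, pow_mul, sq, sq, ← h.ι_mul hl hl, ← h.ι_mul (kmul_lt hl hl) (kmul_lt hl hl),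
          h0, h.ι_zero]
      simpa [hye, j] using e4
  have hes : ES (qSub h) z := by
    refine (ES.of_fitting z hz rfl (qSub h) (by rw [hF]; exact hQeq) ?_).1
    obtain ⟨q25, q24, q50, -, -, -, qne, -⟩ := q_facts
    have hm : ∀ x, inQ x = true → ι f₁ f₂ x ∈ qSub h := fun x hx => ⟨x, hx, rfl⟩
    obtain ⟨-, -, -, -, -, i12, i24, -, -, i50⟩ := qList_closed
    have hone : ∀ x, inQ x = true → ι f₁ f₂ x = 1 → x = 0 := fun x hx e =>
      h.ι_inj (lt_of_inQ hx) (by norm_num) (e.trans h.ι_zero.symm)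
    have hzero : ∀ x, inQ x = true → ι f₁ f₂ x = z → x = 12 := fun x hx e =>
      h.ι_inj (lt_of_inQ hx) (by norm_num) (e.trans h.ι_twelve.symm)
    refine isExtraspecial_of_ext2 (z := ⟨z, 12, i12, h.ι_twelve⟩) (a := ⟨_, hm 24 i24⟩) (b := ⟨_, hm 50 i50⟩)
      ⟨fun e => absurd (hone 12 i12 (h.ι_twelve.trans (congrArg Subtype.val e))) (by norm_num), fun g => ?_,
        fun g => ?_⟩ ?_
    · obtain ⟨g, x, hx, rfl⟩ := g
      refine ⟨fun hg => ?_, ?_⟩
      · have hq := of_all qList_center.1 (mem_qList_iff.2 ⟨lt_of_inQ hx, hx⟩)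
        simp only [Bool.or_eq_true, beq_iff_eq, List.any_eq_true, bne_iff_ne] at hq
        rcases hq with (rfl | rfl) | ⟨y, hy, hne⟩
        · exact Or.inl (Subtype.ext h.ι_zero)
        · exact Or.inr (Subtype.ext h.ι_twelve)
        · obtain ⟨hy', hyQ⟩ := mem_qList_iff.1 hy
          refine absurd (h.ι_inj (kmul_lt (lt_of_inQ hx) hy') (kmul_lt hy' (lt_of_inQ hx)) ?_) hne
          rw [h.ι_mul (lt_of_inQ hx) hy', h.ι_mul hy' (lt_of_inQ hx)]
          exact (congrArg Subtype.val (Subgroup.mem_center_iff.1 hg ⟨_, hm y hyQ⟩)).symm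
      · rintro (e | e) <;> rw [e]
        · exact one_mem _
        · refine Subgroup.mem_center_iff.2 fun r => Subtype.ext ?_
          obtain ⟨r, y, hy, rfl⟩ := r
          exact hcentral y (lt_of_inQ hy)
    · obtain ⟨g, x, hx, rfl⟩ := g
      have hq := of_all qList_center.2 (mem_qList_iff.2 ⟨lt_of_inQ hx, hx⟩)
      simp only [Bool.or_eq_true, beq_iff_eq] at hq
      rcases hq with e | e
      · exact Or.inl (Subtype.ext ((h.ι_mul (lt_of_inQ hx) (lt_of_inQ hx)).symm.trans (by rw [e, h.ι_zero]; rfl)))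
      · exact Or.inr (Subtype.ext ((h.ι_mul (lt_of_inQ hx) (lt_of_inQ hx)).symm.trans ((congrArg (ι f₁ f₂) e).trans h.ι_twelve)))
    · intro e
      refine qne (h.ι_inj (kmul_lt (by norm_num) (by norm_num)) (kmul_lt (by norm_num) (by norm_num)) ?_)
      rw [h.ι_mul (by norm_num) (by norm_num), h.ι_mul (by norm_num) (by norm_num)]
      exact congrArg Subtype.val e
  refine ⟨f₁, f₂, h, hacts, hes, hcentral, hH.trans (by norm_num), ?_, fun g hg => ?_⟩
  · obtain ⟨g, ⟨hq, hgQ⟩, hgz⟩ := hnwc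
    obtain ⟨x, hx, hxe⟩ : g * z * g⁻¹ ∈ qSub h := hQeq ▸ ⟨_, hgQ, rfl⟩
    have hl := lt_of_inQ hx
    have hzz : z * z = 1 := by rw [← sq, ← hz, pow_orderOf_eq_one]
    have hxx : kmul x x = 0 := h.ι_inj (kmul_lt hl hl) (by norm_num) (by
      rw [h.ι_mul hl hl, hxe, h.ι_zero, show g * z * g⁻¹ * (g * z * g⁻¹) = g * (z * z) * g⁻¹ by group, hzz]; group)
    have hx0 : x ≠ 0 := fun e => by
      rw [e, h.ι_zero, eq_comm, conj_eq_one_iff] at hxe
      rw [hxe, orderOf_one] at hz; omega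
    have hx12 : x ≠ 12 := fun e => hgz (hxe.symm.trans (by rw [e, h.ι_twelve]))
    have := of_all q_trans (mem_qList_iff.2 ⟨hl, hx⟩)
    simp only [hxx, bne_self_eq_false, Bool.false_or, Bool.or_eq_true, beq_iff_eq, hx0, hx12, false_or,
      List.any_eq_true, List.mem_range] at this
    obtain ⟨k, hk, hke⟩ := this
    exact ⟨ι f₁ f₂ k * g, by rw [← hke, h.ι_conj hk hl, hxe]; group⟩
  · have h25 : ι f₁ f₂ 25 ∈ qSub h := ⟨25, qList_closed.2.2.2.2.2.2.2.2.1, rfl⟩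
    have hne : g * z * g⁻¹ ≠ z := fun e => absurd (h.ι_inj (x := 25) (y := 12) (by norm_num) (by norm_num)
      (hg.symm.trans (e.trans h.ι_twelve.symm))) (by norm_num)
    have := hQQg g (by rw [show Q.map _ = qSub h from hQeq, hg]; exact h25) hne
    rw [show Q.map _ = qSub h from hQeq] at this
    exact this

end CfsgU43Type
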