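import Cfsg.Agent.Lib.U43Type.Codes

/-!
Groups of U₄(3) type: kernel checks for the elementary abelian groups of order sixteen in the model.
-/

set_option autoImplicit false
set_option maxRecDepth 100000
set_option Elab.async false

namespace CfsgU43Type

/-- The four-group. -/
def eList : List ℕ := [0, 48, 100, 148]

/-- The first elementary abelian group of order sixteen. -/
def aList : List ℕ := [0, 1, 48, 49, 100, 101, 148, 149, 200, 201, 248, 249, 300, 301, 348, 349]

/-- Its image under the twist. -/
def aList' : List ℕ := [0, 3, 48, 51, 100, 103, 148, 151, 204, 207, 252, 255, 296, 299, 344, 347]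

/-- The part inside the quaternion product, without the centre. -/
def sixList : List ℕ := [100, 148, 200, 248, 300, 348]

/-- The part outside the quaternion product. -/
def eightList : List ℕ := [1, 49, 101, 149, 201, 249, 301, 349]

/-- Whether conjugation by `h` fixes the list. -/
def fixes (L : List ℕ) (h : ℕ) : Bool := L.all fun p => L.contains (mconj h p)

theorem aList_group : (aList.all fun p => decide (p < 1152) && mmul p p == 0 &&
    aList.all fun q => mmul p q == mmul q p && aList.contains (mmul p q)) = true ∧ aList.Nodup ∧
    aList'.Nodup ∧ (aList'.all fun p => decide (p < 1152)) = true ∧ (twist 0 = 0) := by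
  decide +kernel

theorem aList_split : (aList.all fun p => p == 0 || p == 48 || sixList.contains p || eightList.contains p) = true ∧
    (sixList.all fun p => aList.contains p && inQm p && p != 48 && p != 0) = true ∧
    (eightList.all fun p => aList.contains p && !inQm p && p != 48 && p != 0) = true ∧
    (aList.all fun p => inQm p == (p == 0 || p == 48 || sixList.contains p)) = true := by
  decide +kernel

theorem aList_twist : (aList.all fun p => aList'.contains (twist p)) = true ∧
    (aList'.all fun p => aList.any fun q => twist q == p) = true ∧
    (aList.all fun p => aList'.contains p == eList.contains p) = true := by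
  decide +kernel

/-- An involution centralising the four-group lies in one of the two lists. -/
theorem cent_invol : ((List.range 1152).all fun p => mmul p p != 0 || mmul p 100 != mmul 100 p ||
    aList.contains p || aList'.contains p) = true := by
  decide +kernel

theorem lists_noncommute : (aList.all fun p => aList'.all fun q => eList.contains p || eList.contains q ||
    mmul p q != mmul q p) = true := by
  decide +kernel

theorem cent_fixes : ((List.range 1152).all fun h => mmul h 100 != mmul 100 h ||
    (fixes aList h && fixes aList' h)) = true := by
  decide +kernel

theorem shift_fixes : fixes aList 192 = true ∧ fixes aList 2 = true ∧ mconj 192 100 = 148 ∧ mconj 192 48 = 48 ∧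
    mconj 192 148 = 100 ∧ mconj 2 1 = 49 ∧ mconj 2 49 = 1 ∧ mconj 2 400 = 800 ∧ mconj 2 800 = 400 := by
  decide +kernel

/-- The normaliser in the centraliser is transitive on both parts. -/
theorem parts_trans : (sixList.all fun p => (List.range 1152).any fun h => mconj h 100 == p && fixes aList h) = true ∧
    (eightList.all fun p => (List.range 1152).any fun h => mconj h 1 == p && fixes aList h) = true := by
  decide +kernel

/-- An element of the normaliser fixes the two parts. -/
theorem fixes_six : ((List.range 1152).all fun h => !fixes aList h ||
    sixList.all fun p => sixList.contains (mconj h p)) = true := by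
  decide +kernel

/-- Every involution is conjugate to one of four. -/
theorem invol_cases : ((List.range 1152).all fun p => mmul p p != 0 || p == 0 ||
    (List.range 1152).any fun h => mconj h p == 48 || mconj h p == 100 || mconj h p == 1 || mconj h p == 3) = true := by
  decide +kernel

/-- Only the centre commutes with the quaternion product. -/
theorem cent_q : ((List.range 1152).all fun h => h == 0 || h == 48 ||
    [96, 4, 192, 8].any fun q => mmul h q != mmul q h) = true ∧ inQm 96 = true ∧ inQm 4 = true ∧ inQm 192 = true ∧
    inQm 8 = true := by
  decide +kernel

/-- The centraliser of the four-group on the first involution outside the quaternion product. -/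
theorem centV : ((List.range 1152).all fun h => mmul h 1 != mmul 1 h ||
    aList.any fun a => [0, 400, 800].any fun d => mmul a d == h) = true ∧
    ((List.range 1152).all fun h => mmul h 1 != mmul 1 h ||
      ((mmul h h != 0 || aList.contains h) && (h == 0 || mmul h (mmul h h) != 0 ||
        aList.any fun a => mconj a h == 400 || mconj a h == 800))) = true := by
  decide +kernel

/-- The commutators of the first diagonal element with the list. -/
theorem comm_d : (aList.all fun a => [0, 100, 200, 300].contains (mmul (mconj 400 a) a) &&
    (mconj 400 a != a || [0, 1, 48, 49].contains a)) = true ∧ mmul (mconj 400 200) 200 ≠ 0 ∧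
    mconj 400 100 ∈ [200, 300] ∧ mconj 400 (mconj 400 (mconj 400 100)) = 100 ∧
    (([100, 200, 300] : List ℕ).all fun a => aList.contains a && [100, 200, 300].contains (mconj 400 a) &&
      mconj 400 a != a) = true ∧ mmul 400 (mmul 400 400) = 0 ∧ mmul 400 400 = 800 ∧ mmul 400 1 = mmul 1 400 := by
  decide +kernel

end CfsgU43Type
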