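import Mathlib

/-!
Groups of U₄(3) type: the arithmetic at the end of the count.
-/

set_option autoImplicit false

namespace CfsgU43Type

theorem arith_one {a e r q : ℕ} (ha : r * e + 1 = a) (he : Even e) (he0 : 0 < e) (hq : 81 * (q * a) = 1683 + 1152 * r) :
    1683 + 1152 * r = 2835 := by
  obtain ⟨f, rfl⟩ := he
  obtain ⟨j, rfl⟩ : ∃ j, r = 9 * j + 1 := ⟨r / 9, by omega⟩
  by_contra hne
  have hj : 1 ≤ j := by omega
  obtain ⟨P, hP⟩ : ∃ P, q * (f + f) = P := ⟨_, rfl⟩
  have key : P * (9 * j + 1) + q = 35 + 128 * j := by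
    have : q * a = P * (9 * j + 1) + q := by rw [← hP, ← ha]; ring
    omega
  have hqP : q + q ≤ P := by
    have := Nat.mul_le_mul_left q (show 2 ≤ f + f by omega)
    omega
  have hP18 : P ≤ 18 := by
    by_contra h
    have := Nat.mul_le_mul_right (9 * j + 1) (show 19 ≤ P by omega)
    omega
  have hP2 : 2 * (q * f) = P := by rw [← hP]; ring
  interval_cases P <;> first
    | omega
    | (obtain rfl : q = 3 := by omega
       omega)

set_option maxHeartbeats 1600000 in
theorem arith_two {a b e f r s q : ℕ} (hab : a < b) (ha5 : 5 ≤ a) (hr : r * e + 1 = a) (hs : s * f + 1 = b)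
    (he : 2 ≤ e) (hf : 2 ≤ f) (hq : 81 * (q * a * b) = 1683 + 1152 * (r + s)) : False := by
  obtain ⟨j, hj⟩ : ∃ j, r + s = 9 * j + 1 := ⟨(r + s) / 9, by omega⟩
  have key : q * a * b = 35 + 128 * j := by omega
  have hq0 : 1 ≤ q := by
    rcases Nat.eq_zero_or_pos q with h | h
    · rw [h] at key; omega
    · exact h
  have hr1 : 1 ≤ r := by
    rcases Nat.eq_zero_or_pos r with h | h
    · rw [h] at hr; omega
    · exact h
  have hs1 : 1 ≤ s := by
    rcases Nat.eq_zero_or_pos s with h | h
    · rw [h] at hs; omega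
    · exact h
  have hr2 : r + r < a := by nlinarith
  have hs2 : s + s < b := by nlinarith
  have ha15 : a ≤ 15 := by
    by_contra h
    have h1 := Nat.mul_le_mul_right b (show 16 ≤ a by omega)
    have h2 : a * b ≤ q * a * b := by
      rw [Nat.mul_assoc]
      exact Nat.le_mul_of_pos_left _ hq0
    omega
  have hj2 : 2 ≤ j := by
    by_contra h
    obtain rfl : j = 1 := by omega
    have hdvd : a ∣ 163 := ⟨q * b, by rw [show 163 = 35 + 128 * 1 from rfl, ← key]; ring⟩
    interval_cases a <;> omega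
  have hP : q * a * f ≤ 24 := by
    have h1 : q * a * f * (9 * j + 1 - r) ≤ 35 + 128 * j := by
      rw [← key, ← hs, show 9 * j + 1 - r = s by omega]
      nlinarith
    have h2 : 9 * j - 6 ≤ 9 * j + 1 - r := by omega
    have h3 := (Nat.mul_le_mul_left (q * a * f) h2).trans h1
    obtain ⟨i, rfl⟩ : ∃ i, j = i + 2 := ⟨j - 2, by omega⟩
    rw [show 9 * (i + 2) - 6 = 9 * i + 12 by omega] at h3
    by_contra h
    have h4 := Nat.mul_le_mul_right (9 * i + 12) (show 25 ≤ q * a * f by omega)
    omega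
  have hq2 : q = 1 := by
    rcases Nat.lt_or_ge q 2 with h | h
    · omega
    · have h20 : 20 ≤ q * a * f := by
        have := Nat.mul_le_mul (Nat.mul_le_mul h ha5) hf
        omega
      have hqa : q * a ≤ 12 := by
        have := Nat.mul_le_mul_left (q * a) hf
        omega
      have hq' : q = 2 := by
        by_contra hne
        have := Nat.mul_le_mul (show 3 ≤ q by omega) ha5
        omega
      subst hq'
      rw [Nat.mul_assoc] at key
      omega
  subst hq2
  rw [one_mul] at key hP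
  have ha11 : a ≤ 12 := by
    have := Nat.mul_le_mul_left a hf
    omega
  have hf4 : f ≤ 4 := by
    have := Nat.mul_le_mul_right f ha5
    omega
  rw [← hs] at key
  interval_cases a <;> interval_cases f <;> omega

theorem three_bound : ∀ S : Finset ℕ, (∀ a ∈ S, 5 ≤ a ∧ Odd a) → 3 ≤ S.card →
    35 * ∑ a ∈ S, a ≤ 3 * ∏ a ∈ S, a := by
  intro S
  induction S using Finset.induction_on with
  | empty => simp
  | @insert x S hx ih =>
    intro h hc
    rw [Finset.card_insert_of_notMem hx] at hc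
    rw [Finset.sum_insert hx, Finset.prod_insert hx]
    have hx5 := (h x (Finset.mem_insert_self _ _)).1
    have hS : ∀ a ∈ S, 5 ≤ a ∧ Odd a := fun a ha => h a (Finset.mem_insert_of_mem ha)
    by_cases h3 : 3 ≤ S.card
    · have hi := ih hS h3
      obtain ⟨a, ha⟩ := Finset.card_pos.1 (show 0 < S.card by omega)
      have h5 : 5 ≤ ∑ a ∈ S, a := (hS a ha).1.trans (Finset.single_le_sum (f := fun a => a) (fun _ _ => Nat.zero_le _) ha)
      nlinarith
    · obtain ⟨a, b, hab, rfl⟩ := Finset.card_eq_two.1 (show S.card = 2 by omega)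
      simp only [Finset.mem_insert, Finset.mem_singleton, not_or] at hx
      rw [Finset.sum_pair hab, Finset.prod_pair hab]
      obtain ⟨⟨a5, i, ai⟩, ⟨b5, j, bj⟩⟩ := And.intro (hS a (by simp)) (hS b (by simp))
      obtain ⟨-, k, xk⟩ := h x (Finset.mem_insert_self _ _)
      obtain ⟨hxa, hxb⟩ := hx
      subst ai bj xk
      have p1 : 35 ≤ (2 * i + 1) * (2 * j + 1) := by
        rcases Nat.lt_or_ge i 3 with h | h
        · nlinarith [show 3 ≤ j by omega, show 2 ≤ i by omega]
        · nlinarith [show 2 ≤ j by omega]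
      have p2 : 35 ≤ (2 * k + 1) * (2 * j + 1) := by
        rcases Nat.lt_or_ge k 3 with h | h
        · nlinarith [show 3 ≤ j by omega, show 2 ≤ k by omega]
        · nlinarith [show 2 ≤ j by omega]
      have p3 : 35 ≤ (2 * k + 1) * (2 * i + 1) := by
        rcases Nat.lt_or_ge k 3 with h | h
        · nlinarith [show 3 ≤ i by omega, show 2 ≤ k by omega]
        · nlinarith [show 2 ≤ i by omega]
      nlinarith [Nat.mul_le_mul_left (2 * k + 1) p1, Nat.mul_le_mul_left (2 * i + 1) p2,
        Nat.mul_le_mul_left (2 * j + 1) p3]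

/-- The number of involutions is determined. -/
theorem arith_final {n : ℕ} (S : Finset ℕ) (r : ℕ → ℕ) (h81 : 81 ∣ n) (hn : n = 1683 + 1152 * ∑ a ∈ S, r a)
    (hS : ∀ a ∈ S, 1 < a ∧ a.Coprime 6 ∧ a ∣ n ∧ ∃ e, Even e ∧ r a * e + 1 = a)
    (hco : (S : Set ℕ).Pairwise Nat.Coprime) : n = 2835 := by
  classical
  have hodd : ∀ a ∈ S, 5 ≤ a ∧ Odd a := fun a ha => by
    obtain ⟨h1, h6, -, -⟩ := hS a ha
    have h2 : ¬ 2 ∣ a := fun h => by
      have := Nat.dvd_gcd h (show 2 ∣ 6 by norm_num)
      rw [Nat.coprime_iff_gcd_eq_one.1 h6] at this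
      omega
    have h3 : ¬ 3 ∣ a := fun h => by
      have := Nat.dvd_gcd h (show 3 ∣ 6 by norm_num)
      rw [Nat.coprime_iff_gcd_eq_one.1 h6] at this
      omega
    exact ⟨by omega, Nat.odd_iff.2 (by omega)⟩
  have hprod : 81 * ∏ a ∈ S, a ∣ n := by
    refine Nat.Coprime.mul_dvd_of_dvd_of_dvd (Nat.Coprime.prod_right fun a ha => ?_) h81
      (Finset.prod_dvd_of_isRelPrime (fun a ha b hb h => Nat.coprime_iff_isRelPrime.1 (hco ha hb h))
        fun a ha => (hS a ha).2.2.1)
    exact ((Nat.Coprime.coprime_dvd_right (show 3 ∣ 6 by norm_num) (hS a ha).2.1).symm.pow_left 4)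
  have hev : ∀ a ∈ S, ∃ e, 2 ≤ e ∧ Even e ∧ r a * e + 1 = a := fun a ha => by
    obtain ⟨e, he, hre⟩ := (hS a ha).2.2.2
    refine ⟨e, ?_, he, hre⟩
    have := (hodd a ha).1
    obtain ⟨f, rfl⟩ := he
    rcases Nat.eq_zero_or_pos f with h | h
    · rw [h] at hre; omega
    · omega
  obtain ⟨q, hq⟩ := hprod
  rcases Nat.lt_or_ge S.card 3 with h | h
  · interval_cases hc : S.card
    · rw [Finset.card_eq_zero.1 hc] at hn
      simp only [Finset.sum_empty] at hn
      omega
    · obtain ⟨a, rfl⟩ := Finset.card_eq_one.1 hc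
      rw [Finset.sum_singleton] at hn
      rw [Finset.prod_singleton] at hq
      obtain ⟨e, he2, he, hre⟩ := hev a (Finset.mem_singleton_self a)
      rw [hn]
      exact arith_one (q := q) hre he (by omega) (by rw [← hn, hq]; ring)
    · obtain ⟨a, b, hab, rfl⟩ := Finset.card_eq_two.1 hc
      rw [Finset.sum_pair hab] at hn
      rw [Finset.prod_pair hab] at hq
      obtain ⟨e, he2, -, hre⟩ := hev a (by simp)
      obtain ⟨f, hf2, -, hsf⟩ := hev b (by simp)
      rcases Nat.lt_or_ge a b with hlt | hge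
      · exact (arith_two (q := q) hlt (hodd a (by simp)).1 hre hsf he2 hf2 (by rw [← hn, hq]; ring)).elim
      · exact (arith_two (q := q) (show b < a by omega) (hodd b (by simp)).1 hsf hre hf2 he2
          (by rw [Nat.add_comm (r b), ← hn, hq]; ring)).elim
  · exfalso
    have hb := three_bound S hodd h
    have hr : 2 * ∑ a ∈ S, r a ≤ ∑ a ∈ S, a := by
      rw [Finset.mul_sum]
      refine Finset.sum_le_sum fun a ha => ?_
      obtain ⟨e, he, -, hre⟩ := hev a ha
      nlinarith
    obtain ⟨a, ha⟩ := Finset.card_pos.1 (show 0 < S.card by omega)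
    have h5 : 15 ≤ ∑ a ∈ S, a := by
      have := Finset.card_nsmul_le_sum S (fun a => a) 5 fun a ha => (hodd a ha).1
      rw [smul_eq_mul] at this
      omega
    have hq1 : 81 * ∏ a ∈ S, a ≤ n := Nat.le_of_dvd (by omega) ⟨q, hq⟩
    omega

end CfsgU43Type
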