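import Cfsg.Agent.Lib.U43Type.Untyped

/-!
Groups of U₄(3) type: centralisers of the elements of the elementary group, and a property of the centraliser of a
diagonal element.
-/

set_option autoImplicit false
set_option maxRecDepth 100000
set_option linter.unusedSectionVars false

namespace CfsgU43Type

variable {G : Type*} [Group G] {z : G} {φ : ℕ → G} {B : Subgroup G} {θ : ℕ → G} {e e' : G} [Finite G]

theorem card_cent_conj (g x : G) : Nat.card ↥(Subgroup.centralizer ({g * x * g⁻¹} : Set G)) =
    Nat.card ↥(Subgroup.centralizer ({x} : Set G)) := by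
  have h : Subgroup.centralizer ({g * x * g⁻¹} : Set G) =
      (Subgroup.centralizer ({x} : Set G)).map (MulAut.conj g).toMonoidHom := by
    ext y
    constructor
    · intro hy
      replace hy := Subgroup.mem_centralizer_singleton_iff.1 hy
      refine ⟨g⁻¹ * y * g, Subgroup.mem_centralizer_singleton_iff.2 ?_, by
        simp only [MulEquiv.coe_toMonoidHom, MulAut.conj_apply]; group⟩
      calc g⁻¹ * y * g * x = g⁻¹ * (y * (g * x * g⁻¹)) * g := by group
        _ = g⁻¹ * ((g * x * g⁻¹) * y) * g := by rw [hy]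
        _ = _ := by group
    · rintro ⟨t, ht, rfl⟩
      replace ht : t * x = x * t := Subgroup.mem_centralizer_singleton_iff.1 ht
      refine Subgroup.mem_centralizer_singleton_iff.2 ?_
      show g * t * g⁻¹ * (g * x * g⁻¹) = g * x * g⁻¹ * (g * t * g⁻¹)
      calc g * t * g⁻¹ * (g * x * g⁻¹) = g * (t * x) * g⁻¹ := by group
        _ = _ := by rw [ht]; group
  rw [h, Subgroup.card_map_of_injective (f := (MulAut.conj g).toMonoidHom)
    (show Function.Injective (MulAut.conj g).toMonoidHom from (MulAut.conj g).injective)]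

theorem four_types : ([4, 5, 7, 8].all fun u => decide (u < 81) && lapp lZ u == u &&
    !([0, 1, 2, 3, 6].contains u)) = true ∧ ([16, 32, 768].all fun p => (List.range 1152).any fun m =>
      mconj m 384 == p) = true ∧ tList.all (fun p => [0, 400, 800, 416, 784, 384, 768, 16, 32].contains p) = true := by
  decide +kernel

/-- The last four vectors are conjugates of `φ 384`. -/
theorem Base.four_conj (D : Base z φ B θ e e') {u : ℕ} (hu : u ∈ [4, 5, 7, 8]) :
    ∃ h, h * φ 384 * h⁻¹ = θ u := by
  have hu' := of_all four_types.1 hu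
  simp only [Bool.and_eq_true, decide_eq_true_eq, beq_iff_eq, Bool.not_eq_true', ← Bool.not_eq_true, List.contains_iff_mem,
    List.mem_cons, List.not_mem_nil, or_false, not_or] at hu'
  obtain ⟨⟨hlt, hfix⟩, h0, h1, h2, h3, h6⟩ := hu'
  have hz : θ u * z = z * θ u := (mul_inv_eq_iff_eq_mul.1 (by rw [D.az u hlt, hfix])).symm
  obtain ⟨p, hp, hpe⟩ := (D.data.cent _).1 hz
  have hB : φ p ∈ B := hpe ▸ (D.coord.mem _).2 ⟨u, hlt, rfl⟩
  obtain ⟨hc, ho⟩ := (D.odd.mem_iff _).1 hB
  have hc' := hc.all D.data (show 400 ∈ tList by simp [tList])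
  have hpT : p ∈ tList := by
    have := of_range_all CfsgU43Type.cent_d hp
    simpa [D.data.nine_of_odd hp ho, (D.data.commute_iff hp (by norm_num)).1 hc'] using this
  have e0 : θ 0 = φ 0 := by rw [D.coord.zero, D.data.one]
  have e2 : θ 2 = θ 1 * θ 1 := by
    rw [← D.coord.add 1 (by norm_num) 1 (by norm_num), show vadd 1 1 = 2 by decide +kernel]
  have e6 : θ 6 = φ 784 := by
    rw [show 6 = vadd 3 3 by decide +kernel, D.coord.add 3 (by norm_num) 3 (by norm_num), D.t3,
      ← D.data.mul _ (by norm_num) _ (by norm_num), show mmul 416 416 = 784 by decide +kernel]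
  have hne : ∀ a, a < 81 → u ≠ a → θ a ≠ φ p := fun a ha hne h =>
    hne (D.coord.inj u hlt a ha (hpe.symm.trans h.symm))
  have hcases := of_all four_types.2.2 hpT
  simp only [List.contains_iff_mem, List.mem_cons, List.not_mem_nil, or_false] at hcases
  have h400 : φ 400 * φ 400 = φ 800 := D.data.code_prod (by norm_num) (by norm_num) (by decide +kernel)
  have h800 : φ 800 * φ 800 = φ 400 := D.data.code_prod (by norm_num) (by norm_num) (by decide +kernel)
  have key : p = 384 ∨ p ∈ [16, 32, 768] := by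
    rcases hcases with rfl | rfl | rfl | rfl | rfl | h | h | h | h
    · exact absurd e0 (hne 0 (by norm_num) h0)
    · rcases D.t1 with t | t
      · exact absurd t (hne 1 (by norm_num) h1)
      · exact absurd (by rw [e2, t, h800]) (hne 2 (by norm_num) h2)
    · rcases D.t1 with t | t
      · exact absurd (by rw [e2, t, h400]) (hne 2 (by norm_num) h2)
      · exact absurd t (hne 1 (by norm_num) h1)
    · exact absurd D.t3 (hne 3 (by norm_num) h3)
    · exact absurd e6 (hne 6 (by norm_num) h6)
    · exact Or.inl h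
    all_goals exact Or.inr (by simp [h])
  rcases key with rfl | h
  · exact ⟨1, by rw [← hpe]; group⟩
  · have := of_all four_types.2.1 h
    simp only [List.any_eq_true, List.mem_range, beq_iff_eq] at this
    obtain ⟨m, hm, rfl⟩ := this
    exact ⟨φ m, by rw [← hpe, D.data.conj hm (by norm_num)]⟩

/-- A vector that is not diagonal is conjugate to `φ 384`. -/
theorem Base.not_diag_conj (D : Base z φ B θ e e') {a : ℕ} (ha : a < 81) (ha0 : a ≠ 0) (hd : ¬ IsDiag a) :
    ∃ g, g * φ 384 * g⁻¹ = θ a := by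
  have := of_range_all vectors_types ha
  simp only [Bool.or_eq_true, beq_iff_eq, ha0, false_or, List.any_eq_true, List.contains_iff_mem] at this
  obtain ⟨L, hL, hu⟩ := this
  have hu4 : lapp L a ∈ [4, 5, 7, 8] := by
    by_contra h
    refine hd ⟨L, hL, ?_⟩
    simp only [List.mem_cons, List.not_mem_nil, or_false] at hu h ⊢
    tauto
  obtain ⟨k, hk⟩ := D.exists_act hL
  obtain ⟨g, hg⟩ := D.four_conj hu4
  refine ⟨k⁻¹ * g, ?_⟩
  rw [show k⁻¹ * g * φ 384 * (k⁻¹ * g)⁻¹ = k⁻¹ * (g * φ 384 * g⁻¹) * k by group, hg, ← hk a ha]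
  group

/-- The centralisers of the elements of the elementary group. -/
theorem Base.card_cent_mem (D : Base z φ B θ e e') {O : Subgroup G} {vw : ℕ} (W : WData z φ B θ O vw) {x : G}
    (hx : x ∈ B) (hx1 : x ≠ 1) :
    Nat.card ↥(Subgroup.centralizer ({x} : Set G)) = 972 ∨
      Nat.card ↥(Subgroup.centralizer ({x} : Set G)) = 5832 := by
  obtain ⟨a, ha, rfl⟩ := (D.coord.mem x).1 hx
  have ha0 : a ≠ 0 := fun h => hx1 (by rw [h, D.coord.zero])
  by_cases hd : IsDiag a
  · exact Or.inl (D.card_diag_cent ha hd)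
  · obtain ⟨g, hg⟩ := D.not_diag_conj ha ha0 hd
    exact Or.inr (by rw [← hg, card_cent_conj, W.cardX])

theorem lStab_fix : ((List.range 81).all fun v => (lList.any fun L => [1, 2, 3, 6].contains (lapp L v)) || v == 0 ||
    lStab.any fun L => L != lone && lapp L v == v) = true := by
  decide +kernel

/-- No element with a large centraliser meets the centraliser of the first coordinate in a group of order
eighty-one. -/
theorem Base.diag81 (D : Base z φ B θ e e') {w' : G} (hc : w' * θ 1 = θ 1 * w') (h3 : w' ^ 3 = 1) (h1 : w' ≠ 1)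
    (hcard : Nat.card ↥(Subgroup.centralizer ({w'} : Set G)) = 5832) :
    Nat.card ↥(Subgroup.centralizer ({θ 1} : Set G) ⊓ Subgroup.centralizer ({w'} : Set G)) ≠ 81 := by
  classical
  intro hI
  obtain ⟨I, hIdef⟩ : ∃ I, Subgroup.centralizer ({θ 1} : Set G) ⊓ Subgroup.centralizer ({w'} : Set G) = I := ⟨_, rfl⟩
  rw [hIdef] at hI
  have hmI : ∀ g, g ∈ I ↔ g * θ 1 = θ 1 * g ∧ g * w' = w' * g := fun g => by
    rw [← hIdef]
    exact and_congr Subgroup.mem_centralizer_singleton_iff Subgroup.mem_centralizer_singleton_iff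
  obtain ⟨L, hL, hwL⟩ := (D.cent_d w').1 hc
  have hLl : L ∈ lList := (List.mem_filter.1 hL).1
  by_cases hB : w' ∈ B
  · obtain ⟨v, hv, rfl⟩ := (D.coord.mem _).1 hB
    have hv0 : v ≠ 0 := fun h => h1 (by rw [h, D.coord.zero])
    have hnd : ¬ IsDiag v := fun hd => by rw [D.card_diag_cent hv hd] at hcard; norm_num at hcard
    have := of_range_all lStab_fix hv
    simp only [Bool.or_eq_true, beq_iff_eq, hv0, or_false, List.any_eq_true, List.contains_iff_mem, Bool.and_eq_true,
      bne_iff_ne] at this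
    obtain ⟨M, hM, hM1, hMv⟩ := this.resolve_left fun ⟨M, hM, hu⟩ => hnd ⟨M, hM, hu⟩
    have hBI : B ≤ I := fun b hb => (hmI b).2 ⟨D.coord.comm hb ((D.coord.mem _).2 ⟨1, by norm_num, rfl⟩),
      D.coord.comm hb hB⟩
    obtain ⟨k, hk⟩ := D.exists_act (List.mem_filter.1 hM).1
    have hkI : k ∈ I := (hmI k).2 ⟨(D.fix_one hk).2 (by simpa using (List.mem_filter.1 hM).2),
      mul_inv_eq_iff_eq_mul.1 (by rw [hk v hv, hMv])⟩
    have hkB : k ∈ B := (Subgroup.eq_of_le_of_card_ge hBI (by rw [hI, D.card_B])).ge hkI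
    exact hM1 (D.code_eq (List.mem_filter.1 hM).1 hk lone_mem (D.coord.act_self hkB))
  · have hL1 : L ≠ lone := fun h => hB (D.mem_of_act_one (h ▸ hwL))
    have hL3 : lmul L (lmul L L) = lone := D.cube_code (k := 1) hLl hwL (by rw [pow_one, h3])
    have h9 : (fixVec L).length = 9 := by
      have := of_all lThree_fix (show L ∈ lThree from List.mem_filter.2 ⟨hLl, by simp [hL3, hL1]⟩)
      simp only [Bool.and_eq_true, beq_iff_eq] at this
      exact this.1.1
    obtain ⟨C, hC⟩ : ∃ C, Subgroup.centralizer ({θ 1} : Set G) = C := ⟨_, rfl⟩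
    have hIC : I ≤ C := hIdef ▸ hC ▸ inf_le_left
    have hBC : B ≤ C := fun y hy => hC ▸ Subgroup.mem_centralizer_singleton_iff.2
      (D.coord.comm hy ((D.coord.mem _).2 ⟨1, by norm_num, rfl⟩))
    haveI : (B.subgroupOf C).Normal := ⟨fun n hn g => (Subgroup.mem_normalizer_iff.1
      (D.cent_d_normal (Subgroup.mem_centralizer_singleton_iff.1 (hC.symm ▸ g.2))) _).1 hn⟩
    have e1 := Subgroup.relIndex_dvd_index_of_normal (B.subgroupOf C) (I.subgroupOf C)
    rw [Subgroup.relIndex_subgroupOf hIC] at e1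
    have e2 := (B.subgroupOf C).card_mul_index
    rw [Nat.card_congr (Subgroup.subgroupOfEquivOfLe hBC).toEquiv, D.card_B, ← hC, D.card_cent_d] at e2
    rw [← hC, show (B.subgroupOf (Subgroup.centralizer ({θ 1} : Set G))).index = 12 by omega] at e1
    have e3 : Nat.card ↥(B.subgroupOf I) * B.relIndex I = 81 := hI ▸ (B.subgroupOf I).card_mul_index
    have e4 : B.relIndex I ∣ 3 := (show Nat.gcd 12 81 = 3 from rfl) ▸ Nat.dvd_gcd e1 (Dvd.intro_left _ e3)
    have e5 := Nat.le_of_dvd (by norm_num) e4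
    haveI := Fintype.ofFinite ↥(B.subgroupOf I)
    choose a ha hae using fun x : B.subgroupOf I => (D.coord.mem ((x : I) : G)).1 x.2
    have : Nat.card ↥(B.subgroupOf I) ≤ 9 := by
      rw [Nat.card_eq_fintype_card, ← Finset.card_univ]
      refine (Finset.card_le_card_of_injOn (t := (fixVec L).toFinset) a (fun x _ => ?_) fun x _ y _ h => ?_).trans
        ((List.toFinset_card_le _).trans h9.le)
      · rw [Finset.mem_coe, List.mem_toFinset]
        refine List.mem_filter.2 ⟨List.mem_range.2 (ha x), ?_⟩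
        rw [beq_iff_eq]
        refine D.coord.act_apply hwL (ha x) (ha x) ?_
        rw [hae x, ← ((hmI _).1 (x : I).2).2, mul_inv_cancel_right]
      · exact Subtype.ext (Subtype.ext (by rw [← hae x, ← hae y, h]))
    nlinarith

end CfsgU43Type
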