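import Cfsg.Agent.Lib.U43Type.TChecks

/-!
Groups of U₄(3) type: kernel checks for the construction of the group of order eighty-one.
-/

set_option autoImplicit false
set_option maxRecDepth 100000
set_option Elab.async false

namespace CfsgU43Type

/-- The product of powers of the two diagonal elements. -/
def tPair (i j : ℕ) : ℕ := mmul ([0, 400, 800].getD i 0) ([0, 416, mmul 416 416].getD j 0)

theorem cList_four : (tList.all fun p => [p, mmul p 48].all fun h =>
    mmul (mmul h h) (mmul h h) != 0 || h == 0 || h == 48) = true ∧
    (tList.all fun p => mcube (mcube (mmul p 48)) != 0) = true := by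
  decide +kernel

theorem cent_d : ((List.range 1152).all fun h => mmul h 400 != mmul 400 h || mcube (mcube h) != 0 ||
    tList.contains h) = true := by
  decide +kernel

theorem tPair_all : (tList.all fun q => (List.range 3).any fun i => (List.range 3).any fun j =>
    tPair i j == q) = true ∧ ((List.range 3).all fun i => (List.range 3).all fun j =>
    tList.contains (tPair i j) && (tPair i j != 0 || (i == 0 && j == 0))) = true := by
  decide +kernel

theorem t_gen : (tList.all fun p => [0, 400, 800].contains p || tList.all fun q =>
    (List.range 3).any fun i => (List.range 3).any fun j =>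
      mmul ([0, 400, 800].getD i 0) ([0, p, mmul p p].getD j 0) == q) = true := by
  decide +kernel

theorem tau_T : (tList.all fun p => tList.contains (mconj 2 p)) = true ∧
    mconj 2 384 ∈ tList ∧ mconj 2 16 ∈ tList ∧ mconj 2 416 ∈ tList := by
  decide +kernel

theorem inv_facts : mconj 1 400 = 400 ∧ mconj 1 416 = mmul 416 416 ∧ mconj 48 400 = 400 ∧ mconj 48 416 = 416 ∧
    mconj 49 416 = mmul 416 416 ∧ mconj 2 400 = mmul 400 400 ∧ mconj 2 416 = mmul 416 416 ∧ mconj 49 400 = 400 := by
  decide +kernel

end CfsgU43Type
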