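import Cfsg.Agent.Lib.U43Type.OddPart

/-!
Groups of U₄(3) type: the odd part of the centraliser of the group of order nine is generated by three conjugates
of it.
-/

set_option autoImplicit false
set_option maxRecDepth 100000
set_option linter.unusedSectionVars false

namespace CfsgU43Type

variable {G : Type*} [Group G] {z : G} {φ : ℕ → G}

/-- The properties used of the element of order three. -/
structure Cyc (z : G) (φ : ℕ → G) (e : G) : Prop where
  comm : e * φ 400 = φ 400 * e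
  one : e * z * e⁻¹ = φ 1
  two : e * φ 1 * e⁻¹ = φ 49
  three : e * φ 49 * e⁻¹ = z
  cube : e * e * e = 1

/-- The four-group. -/
def vList : List ℕ := [0, 1, 48, 49]

theorem vList_group : (vList.all fun p => decide (p < 1152) && mmul p p == 0 &&
    (vList.all fun q => vList.contains (mmul p q) && mmul p q == mmul q p) &&
    tList.all fun t => tList.contains (mconj p t)) = true := by
  decide +kernel

theorem vList_facts {p : ℕ} (hp : p ∈ vList) : p < 1152 ∧ mmul p p = 0 ∧
    (∀ q ∈ vList, mmul p q ∈ vList ∧ mmul p q = mmul q p) ∧ ∀ t ∈ tList, mconj p t ∈ tList := by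
  have := of_all vList_group hp
  simp only [Bool.and_eq_true, decide_eq_true_eq, beq_iff_eq, List.contains_iff_mem, List.all_eq_true] at this
  exact ⟨this.1.1.1, this.1.1.2, this.1.2, this.2⟩

/-- The four-group, as a subgroup. -/
def vSub (D : Data z φ) : Subgroup G where
  carrier := {g | ∃ p ∈ vList, φ p = g}
  one_mem' := ⟨0, by simp [vList], D.one⟩
  mul_mem' := by
    rintro _ _ ⟨p, hp, rfl⟩ ⟨q, hq, rfl⟩
    exact ⟨mmul p q, ((vList_facts hp).2.2.1 q hq).1, D.mul _ (vList_facts hp).1 _ (vList_facts hq).1⟩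
  inv_mem' := by
    rintro _ ⟨p, hp, rfl⟩
    exact ⟨p, hp, (inv_eq_of_mul_eq_one_right ((D.sq_iff (vList_facts hp).1).2 (vList_facts hp).2.1)).symm⟩

/-- An element of the model of odd order has order dividing nine. -/
theorem Data.nine_of_odd [Finite G] (D : Data z φ) {h : ℕ} (hh : h < 1152) (ho : Odd (orderOf (φ h))) :
    mcube (mcube h) = 0 := by
  have hd : orderOf (φ h) ∣ 1152 := D.card_cent ▸ Subgroup.orderOf_dvd_natCard _
    (Subgroup.mem_centralizer_singleton_iff.2 (D.comm_z hh))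
  have h9 : orderOf (φ h) ∣ 9 := by
    have hc : Nat.Coprime (orderOf (φ h)) (2 ^ 7) := Nat.Coprime.pow_right _ (Nat.coprime_two_right.2 ho)
    exact hc.dvd_of_dvd_mul_left (by norm_num; exact hd)
  refine D.inj _ (mcube_lt (mcube_lt hh)) 0 (by norm_num) ?_
  rw [D.cube_eq (mcube_lt hh), D.cube_eq hh, ← pow_mul, D.one]
  exact orderOf_dvd_iff_pow_eq_one.1 h9

/-- An element normalising the group of order nine normalises the odd part of its centraliser. -/
theorem Data.conj_B [Finite G] (D : Data z φ) {B : Subgroup G} (hB : OddCent φ B) {g : G}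
    (hg : Sends φ g tList tList) {x : G} (hx : x ∈ B) : g * x * g⁻¹ ∈ B := by
  have hs := D.sends_surj tList_group.2 tList_group.2 le_rfl (fun p hp => (tList_facts hp).1) hg
  obtain ⟨hc, ho⟩ := (hB.mem_iff x).1 hx
  refine (hB.mem_iff _).2 ⟨?_, ?_⟩
  · have key : ∀ q ∈ tList, g * x * g⁻¹ * φ q = φ q * (g * x * g⁻¹) := by
      intro q hq
      obtain ⟨p, hp, e⟩ := hs q hq
      rw [← e, show g * x * g⁻¹ * (g * φ p * g⁻¹) = g * (x * φ p) * g⁻¹ by group, hc.all D hp]
      group
    exact ⟨key 384 (by simp [tList]), key 16 (by simp [tList])⟩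
  · rwa [show orderOf (g * x * g⁻¹) = orderOf x from MulEquiv.orderOf_eq (MulAut.conj g) x]

theorem Data.sends_code (D : Data z φ) {h : ℕ} (hh : h < 1152) (hs : ∀ t ∈ tList, mconj h t ∈ tList) :
    Sends φ (φ h) tList tList :=
  fun p hp => ⟨mconj h p, hs p hp, (D.conj hh (tList_facts hp).1).symm⟩

theorem Data.t_mem_B [Finite G] (D : Data z φ) {B : Subgroup G} (hB : OddCent φ B) {p : ℕ} (hp : p ∈ tList) :
    φ p ∈ B := by
  obtain ⟨hl, h3, -, hc⟩ := tList_facts hp
  refine (hB.mem_iff _).2 ⟨⟨?_, ?_⟩, ?_⟩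
  · exact (D.commute_iff hl (by norm_num)).2 (hc 384 (by simp [tList])).2
  · exact (D.commute_iff hl (by norm_num)).2 (hc 16 (by simp [tList])).2
  · refine Odd.of_dvd_nat (show Odd 3 by decide) (orderOf_dvd_iff_pow_eq_one.2 ?_)
    rw [← D.cube_eq hl, h3, D.one]

/-- The odd part is generated by the group of order nine and its conjugates under `e`, which normalises it. -/
theorem Data.gen_B [Finite G] (D : Data z φ) {B : Subgroup G} (hB : OddCent φ B)
    (hsplit : ∀ c, CommT φ c → c ∈ B ∨ c * z ∈ B) {e : G} (he : Cyc z φ e) :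
    (∀ p ∈ tList, e * φ p * e⁻¹ ∈ B ∧ e * e * φ p * (e * e)⁻¹ ∈ B) ∧
    (∀ S : Subgroup G, (∀ p ∈ tList, φ p ∈ S ∧ e * φ p * e⁻¹ ∈ S ∧ e * e * φ p * (e * e)⁻¹ ∈ S) → B ≤ S) ∧
    (∀ x ∈ B, e * x * e⁻¹ ∈ B) := by
  classical
  obtain ⟨hez, he1, he49, he3⟩ : e * z * e⁻¹ = φ 1 ∧ e * φ 1 * e⁻¹ = φ 49 ∧ e * φ 49 * e⁻¹ = z ∧ e * e * e = 1 :=
    ⟨he.one, he.two, he.three, he.cube⟩
  have hV : ∀ g ∈ vSub D, ∀ x ∈ B, g * x * g⁻¹ ∈ B := by
    rintro _ ⟨v, hv, rfl⟩ x hx
    exact D.conj_B hB (D.sends_code (vList_facts hv).1 (vList_facts hv).2.2.2) hx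
  have hd : ∀ x ∈ B, x * φ 400 = φ 400 * x := fun x hx => ((hB.mem_iff x).1 hx).1.all D (by simp [tList])
  -- the fixed points of the three involutions
  have fixz : ∀ x ∈ B, ∀ g : G, g * φ 400 = φ 400 * g → x * (g * z * g⁻¹) = g * z * g⁻¹ * x →
      ∃ p ∈ tList, x = g * φ p * g⁻¹ := by
    intro x hx g hg hxg
    obtain ⟨h, hh, hhe⟩ := (D.cent (g⁻¹ * x * g)).1 (by
      rw [show g⁻¹ * x * g * z = g⁻¹ * (x * (g * z * g⁻¹)) * g by group, hxg]; group)
    have hc : mmul h 400 = mmul 400 h := (D.commute_iff hh (by norm_num)).1 (by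
      rw [hhe]
      have c1 : Commute g (φ 400) := hg
      exact ((c1.inv_left.mul_left (hd x hx)).mul_left c1).eq)
    have h9 := D.nine_of_odd hh (by
      rw [hhe, show g⁻¹ * x * g = g⁻¹ * x * g⁻¹⁻¹ by group,
        show orderOf (g⁻¹ * x * g⁻¹⁻¹) = orderOf x from MulEquiv.orderOf_eq (MulAut.conj g⁻¹) x]
      exact ((hB.mem_iff x).1 hx).2)
    have := of_range_all cent_d hh
    simp only [hc, h9, bne_self_eq_false, Bool.false_or, List.contains_iff_mem] at this
    exact ⟨h, this, by rw [hhe]; group⟩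
  have e2c : e * e * φ 400 = φ 400 * (e * e) := (Commute.mul_left he.comm he.comm).eq
  have e2z : e * e * z * (e * e)⁻¹ = φ 49 := by
    rw [show e * e * z * (e * e)⁻¹ = e * (e * z * e⁻¹) * e⁻¹ by group, hez, he1]
  have three : ∀ S : Subgroup G, (∀ p ∈ tList, φ p ∈ S) →
      (∀ x ∈ B, x * φ 1 = φ 1 * x ∨ x * φ 49 = φ 49 * x → x ∈ S) → B ≤ S := by
    intro S hT hS
    haveI : IsMulCommutative (vSub D) := ⟨⟨by
      rintro ⟨_, a, ha, rfl⟩ ⟨_, b, hb, rfl⟩
      exact Subtype.ext (by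
      show φ a * φ b = φ b * φ a
      exact (D.commute_iff (vList_facts ha).1 (vList_facts hb).1).2 ((vList_facts ha).2.2.1 b hb).2)⟩⟩
    have hsq : ∀ g : vSub D, g * g = 1 := by
      rintro ⟨_, p, hp, rfl⟩
      exact Subtype.ext ((D.sq_iff (vList_facts hp).1).2 (vList_facts hp).2.1)
    have hncyc : ¬ IsCyclic (vSub D) := by
      intro hcyc
      obtain ⟨g, hg⟩ := hcyc.exists_generator
      have two : ∀ x : vSub D, x = 1 ∨ x = g := fun x => by
        obtain ⟨k, rfl⟩ := Subgroup.mem_zpowers_iff.1 (hg x)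
        rcases Int.even_or_odd' k with ⟨m, rfl | rfl⟩
        · left; rw [zpow_mul, zpow_two, hsq, one_zpow]
        · right; rw [zpow_add_one, zpow_mul, zpow_two, hsq, one_zpow, one_mul]
      have ne : ∀ p q, p < 1152 → q < 1152 → ∀ (hp : p ∈ vList) (hq : q ∈ vList), p ≠ q →
          (⟨φ p, p, hp, rfl⟩ : vSub D) ≠ ⟨φ q, q, hq, rfl⟩ := fun p q lp lq hp hq hne e =>
        hne (D.inj p lp q lq (congrArg Subtype.val e))
      have n1 := ne 1 0 (by norm_num) (by norm_num) (by simp [vList]) (by simp [vList]) (by norm_num)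
      have n2 := ne 48 0 (by norm_num) (by norm_num) (by simp [vList]) (by simp [vList]) (by norm_num)
      have n3 := ne 1 48 (by norm_num) (by norm_num) (by simp [vList]) (by simp [vList]) (by norm_num)
      have e0 : (⟨φ 0, 0, by simp [vList], rfl⟩ : vSub D) = 1 := Subtype.ext D.one
      rw [e0] at n1 n2
      exact n3 (((two _).resolve_left n1).trans ((two _).resolve_left n2).symm)
    have hcop : (Nat.card (vSub D)).Coprime (Nat.card B) := by
      haveI : Fact (Nat.Prime 2) := ⟨Nat.prime_two⟩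
      obtain ⟨n, hn⟩ := (IsPGroup.iff_card (p := 2) (G := vSub D)).1 fun g => ⟨1, by rw [pow_one, pow_two, hsq]⟩
      rw [hn]
      exact Nat.Coprime.pow_left _ (Nat.coprime_two_left.2 hB.odd)
    have hnorm : vSub D ≤ Subgroup.normalizer (B : Set G) := fun g hg => Subgroup.mem_normalizer_iff.2 fun x =>
      ⟨hV g hg x, fun h => by
        have := hV g⁻¹ ((vSub D).inv_mem hg) _ h
        rwa [show g⁻¹ * (g * x * g⁻¹) * g⁻¹⁻¹ = x by group] at this⟩
    refine (CfsgLib.coprime_generated_by_centralizers hncyc hnorm hcop).ge.trans (iSup₂_le ?_)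
    rintro a ⟨⟨p, hp, rfl⟩, ha1⟩ x ⟨hxB, hxa⟩
    replace hxa := Subgroup.mem_centralizer_singleton_iff.1 hxa
    simp only [vList, List.mem_cons, List.not_mem_nil, or_false] at hp
    rcases hp with rfl | rfl | rfl | rfl
    · exact absurd D.one ha1
    · exact hS x hxB (Or.inl hxa)
    · obtain ⟨q, hq, hqe⟩ := fixz x hxB 1 (by simp) (by simpa [D.zc] using hxa)
      rw [hqe, one_mul, inv_one, mul_one]
      exact hT q hq
    · exact hS x hxB (Or.inr hxa)
  have f1 : ∀ x ∈ B, x * φ 1 = φ 1 * x → ∃ p ∈ tList, x = e * φ p * e⁻¹ := fun x hx h =>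
    fixz x hx e he.comm (hez.symm ▸ h)
  have f2 : ∀ x ∈ B, x * φ 49 = φ 49 * x → ∃ p ∈ tList, x = e * e * φ p * (e * e)⁻¹ := fun x hx h =>
    fixz x hx (e * e) e2c (e2z.symm ▸ h)
  -- one of the two fixed groups is not in the group of order nine
  obtain ⟨x, hxB, hx1, hxT⟩ : ∃ x ∈ B, x * φ 1 = φ 1 * x ∧ x ∉ tSub D := by
    by_contra hnone
    push Not at hnone
    have htau : ∀ t ∈ tList, mconj 2 t ∈ tList := fun t ht => by
      simpa using of_all tau_T.1 ht
    have hsub : B ≤ tSub D := three (tSub D) (fun p hp => ⟨p, hp, rfl⟩) fun x hx hor => by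
      rcases hor with h | h
      · exact hnone x hx h
      · have hs := D.sends_code (by norm_num) htau
        have hy := D.conj_B hB hs hx
        have c49 : φ 2 * φ 49 * (φ 2)⁻¹ = φ 1 := by
          rw [← D.conj (by norm_num) (by norm_num), show mconj 2 49 = 1 by decide +kernel]
        obtain ⟨p, hp, hpe⟩ := hnone _ hy (by
          rw [← c49, show φ 2 * x * (φ 2)⁻¹ * (φ 2 * φ 49 * (φ 2)⁻¹) = φ 2 * (x * φ 49) * (φ 2)⁻¹ by group, h]
          group)
        obtain ⟨q, hq, hqe⟩ := D.sends_surj tList_group.2 tList_group.2 le_rfl (fun p hp => (tList_facts hp).1) hs p hp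
        exact ⟨q, hq, mul_left_cancel (mul_right_cancel (hqe.trans hpe))⟩
    obtain ⟨c, hc1, hc2, hc⟩ := D.cent_T_big
    rcases hsplit c ⟨hc1, hc2⟩ with h | h
    · obtain ⟨p, hp, hpe⟩ := hsub h
      exact (hc p hp).1 hpe.symm
    · obtain ⟨p, hp, hpe⟩ := hsub h
      refine (hc p hp).2 ?_
      rw [D.mul _ (tList_facts hp).1 _ (by norm_num), hpe, D.zc, mul_assoc, D.zz, mul_one]
  have full : ∀ g : G, g * φ 400 = φ 400 * g → ∀ p ∈ tList, g * φ p * g⁻¹ ∈ B → g * φ p * g⁻¹ ∉ tSub D →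
      ∀ q ∈ tList, g * φ q * g⁻¹ ∈ B := by
    intro g hg p hp hgB hgT q hq
    have hl := (tList_facts hp).1
    let S : Subgroup G := B.comap (MulAut.conj g).toMonoidHom
    have hd' : ∀ i, φ i ∈ S ↔ g * φ i * g⁻¹ ∈ B := fun i => Iff.rfl
    have h400 : φ 400 ∈ S := by
      rw [hd', hg, mul_inv_cancel_right]; exact D.t_mem_B hB (by simp [tList])
    have := of_all t_gen hp
    simp only [Bool.or_eq_true, List.contains_iff_mem, List.all_eq_true, List.any_eq_true, List.mem_range,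
      beq_iff_eq] at this
    rcases this with h | h
    · refine absurd ?_ hgT
      have hc : g * φ p = φ p * g := by
        simp only [List.mem_cons, List.not_mem_nil, or_false] at h
        rcases h with rfl | rfl | rfl
        · rw [D.one, mul_one, one_mul]
        · exact hg
        · rw [show 800 = mmul 400 400 by decide +kernel, D.mul _ (by norm_num) _ (by norm_num)]
          exact (Commute.mul_right hg hg).eq
      exact ⟨p, hp, by rw [hc, mul_inv_cancel_right]⟩
    · obtain ⟨i, hi, j, hj, rfl⟩ := h q hq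
      have hS2 : φ ([0, 400, 800].getD i 0) ∈ S := by
        interval_cases i
        · rw [show [0, 400, 800].getD 0 0 = 0 from rfl, D.one]; exact S.one_mem
        · exact h400
        · rw [show [0, 400, 800].getD 2 0 = mmul 400 400 by decide +kernel, D.mul _ (by norm_num) _ (by norm_num)]
          exact S.mul_mem h400 h400
      have hS3 : φ ([0, p, mmul p p].getD j 0) ∈ S := by
        interval_cases j
        · rw [show [0, p, mmul p p].getD 0 0 = 0 from rfl, D.one]; exact S.one_mem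
        · exact hgB
        · show φ (mmul p p) ∈ S
          rw [D.mul _ hl _ hl]; exact S.mul_mem hgB hgB
      rw [← hd', D.mul _ (by interval_cases i <;> norm_num) _
        (by interval_cases j; exacts [by norm_num, hl, mmul_lt hl hl])]
      exact S.mul_mem hS2 hS3
  obtain ⟨p, hp, rfl⟩ := f1 x hxB hx1
  have one : ∀ q ∈ tList, e * φ q * e⁻¹ ∈ B := full e he.comm p hp hxB hxT
  have two : ∀ q ∈ tList, e * e * φ q * (e * e)⁻¹ ∈ B := by
    have htau : ∀ t ∈ tList, mconj 2 t ∈ tList := fun t ht => by simpa using of_all tau_T.1 ht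
    have hs := D.sends_code (by norm_num) htau
    have hy := D.conj_B hB hs hxB
    have c1 : φ 2 * φ 1 * (φ 2)⁻¹ = φ 49 := by
      rw [← D.conj (by norm_num) (by norm_num), show mconj 2 1 = 49 by decide +kernel]
    obtain ⟨q, hq, hqe⟩ := f2 _ hy (by
      rw [← c1, show φ 2 * (e * φ p * e⁻¹) * (φ 2)⁻¹ * (φ 2 * φ 1 * (φ 2)⁻¹) =
        φ 2 * (e * φ p * e⁻¹ * φ 1) * (φ 2)⁻¹ by group, hx1]
      group)
    rw [hqe] at hy
    refine full (e * e) e2c q hq hy fun ⟨r, hr, hre⟩ => hxT ?_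
    obtain ⟨s, hs', hse⟩ := D.sends_surj tList_group.2 tList_group.2 le_rfl (fun p hp => (tList_facts hp).1) hs r hr
    exact ⟨s, hs', mul_left_cancel (mul_right_cancel ((hse.trans hre).trans hqe.symm))⟩
  have gen : ∀ S : Subgroup G, (∀ p ∈ tList, φ p ∈ S ∧ e * φ p * e⁻¹ ∈ S ∧ e * e * φ p * (e * e)⁻¹ ∈ S) → B ≤ S :=
    fun S hS => three S (fun p hp => (hS p hp).1) fun x hx hor => by
      rcases hor with h | h
      · obtain ⟨q, hq, rfl⟩ := f1 x hx h; exact (hS q hq).2.1
      · obtain ⟨q, hq, rfl⟩ := f2 x hx h; exact (hS q hq).2.2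
  refine ⟨fun q hq => ⟨one q hq, two q hq⟩, gen, fun x hx => ?_⟩
  refine gen (B.comap (MulAut.conj e).toMonoidHom) (fun q hq => ⟨one q hq, ?_, ?_⟩) hx
  · show e * (e * φ q * e⁻¹) * e⁻¹ ∈ B
    rw [show e * (e * φ q * e⁻¹) * e⁻¹ = e * e * φ q * (e * e)⁻¹ by group]; exact two q hq
  · show e * (e * e * φ q * (e * e)⁻¹) * e⁻¹ ∈ B
    rw [show e * (e * e * φ q * (e * e)⁻¹) * e⁻¹ = e * e * e * φ q * (e * e * e)⁻¹ by group, he3, one_mul, inv_one,
      mul_one]
    exact D.t_mem_B hB hq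

end CfsgU43Type
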