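import Cfsg.Agent.Lib.U43Type.Coord

/-!
Groups of U₄(3) type: the group of order eighty-one with its five linear maps.
-/

set_option autoImplicit false
set_option maxRecDepth 100000
set_option linter.unusedSectionVars false

namespace CfsgU43Type

variable {G : Type*} [Group G] {z : G} {φ : ℕ → G}

/-- The standing data on the group of order eighty-one. -/
structure Base (z : G) (φ : ℕ → G) (B : Subgroup G) (θ : ℕ → G) (e e' : G) : Prop where
  data : Data z φ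
  odd : OddCent φ B
  split : ∀ c, CommT φ c → c ∈ B ∨ c * z ∈ B
  coord : VecCoord B θ
  t1 : θ 1 = φ 400 ∨ θ 1 = φ 800
  t3 : θ 3 = φ 416
  az : VAct θ z lZ
  as : VAct θ (φ 1) lS
  at' : VAct θ (φ 2) lT
  ae : VAct θ e lE
  ae' : VAct θ e' lE'
  e_cube : e * e * e = 1
  cyc : Cyc z φ e
  cyc' : Cyc z (fun x => φ (twist x)) e'

theorem Data.code_prod (D : Data z φ) {a b c : ℕ} (ha : a < 1152) (hb : b < 1152) (h : mmul a b = c) :
    φ a * φ b = φ c := by
  rw [← D.mul a ha b hb, h]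

/-- Multiplying by the involution gives another element of the same kind. -/
theorem Cyc.flip (D : Data z φ) {e : G} (he : Cyc z φ e) : Cyc z φ (φ 1 * e) := by
  have h11 : φ 1 * φ 1 = 1 := (D.sq_iff (by norm_num)).2 (by decide +kernel)
  have hi : (φ 1)⁻¹ = φ 1 := inv_eq_of_mul_eq_one_right h11
  have e149 : φ 1 * φ 49 = z := (D.code_prod (by norm_num) (by norm_num) (by decide +kernel)).trans D.zc
  have h149 : φ 1 * φ 49 * (φ 1)⁻¹ = φ 49 := by
    rw [(D.commute_iff (by norm_num) (by norm_num)).2 (show mmul 1 49 = mmul 49 1 by decide +kernel),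
      mul_inv_cancel_right]
  have hz : φ 1 * z * (φ 1)⁻¹ = z := by rw [D.comm_z (by norm_num), mul_inv_cancel_right]
  have hc : ∀ x, φ 1 * e * x * (φ 1 * e)⁻¹ = φ 1 * (e * x * e⁻¹) * (φ 1)⁻¹ := fun x => by group
  refine ⟨?_, ?_, ?_, ?_, ?_⟩
  · exact (Commute.mul_left ((D.commute_iff (by norm_num) (by norm_num)).2
      (show mmul 1 400 = mmul 400 1 by decide +kernel)) he.comm).eq
  · rw [hc, he.one, h11, one_mul, hi]
  · rw [hc, he.two, h149]
  · rw [hc, he.three, hz]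
  · have h2 : e * e * φ 1 * (e * e)⁻¹ = z := by
      rw [show e * e * φ 1 * (e * e)⁻¹ = e * (e * φ 1 * e⁻¹) * e⁻¹ by group, he.two, he.three]
    rw [show φ 1 * e * (φ 1 * e) * (φ 1 * e) = φ 1 * (e * φ 1 * e⁻¹) * (e * e * φ 1 * (e * e)⁻¹) * (e * e * e) by
      group, he.two, h2, he.cube, mul_one, e149, D.zz]

theorem fix_cand : ((List.range 81).all fun v => lapp lZ v != vneg v || lapp lS v != vneg v || v == 0 || v == 27 ||
    v == 54) = true ∧
    ((List.range 81).all fun v => lapp lZ v != vneg v || lapp (lmul lS lT) v != v || v == 0 || v == 63 || v == 45)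
      = true ∧
    ((List.range 81).all fun v => lapp lZ v != vneg v || lapp (lmul lS lT) v != vneg v || v == 0 || v == 36 ||
      v == 72) = true := by
  decide +kernel

theorem CommT.twist_iff (D : Data z φ) {c : G} : CommT (fun x => φ (twist x)) c ↔ CommT φ c := by
  have h1 : twist 384 = 384 := by decide +kernel
  have h2 : twist 16 = 32 := by decide +kernel
  show c * φ (twist 384) = φ (twist 384) * c ∧ c * φ (twist 16) = φ (twist 16) * c ↔ _
  rw [h1, h2]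
  refine ⟨fun h => ⟨h.1, ?_⟩, fun h => ⟨h.1, ?_⟩⟩
  · rw [← D.code_prod (by norm_num) (by norm_num) (show mmul 32 32 = 16 by decide +kernel)]
    exact (Commute.mul_right h.2 h.2).eq
  · rw [← D.code_prod (by norm_num) (by norm_num) (show mmul 16 16 = 32 by decide +kernel)]
    exact (Commute.mul_right h.2 h.2).eq

theorem VecCoord.act_apply {B : Subgroup G} {θ : ℕ → G} (C : VecCoord B θ) {g : G} {L v w : ℕ} (h : VAct θ g L)
    (hv : v < 81) (hw : w < 81) (he : g * θ v * g⁻¹ = θ w) : lapp L v = w :=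
  C.inj _ (lapp_lt _ _) _ hw ((h v hv).symm.trans he)

variable [Finite G]

/-- The data exists. -/
theorem Data.exists_base (D : Data z φ) : ∃ (B : Subgroup G) (θ : ℕ → G) (e e' : G), Base z φ B θ e e' := by
  obtain ⟨B, hB, hsplit⟩ := D.exists_oddCent
  obtain ⟨m1, m2, m3, m4, m5, m6, m7, m8, m9, m10⟩ : mconj 2 416 = 784 ∧ mconj 2 400 = 800 ∧ mconj 2 800 = 400 ∧
      mmul 416 416 = 784 ∧ mmul 400 400 = 800 ∧ mmul 800 800 = 400 ∧ mmul 2 2 = 48 ∧ mconj 3 416 = 416 ∧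
      mmul 1 2 = 3 ∧ mconj 2 49 = 1 := by decide +kernel
  obtain ⟨e₀, h1, h2, h3, h4, h5, -, -⟩ := D.exists_e
  have hcyc : Cyc z φ e₀ := ⟨h1, h2, h3, h4, h5⟩
  -- the image of the third coordinate under the outer element
  have htau : ∀ e, Cyc z φ e → ∃ v < 81, (v = 27 ∨ v = 54) ∧
      φ 2 * vcoord φ 400 e 9 * (φ 2)⁻¹ = vcoord φ 400 e v := by
    intro e he
    obtain ⟨C, az, as, -⟩ := D.vecCoord hB hsplit he (Or.inl rfl)
    have hy := D.conj_B hB (D.sends_code (h := 2) (by norm_num) (fun t ht => by simpa using of_all tau_T.1 ht))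
      ((C.mem _).2 ⟨9, by norm_num, rfl⟩)
    obtain ⟨v, hv, hve⟩ := (C.mem _).1 hy
    obtain ⟨w, hw⟩ : ∃ w, vcoord φ 400 e 9 = w := ⟨_, rfl⟩
    rw [hw] at hve hy
    have n9 : vneg 9 = 18 := by decide +kernel
    have zw : z * w * z⁻¹ = w⁻¹ := by
      rw [← hw, az 9 (by norm_num), ← C.neg (by norm_num), n9, show lapp lZ 9 = 18 by decide +kernel]
    have uw : φ 49 * w * (φ 49)⁻¹ = w⁻¹ := by
      have ha := C.act_mul az as
      rw [← hw, show φ 49 = z * φ 1 from D.c49, ha 9 (by norm_num), ← C.neg (by norm_num), n9,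
        show lapp (lmul lZ lS) 9 = 18 by decide +kernel]
    have hz' : z * φ 2 = φ 2 * z := (D.comm_z (by norm_num)).symm
    have hs' : φ 1 * φ 2 = φ 2 * φ 49 := by
      rw [← m10, D.conj (by norm_num) (by norm_num)]; group
    have n1 : lapp lZ v = vneg v := C.act_apply az hv (vneg_lt hv) (by
      rw [C.neg hv, hve, show z * (φ 2 * w * (φ 2)⁻¹) * z⁻¹ = (z * φ 2) * w * (z * φ 2)⁻¹ by group, hz',
        show φ 2 * z * w * (φ 2 * z)⁻¹ = φ 2 * (z * w * z⁻¹) * (φ 2)⁻¹ by group, zw]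
      group)
    have n2 : lapp lS v = vneg v := C.act_apply as hv (vneg_lt hv) (by
      rw [C.neg hv, hve, show φ 1 * (φ 2 * w * (φ 2)⁻¹) * (φ 1)⁻¹ = (φ 1 * φ 2) * w * (φ 1 * φ 2)⁻¹ by group, hs',
        show φ 2 * φ 49 * w * (φ 2 * φ 49)⁻¹ = φ 2 * (φ 49 * w * (φ 49)⁻¹) * (φ 2)⁻¹ by group, uw]
      group)
    have hv0 : v ≠ 0 := fun h => by
      rw [h, C.zero, eq_comm, conj_eq_one_iff, ← hw, ← C.zero] at hve
      exact absurd (C.inj 9 (by norm_num) 0 (by norm_num) hve) (by norm_num)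
    have := of_range_all fix_cand.1 hv
    simp only [n1, n2, bne_self_eq_false, Bool.false_or, Bool.or_eq_true, beq_iff_eq, hv0, false_or] at this
    exact ⟨v, hv, this, hw ▸ hve.symm⟩
  obtain ⟨e, he, hte⟩ : ∃ e, Cyc z φ e ∧ φ 2 * vcoord φ 400 e 9 * (φ 2)⁻¹ = vcoord φ 400 e 27 := by
    obtain ⟨v, -, hv | hv, hve⟩ := htau e₀ hcyc
    · exact ⟨e₀, hcyc, hv ▸ hve⟩
    · refine ⟨φ 1 * e₀, hcyc.flip D, ?_⟩
      obtain ⟨C, az, as, ae⟩ := D.vecCoord hB hsplit hcyc (Or.inl rfl)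
      have c9 : vcoord φ 400 (φ 1 * e₀) 9 = vcoord φ 400 e₀ 9 := by
        have h := as 9 (by norm_num)
        rw [show lapp lS 9 = 9 by decide +kernel] at h
        conv_rhs => rw [← h]
        norm_num [vcoord]
        group
      have c27 : vcoord φ 400 (φ 1 * e₀) 27 = vcoord φ 400 e₀ 54 := by
        have h := C.act_mul (C.act_mul as ae) (C.act_mul as ae) 3 (by norm_num)
        rw [show lapp (lmul (lmul lS lE) (lmul lS lE)) 3 = 54 by decide +kernel] at h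
        rw [← h]
        norm_num [vcoord]
      rw [c9, c27, hve, hv]
  -- the twin
  obtain ⟨e₁, g1, g2, g3, g4, g5, -, -⟩ := D.twisted.exists_e
  have hB' : OddCent (fun x => φ (twist x)) B :=
    ⟨fun x => by rw [hB.mem_iff, CommT.twist_iff D], hB.odd⟩
  have hsplit' : ∀ c, CommT (fun x => φ (twist x)) c → c ∈ B ∨ c * z ∈ B :=
    fun c hc => hsplit c ((CommT.twist_iff D).1 hc)
  obtain ⟨t1, t3, t400, t416⟩ : twist 1 = 3 ∧ twist 49 = 51 ∧ twist 400 = 416 ∧ twist 416 = 400 := by decide +kernel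
  obtain ⟨C, az, as, ae⟩ := D.vecCoord hB hsplit he (Or.inl rfl)
  have v1 : ∀ a ex, vcoord φ a ex 1 = φ a := fun a ex => by norm_num [vcoord]
  have v3 : ∀ a ex, vcoord φ a ex 3 = φ 416 := fun a ex => by norm_num [vcoord]
  have atau : ∀ a, a = 400 ∨ a = 800 → VAct (vcoord φ a e) (φ 2) lT := by
    intro a ha
    obtain ⟨Ca, za, sa, -⟩ := D.vecCoord hB hsplit he ha
    have h9 : φ 2 * vcoord φ a e 9 * (φ 2)⁻¹ = vcoord φ a e 27 := by
      have : vcoord φ a e 9 = vcoord φ 400 e 9 ∧ vcoord φ a e 27 = vcoord φ 400 e 27 :=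
        ⟨by norm_num [vcoord], by norm_num [vcoord]⟩
      rw [this.1, this.2, hte]
    refine Ca.act_of_basis ?_ ?_ ?_ ?_
    all_goals norm_num [lcol, lT]
    · have two : vcoord φ a e 2 = vcoord φ a e 1 * vcoord φ a e 1 := by
        rw [← Ca.add 1 (by norm_num) 1 (by norm_num), show vadd 1 1 = 2 by decide +kernel]
      rw [two, v1,
        ← D.conj (by norm_num) (by rcases ha with rfl | rfl <;> norm_num)]
      rcases ha with rfl | rfl
      · rw [m2, ← m5, D.mul _ (by norm_num) _ (by norm_num)]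
      · rw [m3, ← m6, D.mul _ (by norm_num) _ (by norm_num)]
    · rw [show (6 : ℕ) = vadd 3 3 by decide +kernel, Ca.add 3 (by norm_num) 3 (by norm_num), v3,
        ← D.conj (by norm_num) (by norm_num), m1, ← m4, D.mul _ (by norm_num) _ (by norm_num)]
    · exact h9
    · have h22 : φ 2 * φ 2 = z := (D.code_prod (by norm_num) (by norm_num) m7).trans D.zc
      rw [← h9, show φ 2 * (φ 2 * vcoord φ a e 9 * (φ 2)⁻¹) * (φ 2)⁻¹ = (φ 2 * φ 2) * vcoord φ a e 9 * (φ 2 * φ 2)⁻¹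
        by group, h22, za 9 (by norm_num), show lapp lZ 9 = 18 by decide +kernel]
  -- the image of the first coordinate under the twin
  have hnorm : ∀ e', Cyc z (fun x => φ (twist x)) e' → ∀ x ∈ B, e' * x * e'⁻¹ ∈ B := fun e' he' =>
    (D.twisted.gen_B hB' hsplit' he').2.2
  have cz' : ∀ e', Cyc z (fun x => φ (twist x)) e' → e' * z * e'⁻¹ = φ 3 ∧ e' * φ 3 * e'⁻¹ = φ 51 ∧
      e' * φ 51 * e'⁻¹ = z ∧ e' * φ 416 = φ 416 * e' ∧ e' * e' * e' = 1 := fun e' he' => by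
    obtain ⟨i1, i2, i3, i4, i5⟩ := he'
    rw [t400] at i1
    rw [t1] at i2 i3
    rw [t3] at i3 i4
    exact ⟨i2, i3, i4, i1, i5⟩
  have hcyc₁ : Cyc z (fun x => φ (twist x)) e₁ := ⟨g1, g2, g3, g4, g5⟩
  obtain ⟨a, ha, hae⟩ : ∃ a, (a = 400 ∨ a = 800) ∧
      e₁ * vcoord φ a e 1 * e₁⁻¹ = vcoord φ a e 63 := by
    obtain ⟨v, hv, hve⟩ := (C.mem _).1 (hnorm e₁ hcyc₁ _ ((C.mem _).2 ⟨1, by norm_num, rfl⟩))
    obtain ⟨i1, i2, i3, -, -⟩ := cz' e₁ hcyc₁
    obtain ⟨w, hw⟩ : ∃ w, vcoord φ 400 e 1 = w := ⟨_, rfl⟩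
    rw [hw] at hve
    have wz : z * w * z⁻¹ = w := by
      rw [← hw, az 1 (by norm_num), show lapp lZ 1 = 1 by decide +kernel]
    have a3 : VAct (vcoord φ 400 e) (φ 3) (lmul lS lT) :=
      D.code_prod (show 1 < 1152 by norm_num) (show 2 < 1152 by norm_num) m9 ▸ C.act_mul as (atau 400 (Or.inl rfl))
    have w51 : φ 51 * w * (φ 51)⁻¹ = w⁻¹ := by
      have h51 : φ 51 = z * φ 3 := by
        rw [← D.zc, D.code_prod (by norm_num) (by norm_num) (show mmul 48 3 = 51 by decide +kernel)]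
      rw [← hw, h51, C.act_mul az a3 1 (by norm_num), ← C.neg (by norm_num),
        show lapp (lmul lZ (lmul lS lT)) 1 = vneg 1 by decide +kernel]
    have n1 : lapp lZ v = vneg v := C.act_apply az hv (vneg_lt hv) (by
      rw [C.neg hv, hve, ← i3, show e₁ * φ 51 * e₁⁻¹ * (e₁ * w * e₁⁻¹) * (e₁ * φ 51 * e₁⁻¹)⁻¹ =
        e₁ * (φ 51 * w * (φ 51)⁻¹) * e₁⁻¹ by group, w51]
      group)
    have n2 : lapp (lmul lS lT) v = v := C.act_apply a3 hv hv (by
      rw [hve, ← i1, show e₁ * z * e₁⁻¹ * (e₁ * w * e₁⁻¹) * (e₁ * z * e₁⁻¹)⁻¹ = e₁ * (z * w * z⁻¹) * e₁⁻¹ by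
        group, wz])
    have hv0 : v ≠ 0 := fun h => by
      rw [h, C.zero, eq_comm, conj_eq_one_iff, ← hw, ← C.zero] at hve
      exact absurd (C.inj 1 (by norm_num) 0 (by norm_num) hve) (by norm_num)
    have := of_range_all fix_cand.2.1 hv
    simp only [n1, n2, bne_self_eq_false, Bool.false_or, Bool.or_eq_true, beq_iff_eq, hv0, false_or] at this
    rcases this with rfl | rfl
    · exact ⟨400, Or.inl rfl, by rw [hw, hve]⟩
    · refine ⟨800, Or.inr rfl, ?_⟩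
      have s63 : vcoord φ 800 e 63 = vcoord φ 400 e 63 := by norm_num [vcoord]
      have s1 : vcoord φ 800 e 1 = w * w := by
        rw [← hw, v1, v1, ← m5, D.mul _ (by norm_num) _ (by norm_num)]
      rw [s63, s1, show (63 : ℕ) = vadd 45 45 by decide +kernel, C.add 45 (by norm_num) 45 (by norm_num), hve]
      group
  obtain ⟨Ca, za, sa, ea⟩ := D.vecCoord hB hsplit he ha
  have a3 : VAct (vcoord φ a e) (φ 3) (lmul lS lT) :=
    D.code_prod (show 1 < 1152 by norm_num) (show 2 < 1152 by norm_num) m9 ▸ Ca.act_mul sa (atau a ha)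
  obtain ⟨e', he', h63, h36⟩ : ∃ e', Cyc z (fun x => φ (twist x)) e' ∧
      e' * vcoord φ a e 1 * e'⁻¹ = vcoord φ a e 63 ∧ e' * vcoord φ a e 63 * e'⁻¹ = vcoord φ a e 36 := by
    obtain ⟨v, hv, hve⟩ := (Ca.mem _).1 (hnorm e₁ hcyc₁ _ ((Ca.mem _).2 ⟨63, by norm_num, rfl⟩))
    obtain ⟨i1, i2, i3, -, -⟩ := cz' e₁ hcyc₁
    obtain ⟨w, hw⟩ : ∃ w, vcoord φ a e 63 = w := ⟨_, rfl⟩
    rw [hw] at hve
    have zw : z * w * z⁻¹ = w⁻¹ := by
      rw [← hw, za 63 (by norm_num), ← Ca.neg (by norm_num), show lapp lZ 63 = vneg 63 by decide +kernel]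
    have w51 : φ 51 * w * (φ 51)⁻¹ = w⁻¹ := by
      have h51 : φ 51 = z * φ 3 := by
        rw [← D.zc, D.code_prod (by norm_num) (by norm_num) (show mmul 48 3 = 51 by decide +kernel)]
      rw [← hw, h51, Ca.act_mul za a3 63 (by norm_num), ← Ca.neg (by norm_num),
        show lapp (lmul lZ (lmul lS lT)) 63 = vneg 63 by decide +kernel]
    have n1 : lapp lZ v = vneg v := Ca.act_apply za hv (vneg_lt hv) (by
      rw [Ca.neg hv, hve, ← i3, show e₁ * φ 51 * e₁⁻¹ * (e₁ * w * e₁⁻¹) * (e₁ * φ 51 * e₁⁻¹)⁻¹ =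
        e₁ * (φ 51 * w * (φ 51)⁻¹) * e₁⁻¹ by group, w51]
      group)
    have n2 : lapp (lmul lS lT) v = vneg v := Ca.act_apply a3 hv (vneg_lt hv) (by
      rw [Ca.neg hv, hve, ← i1, show e₁ * z * e₁⁻¹ * (e₁ * w * e₁⁻¹) * (e₁ * z * e₁⁻¹)⁻¹ =
        e₁ * (z * w * z⁻¹) * e₁⁻¹ by group, zw]
      group)
    have hv0 : v ≠ 0 := fun h => by
      rw [h, Ca.zero, eq_comm, conj_eq_one_iff, ← hw, ← Ca.zero] at hve
      exact absurd (Ca.inj 63 (by norm_num) 0 (by norm_num) hve) (by norm_num)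
    have := of_range_all fix_cand.2.2 hv
    simp only [n1, n2, bne_self_eq_false, Bool.false_or, Bool.or_eq_true, beq_iff_eq, hv0, false_or] at this
    rcases this with rfl | rfl
    · exact ⟨e₁, hcyc₁, hae, by rw [hw, hve]⟩
    · refine ⟨φ 3 * e₁, ?_, ?_, ?_⟩
      · have := Cyc.flip D.twisted hcyc₁
        rwa [t1] at this
      · rw [show φ 3 * e₁ * vcoord φ a e 1 * (φ 3 * e₁)⁻¹ = φ 3 * (e₁ * vcoord φ a e 1 * e₁⁻¹) * (φ 3)⁻¹ by group,
          hae, a3 63 (by norm_num), show lapp (lmul lS lT) 63 = 63 by decide +kernel]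
      · rw [hw, show φ 3 * e₁ * w * (φ 3 * e₁)⁻¹ = φ 3 * (e₁ * w * e₁⁻¹) * (φ 3)⁻¹ by group, ← hve,
          a3 72 (by norm_num), show lapp (lmul lS lT) 72 = 36 by decide +kernel]
  refine ⟨B, vcoord φ a e, e, e', ⟨D, hB, hsplit, Ca, ?_, v3 a e, za, sa, atau a ha, ea, ?_, he.cube, he, he'⟩⟩
  · rcases ha with rfl | rfl
    · exact Or.inl (v1 _ _)
    · exact Or.inr (v1 _ _)
  obtain ⟨-, -, -, i4, i5⟩ := cz' e' he'
  have h1' : e' * vcoord φ a e 36 * e'⁻¹ = vcoord φ a e 1 := by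
    rw [← h36, ← h63]
    calc _ = e' * e' * e' * vcoord φ a e 1 * (e' * e' * e')⁻¹ := by group
      _ = _ := by rw [i5]; group
  refine Ca.act_of_basis ?_ ?_ ?_ ?_
  all_goals norm_num [lcol, lE']
  · exact h63
  · rw [v3, i4, mul_inv_cancel_right]
  · rw [show (9 : ℕ) = vneg (vadd 63 36) by decide +kernel, show (74 : ℕ) = vneg (vadd 36 1) by decide +kernel,
      Ca.neg (vadd_lt (by norm_num) (by norm_num)), Ca.neg (vadd_lt (by norm_num) (by norm_num)),
      Ca.add 63 (by norm_num) 36 (by norm_num), Ca.add 36 (by norm_num) 1 (by norm_num), ← conj_inv,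
      show e' * (vcoord φ a e 63 * vcoord φ a e 36) * e'⁻¹ =
        e' * vcoord φ a e 63 * e'⁻¹ * (e' * vcoord φ a e 36 * e'⁻¹) by group, h36, h1']
  · rw [show (27 : ℕ) = vadd 63 (vneg 36) by decide +kernel, show (38 : ℕ) = vadd 36 (vneg 1) by decide +kernel,
      Ca.add 63 (by norm_num) _ (vneg_lt (by norm_num)), Ca.add 36 (by norm_num) _ (vneg_lt (by norm_num)),
      Ca.neg (by norm_num), Ca.neg (by norm_num),
      show e' * (vcoord φ a e 63 * (vcoord φ a e 36)⁻¹) * e'⁻¹ =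
        e' * vcoord φ a e 63 * e'⁻¹ * (e' * vcoord φ a e 36 * e'⁻¹)⁻¹ by group, h36, h1']

end CfsgU43Type
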