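import Cfsg.Agent.Lib.U43Type.LThree
import Cfsg.Agent.Lib.U43Type.TChecks

/-!
Groups of U₄(3) type: kernel checks for the centraliser of a diagonal element of order three.
-/

set_option autoImplicit false
set_option maxRecDepth 100000
set_option Elab.async false

namespace CfsgU43Type

/-- The maps fixing the first unit vector. -/
def lStab : List ℕ := lList.filter fun L => lapp L 1 == 1

theorem lStab_ok : lStab.length = 12 ∧
    (lStab.all fun L => lmul L L != lone || L == lone || L == lZ || lmul lE L == lmul lZ lE ||
      lmul (lmul lE lE) L == lmul lZ (lmul lE lE)) = true ∧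
    (lStab.all fun L => lmul L (lmul L L) != lone || L == lone || (List.range 81).all fun v =>
      !([v, vadd v 1, vadd v 2].contains (lapp L v)) || lapp L v == v) = true ∧
    lapp lE 1 = 1 ∧ lapp lZ 1 = 1 := by
  decide +kernel

theorem h_cent_d : ((List.range 1152).all fun h => mmul h 400 != mmul 400 h ||
    tList.all fun p => tList.contains (mconj h p)) = true ∧
    ((List.range 1152).filter fun h => mmul h 400 == mmul 400 h).length ≤ 36 := by
  decide +kernel

end CfsgU43Type
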