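import Cfsg.Agent.Lib.U43Type.Sylow3
import Cfsg.Agent.Lib.U43Type.DChecks

/-!
Groups of U₄(3) type: the centraliser of a diagonal element of order three lies in the normaliser of the group of
order eighty-one.
-/

set_option autoImplicit false
set_option maxRecDepth 100000
set_option linter.unusedSectionVars false

namespace CfsgU43Type

variable {G : Type*} [Group G] {z : G} {φ : ℕ → G} {B : Subgroup G} {θ : ℕ → G} {e e' : G} [Finite G]

/-- An involution acting as `z` is conjugate to `z` by an element of the group. -/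
theorem Base.invol_lift (D : Base z φ B θ e e') {t : G} (ht : t * t = 1) (ha : VAct θ t lZ) :
    ∃ b ∈ B, b * t * b⁻¹ = z := by
  have hzz := D.data.zz
  have hb : z⁻¹ * t ∈ B := D.mem_of_act_one fun v hv => by
    rw [show z⁻¹ * t * θ v * (z⁻¹ * t)⁻¹ = z⁻¹ * (t * θ v * t⁻¹) * z by group, ha v hv, ← D.az v hv, lapp_one hv]
    group
  obtain ⟨b, hbe⟩ : ∃ b, z⁻¹ * t = b := ⟨_, rfl⟩
  rw [hbe] at hb
  have htz : t = z * b := by rw [← hbe]; group
  have hinv : z * b * z⁻¹ = b⁻¹ := by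
    have h : z * b * (z * b) = 1 := htz ▸ ht
    refine eq_inv_of_mul_eq_one_left ?_
    rw [inv_eq_of_mul_eq_one_right hzz, mul_assoc, h]
  have hzv : z * b⁻¹ = b * z := mul_inv_eq_iff_eq_mul.1 (by rw [← conj_inv, hinv, inv_inv])
  have h3 : b * b * b = 1 := by
    obtain ⟨v, hv, rfl⟩ := (D.coord.mem b).1 hb
    have : ((List.range 81).all fun v => vadd (vadd v v) v == 0) = true := by decide +kernel
    have := of_range_all this hv
    simp only [beq_iff_eq] at this
    rw [← D.coord.add v hv v hv, ← D.coord.add _ (vadd_lt hv hv) v hv, this, D.coord.zero]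
  refine ⟨b * b, B.mul_mem hb hb, ?_⟩
  rw [htz]
  calc b * b * (z * b) * (b * b)⁻¹ = b * b * (z * b⁻¹) := by group
    _ = b * b * b * z := by rw [hzv]; group
    _ = z := by rw [h3, one_mul]

theorem Base.t1_comm (D : Base z φ B θ e e') (g : G) : g * θ 1 = θ 1 * g ↔ g * φ 400 = φ 400 * g := by
  rcases D.t1 with h | h <;> rw [h]
  constructor <;> intro hc
  · rw [← D.data.code_prod (show 800 < 1152 by norm_num) (by norm_num) (show mmul 800 800 = 400 by decide +kernel)]
    exact (Commute.mul_right hc hc).eq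
  · rw [← D.data.code_prod (show 400 < 1152 by norm_num) (by norm_num) (show mmul 400 400 = 800 by decide +kernel)]
    exact (Commute.mul_right hc hc).eq

theorem Base.fix_one (D : Base z φ B θ e e') {g : G} {L : ℕ} (hg : VAct θ g L) :
    g * θ 1 = θ 1 * g ↔ lapp L 1 = 1 := by
  rw [← mul_inv_eq_iff_eq_mul, hg 1 (by norm_num)]
  exact ⟨fun h => D.coord.inj _ (lapp_lt _ _) _ (by norm_num) h, fun h => by rw [h]⟩

set_option maxHeartbeats 400000 in
/-- The centraliser of the first coordinate normalises the group. -/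
theorem Base.cent_d_normal (D : Base z φ B θ e e') {g : G} (hg : g * θ 1 = θ 1 * g) :
    g ∈ Subgroup.normalizer (B : Set G) := by
  classical
  obtain ⟨X, hX⟩ : ∃ X, Subgroup.centralizer ({θ 1} : Set G) = X := ⟨_, rfl⟩
  obtain ⟨N, hN⟩ : ∃ N, Subgroup.normalizer (B : Set G) = N := ⟨_, rfl⟩
  have hmX : ∀ x, x ∈ X ↔ x * θ 1 = θ 1 * x := fun x => by rw [← hX]; exact Subgroup.mem_centralizer_singleton_iff
  rw [hN]
  by_contra hgN
  obtain ⟨M, hM⟩ : ∃ M : Subgroup X, N.subgroupOf X = M := ⟨_, rfl⟩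
  have hmM : ∀ x : X, x ∈ M ↔ (x : G) ∈ N := fun x => by rw [← hM]; rfl
  have hne : M ≠ ⊤ := fun h => hgN ((hmM ⟨g, (hmX g).2 hg⟩).1 (h ▸ Subgroup.mem_top _))
  have hzX : z ∈ X := (hmX z).2 ((D.fix_one D.az).2 lStab_ok.2.2.2.2)
  obtain ⟨zb, hzb⟩ : ∃ zb : X, zb = ⟨z, hzX⟩ := ⟨_, rfl⟩
  have hzo : orderOf zb = 2 := by rw [← Subgroup.orderOf_coe, hzb, D.data.z2]
  have hzN : z ∈ N := hN ▸ D.coord.act_normalize D.az
  have hact : ∀ x : X, x ∈ M → ∃ L ∈ lStab, VAct θ (x : G) L := fun x hx => by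
    obtain ⟨L, hL, hxL⟩ := D.normal_act (hN.symm ▸ (hmM x).1 hx)
    exact ⟨L, List.mem_filter.2 ⟨hL, by simpa using (D.fix_one hxL).1 ((hmX x).1 x.2)⟩, hxL⟩
  have hBX : ∀ b ∈ B, b ∈ X ∧ b ∈ N := fun b hb =>
    ⟨(hmX b).2 (D.coord.comm hb ((D.coord.mem _).2 ⟨1, by norm_num, rfl⟩)), hN ▸ Subgroup.le_normalizer hb⟩
  have heX : e ∈ X ∧ e ∈ N := ⟨(hmX e).2 ((D.fix_one D.ae).2 lStab_ok.2.2.2.1), hN ▸ D.coord.act_normalize D.ae⟩
  have hconj : ∀ t ∈ M, orderOf t = 2 → ∃ m ∈ M, m * zb * m⁻¹ = t := by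
    intro t ht hto
    obtain ⟨L, hL, htL⟩ := hact t ht
    have hLl : L ∈ lList := (List.mem_filter.1 hL).1
    have htt : (t : G) * t = 1 := by
      rw [← Subgroup.coe_mul, ← pow_two, ← hto, pow_orderOf_eq_one, Subgroup.coe_one]
    have hLL : lmul L L = lone := D.code_eq (D.lmul_mem hLl hLl) (D.coord.act_mul htL htL) lone_mem
      (htt.symm ▸ D.coord.act_self B.one_mem)
    have hL1 : L ≠ lone := fun h => by
      have hb := D.mem_of_act_one (h ▸ htL)
      have h2 : orderOf (t : G) ∣ 81 := D.card_B ▸ Subgroup.orderOf_dvd_natCard B hb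
      rw [Subgroup.orderOf_coe, hto] at h2
      norm_num at h2
    obtain ⟨w, hwX, hwN, hwL⟩ : ∃ w : G, w ∈ X ∧ w ∈ N ∧ VAct θ (w * (t : G) * w⁻¹) lZ := by
      have main : ∀ (w : G) (W : ℕ), w ∈ X ∧ w ∈ N → VAct θ w W → lmul W L = lmul lZ W →
          VAct θ (w * (t : G) * w⁻¹) lZ := by
        intro w W hw hW hWL v hv
        obtain ⟨u, hu, hue⟩ := (D.coord.mem _).1 ((Subgroup.mem_normalizer_iff.1
          (show w⁻¹ ∈ Subgroup.normalizer (B : Set G) from hN.symm ▸ N.inv_mem hw.2) (θ v)).1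
          ((D.coord.mem _).2 ⟨v, hv, rfl⟩))
        have e1 := D.coord.act_mul hW htL u hu
        have e2 := D.coord.act_mul D.az hW u hu
        rw [hWL, ← e2] at e1
        rw [← D.az v hv, show w * (t : G) * w⁻¹ * θ v * (w * (t : G) * w⁻¹)⁻¹ =
          (w * t) * (w⁻¹ * θ v * w⁻¹⁻¹) * (w * t)⁻¹ by group, ← hue, e1, hue]
        group
      have := of_all lStab_ok.2.1 hL
      simp only [hLL, bne_self_eq_false, Bool.false_or, Bool.or_eq_true, beq_iff_eq, hL1, false_or] at this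
      rcases this with (h | h) | h
      · exact ⟨1, X.one_mem, N.one_mem, by rw [one_mul, inv_one, mul_one, ← h]; exact htL⟩
      · exact ⟨e, heX.1, heX.2, main e lE heX D.ae h⟩
      · exact ⟨e * e, X.mul_mem heX.1 heX.1, N.mul_mem heX.2 heX.2,
          main (e * e) _ ⟨X.mul_mem heX.1 heX.1, N.mul_mem heX.2 heX.2⟩ (D.coord.act_mul D.ae D.ae) h⟩
    obtain ⟨b, hb, hbe⟩ := D.invol_lift (t := w * (t : G) * w⁻¹)
      (by rw [show w * (t : G) * w⁻¹ * (w * (t : G) * w⁻¹) = w * ((t : G) * t) * w⁻¹ by group, htt]; group) hwL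
    refine ⟨⟨(b * w)⁻¹, X.inv_mem (X.mul_mem (hBX b hb).1 hwX)⟩, (hmM _).2 (N.inv_mem (N.mul_mem (hBX b hb).2 hwN)),
      Subtype.ext ?_⟩
    show (b * w)⁻¹ * (zb : G) * (b * w)⁻¹⁻¹ = t
    rw [hzb]
    show (b * w)⁻¹ * z * (b * w)⁻¹⁻¹ = t
    rw [← hbe]; group
  have hcodes : ∀ x : X, x * zb = zb * x → ∃ h < 1152, φ h = (x : G) ∧ mmul h 400 = mmul 400 h := fun x hx => by
    obtain ⟨h, hh, hhe⟩ := (D.data.cent (x : G)).1 (by
      have := congrArg Subtype.val hx
      rw [hzb] at this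
      exact (this : (x : G) * z = z * (x : G)))
    refine ⟨h, hh, hhe, (D.data.commute_iff hh (by norm_num)).1 ?_⟩
    rw [hhe, ← D.t1_comm]
    exact (hmX x).1 x.2
  have hC : Subgroup.centralizer ({zb} : Set X) ≤ M := fun x hx => by
    obtain ⟨h, hh, hhe, hc⟩ := hcodes x (Subgroup.mem_centralizer_singleton_iff.1 hx)
    have := of_range_all h_cent_d.1 hh
    simp only [hc, bne_self_eq_false, Bool.false_or, List.all_eq_true, List.contains_iff_mem] at this
    have hs := D.data.sends_code hh this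
    rw [hmM, ← hhe, ← hN, Subgroup.mem_normalizer_iff]
    intro y
    refine ⟨fun hy => D.data.conj_B D.odd hs hy, fun hy => ?_⟩
    have hi : Sends φ (φ h)⁻¹ tList tList := fun p hp => by
      obtain ⟨q, hq, hqe⟩ := D.data.sends_surj tList_group.2 tList_group.2 le_rfl (fun p hp => (tList_facts hp).1) hs p hp
      exact ⟨q, hq, by rw [← hqe]; group⟩
    have := D.data.conj_B D.odd hi hy
    rwa [show (φ h)⁻¹ * (φ h * y * (φ h)⁻¹) * (φ h)⁻¹⁻¹ = y by group] at this
  obtain ⟨u, huM, huo, -, S, hS, hSo, hSn, hScard⟩ := coset_many_inverted M hzo ((hmM _).2 (hzb ▸ hzN)) hconj hC hne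
  -- orders
  have hMcard : Nat.card M = 972 := by
    have hXN : Nat.card ↥(N ⊓ X) = 81 * lStab.length := D.card_of_codes _ lStab (lList_ok.2.1.filter _)
      (fun L hL => (List.mem_filter.1 hL).1) fun x => by
        refine ⟨fun hx => hact ⟨x, hx.2⟩ ((hmM _).2 hx.1), fun ⟨L, hL, hxL⟩ => ⟨hN ▸ D.coord.act_normalize hxL, ?_⟩⟩
        exact (hmX x).2 ((D.fix_one hxL).2 (by simpa using (List.mem_filter.1 hL).2))
    rw [lStab_ok.1] at hXN
    rw [← hM, ← Subgroup.inf_subgroupOf_right,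
      Nat.card_congr (Subgroup.subgroupOfEquivOfLe inf_le_right).toEquiv, hXN]
  obtain ⟨C, hCdef⟩ : ∃ C, Subgroup.centralizer ({zb} : Set X) = C := ⟨_, rfl⟩
  rw [hCdef] at hScard hC
  have hCcard : Nat.card C ≤ 36 := by
    haveI := Fintype.ofFinite C
    choose h hh hhe hhc using fun x : C => hcodes x (Subgroup.mem_centralizer_singleton_iff.1 (hCdef ▸ x.2))
    rw [Nat.card_eq_fintype_card, ← Finset.card_univ]
    refine le_trans (Finset.card_le_card_of_injOn (t := ((List.range 1152).filter fun h => mmul h 400 == mmul 400 h).toFinset)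
      h (fun x _ => ?_) fun a _ b _ e => ?_) ((List.toFinset_card_le _).trans h_cent_d.2)
    · simp [hh x, hhc x]
    · exact Subtype.ext (Subtype.ext (by rw [← hhe a, ← hhe b, e]))
  have h27 : 27 ≤ C.relIndex M := by
    have h1 := (C.subgroupOf M).card_mul_index
    rw [Nat.card_congr (Subgroup.subgroupOfEquivOfLe hC).toEquiv, hMcard] at h1
    by_contra h
    rw [Subgroup.relIndex] at h
    nlinarith
  -- the odd group
  obtain ⟨d, hd⟩ : ∃ d : X, d = ⟨θ 1, (hmX _).2 rfl⟩ := ⟨_, rfl⟩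
  have hdc : ∀ x : X, x * d = d * x := fun x => by
    rw [hd]; exact Subtype.ext ((hmX x).1 x.2)
  have hd3 : d ^ 3 = 1 := by
    rw [hd]
    refine Subtype.ext ?_
    rw [Subgroup.coe_pow, Subgroup.coe_one]
    show θ 1 ^ 3 = 1
    rw [pow_succ, pow_two, ← D.coord.add 1 (by norm_num) 1 (by norm_num), ← D.coord.add _ (by decide +kernel) 1 (by norm_num),
      show vadd (vadd 1 1) 1 = 0 by decide +kernel, D.coord.zero]
  have hd1 : d ≠ 1 := fun h => by
    rw [hd] at h
    exact absurd (D.coord.inj 1 (by norm_num) 0 (by norm_num) ((congrArg Subtype.val h).trans D.coord.zero.symm))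
      (by norm_num)
  have hdM : d ∈ M := (hmM _).2 (by
    rw [hd]; exact (hBX _ ((D.coord.mem _).2 ⟨1, by norm_num, rfl⟩)).2)
  have hui : u⁻¹ = u := inv_eq_of_mul_eq_one_right (by rw [← pow_two, ← huo, pow_orderOf_eq_one])
  have hud : u * d * u⁻¹ = d := by rw [hdc u, mul_inv_cancel_right]
  have hdS : d ∈ S := (hS d).2 ⟨hdM, hud.symm ▸ hdM⟩
  have hdpow : ∀ k : ℕ, u * d ^ k * u⁻¹ = d ^ k := fun k => by rw [← conj_pow, hud]
  have hdne : ∀ k : ℕ, d ^ k = (d ^ k)⁻¹ → d ^ k = 1 := fun k h => by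
    have h2 : d ^ k * d ^ k = 1 := mul_eq_one_iff_eq_inv.2 h
    have h3 : (d ^ k) ^ 3 = 1 := by rw [← pow_mul, mul_comm, pow_mul, hd3, one_pow]
    rwa [pow_succ, pow_two, h2, one_mul] at h3
  have cent : ∀ (x : X) (k : ℕ), x * d ^ k = d ^ k * x := fun x k => ((show Commute x d from hdc x).pow_right k).eq
  let I := {x : X // x ∈ S ∧ u * x * u⁻¹ = x⁻¹}
  have hF : Function.Injective fun p : I × Fin 3 => (⟨(p.1 : X) * d ^ (p.2 : ℕ), S.mul_mem p.1.2.1 (S.pow_mem hdS _)⟩ : S) := by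
    rintro ⟨x, i⟩ ⟨y, j⟩ h
    have h' : (x : X) * d ^ (i : ℕ) = (y : X) * d ^ (j : ℕ) := congrArg Subtype.val h
    have hyx : (y : X) = (x : X) * d ^ (i + 2 * j : ℕ) := by
      rw [pow_add, ← mul_assoc, h', mul_assoc, ← pow_add, show (j : ℕ) + 2 * j = 3 * j by ring, pow_mul, hd3, one_pow,
        mul_one]
    have e1 := y.2.2
    rw [hyx, show u * ((x : X) * d ^ (i + 2 * j : ℕ)) * u⁻¹ = (u * x * u⁻¹) * (u * d ^ (i + 2 * j : ℕ) * u⁻¹) by group,
      x.2.2, hdpow, mul_inv_rev, cent] at e1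
    have e2 := hdne _ (mul_right_cancel e1)
    rw [e2, mul_one] at hyx
    obtain rfl : y = x := Subtype.ext hyx
    have hij : d ^ (i : ℕ) = d ^ (j : ℕ) := mul_left_cancel h'
    have ho : orderOf d = 3 := orderOf_eq_prime hd3 hd1
    exact Prod.ext rfl (Fin.ext (pow_injOn_Iio_orderOf (ho.symm ▸ i.2) (ho.symm ▸ j.2) hij))
  have hI27 : 27 ≤ Nat.card I := h27.trans hScard
  have hle := Nat.card_le_card_of_injective _ hF
  rw [Nat.card_prod, Nat.card_fin] at hle
  have hSM : S ≤ M := fun x hx => ((hS x).1 hx).1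
  have hS243 : Nat.card S ∣ 243 := by
    have h1 : Nat.card S ∣ 2 ^ 2 * 243 := by
      have := Subgroup.card_dvd_of_le hSM
      rw [hMcard] at this
      simpa using this
    exact (Nat.Coprime.pow_right _ (Nat.coprime_two_right.2 hSo)).dvd_of_dvd_mul_left h1
  -- the part in the elementary group
  obtain ⟨K, hK⟩ : ∃ K, B.subgroupOf X = K := ⟨_, rfl⟩
  have hmK : ∀ x : X, x ∈ K ↔ (x : G) ∈ B := fun x => by rw [← hK]; rfl
  haveI : (K.subgroupOf M).Normal := ⟨fun n hn g => (hmK _).2 ((Subgroup.mem_normalizer_iff.1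
    (show ((g : X) : G) ∈ Subgroup.normalizer (B : Set G) from hN.symm ▸ (hmM _).1 g.2) _).1 ((hmK _).1 hn))⟩
  have hKM : K ≤ M := fun x hx => (hmM x).2 (hBX _ ((hmK x).1 hx)).2
  have hKc : Nat.card K = 81 := by
    rw [← hK, Nat.card_congr (Subgroup.subgroupOfEquivOfLe (fun b hb => (hBX b hb).1)).toEquiv, D.card_B]
  obtain ⟨r, hr⟩ : ∃ r, K.relIndex S = r := ⟨_, rfl⟩
  have hr12 : r ∣ 12 := by
    have h1 := Subgroup.relIndex_dvd_index_of_normal (K.subgroupOf M) (S.subgroupOf M)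
    rw [Subgroup.relIndex_subgroupOf hSM, hr] at h1
    have h2 := (K.subgroupOf M).card_mul_index
    rw [Nat.card_congr (Subgroup.subgroupOfEquivOfLe hKM).toEquiv, hKc, hMcard] at h2
    rwa [show (K.subgroupOf M).index = 12 by omega] at h1
  have hrS := (K.subgroupOf S).card_mul_index
  change Nat.card ↥(K.subgroupOf S) * K.relIndex S = _ at hrS
  rw [hr] at hrS
  have hr3 : r ∣ 3 := by
    have h1 : r ∣ 243 := (Dvd.intro_left _ hrS).trans hS243
    exact (show Nat.gcd 12 243 = 3 from rfl) ▸ Nat.dvd_gcd hr12 h1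
  have hr3' : r ≤ 3 := Nat.le_of_dvd (by norm_num) hr3
  -- the elementary group is not contained
  have hnle : ¬ K ≤ S := by
    intro hKS
    refine huM ((hmM u).2 ?_)
    have hA : B.map (MulAut.conj (u : G)).toMonoidHom = B := by
      refine D.abelian_unique _ ?_ ?_ ?_
      · rintro _ ⟨a, ha, rfl⟩ _ ⟨b, hb, rfl⟩
        simp only [MulEquiv.coe_toMonoidHom, MulAut.conj_apply]
        rw [show (u : G) * a * (u : G)⁻¹ * ((u : G) * b * (u : G)⁻¹) = (u : G) * (a * b) * (u : G)⁻¹ by group,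
          D.coord.comm ha hb]
        group
      · rw [Subgroup.card_map_of_injective (MulAut.conj (u : G)).injective, D.card_B]
      · rintro _ ⟨a, ha, rfl⟩
        have := ((hS _).1 (hKS ((hmK ⟨a, (hBX a ha).1⟩).2 ha))).2
        exact hN.symm ▸ (hmM _).1 this
    rw [← hN, Subgroup.mem_normalizer_iff]
    refine fun x => ⟨fun hx => hA.le ⟨x, hx, rfl⟩, fun hx => ?_⟩
    obtain ⟨y, hy, hye⟩ := hA.ge hx
    rwa [show x = y from mul_left_cancel (a := (u : G)) (mul_right_cancel (b := (u : G)⁻¹) hye.symm)]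
  have hKS : Nat.card ↥(K.subgroupOf S) < 81 := by
    have hinj : Function.Injective fun x : K.subgroupOf S => (⟨((x : S) : X), x.2⟩ : K) := fun a b e =>
      Subtype.ext (Subtype.ext (congrArg Subtype.val e :))
    refine lt_of_le_of_ne (hKc ▸ Nat.card_le_card_of_injective _ hinj) fun h => hnle fun x hx => ?_
    obtain ⟨y, hy⟩ := (hinj.bijective_of_nat_card_le (by rw [h, hKc])).2 ⟨x, hx⟩
    have hyx : ((y : S) : X) = x := congrArg Subtype.val hy
    exact hyx ▸ (y : S).2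
  have hS81 : Nat.card S = 81 := by
    obtain ⟨k, hk, hke⟩ := (Nat.dvd_prime_pow Nat.prime_three).1 (show Nat.card S ∣ 3 ^ 5 by simpa using hS243)
    interval_cases k <;> simp only [Nat.reducePow] at hke <;> nlinarith
  have hKS27 : 27 ≤ Nat.card ↥(K.subgroupOf S) := by nlinarith
  -- all cosets are inverted
  have hbij := hF.bijective_of_nat_card_le (by rw [Nat.card_prod, Nat.card_fin]; omega)
  have hcom : ∀ a b : S, ∃ k : ℕ, (a : X) * b = b * a * d ^ k := by
    intro a b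
    obtain ⟨⟨x, i⟩, hx⟩ := hbij.2 a
    obtain ⟨⟨y, j⟩, hy⟩ := hbij.2 b
    obtain ⟨⟨w, k⟩, hw⟩ := hbij.2 ⟨(x : X) * y, S.mul_mem x.2.1 y.2.1⟩
    have hxy : (w : X) * d ^ (k : ℕ) = (x : X) * y := congrArg Subtype.val hw
    have e1 : u * ((x : X) * y) * u⁻¹ = (x : X)⁻¹ * (y : X)⁻¹ := by
      rw [← x.2.2, ← y.2.2]; group
    rw [← hxy, show u * ((w : X) * d ^ (k : ℕ)) * u⁻¹ = (u * w * u⁻¹) * (u * d ^ (k : ℕ) * u⁻¹) by group, w.2.2,
      hdpow] at e1
    have hw' : (w : X) = (x : X) * y * (d ^ (k : ℕ))⁻¹ := by rw [← hxy, mul_inv_cancel_right]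
    rw [hw'] at e1
    obtain ⟨p, hp⟩ : ∃ p, d ^ (k : ℕ) = p := ⟨_, rfl⟩
    have hp3 : p * p * p = 1 := by
      rw [← hp, ← pow_add, ← pow_add, show (k : ℕ) + k + k = 3 * k by ring, pow_mul, hd3, one_pow]
    have hcp : ∀ q : X, q * p = p * q := fun q => hp ▸ cent q k
    rw [hp] at e1
    have e3 : (y : X) * x = x * y * p := by
      calc (y : X) * x = ((x : X)⁻¹ * (y : X)⁻¹)⁻¹ := by group
        _ = p⁻¹ * ((x : X) * y * p⁻¹) := by rw [← e1]; group
        _ = (x : X) * y * p⁻¹ * p⁻¹ :=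
            ((show Commute ((x : X) * y * p⁻¹) p from hcp _).inv_right.eq).symm
        _ = (x : X) * y * (p⁻¹ * p⁻¹ * (p * p * p)) := by rw [hp3, mul_one, mul_assoc]
        _ = (x : X) * y * p := by group
    have hxa : (x : X) * d ^ (i : ℕ) = a := congrArg Subtype.val hx
    have hyb : (y : X) * d ^ (j : ℕ) = b := congrArg Subtype.val hy
    refine ⟨2 * k, ?_⟩
    rw [pow_mul', hp, pow_two, ← hxa, ← hyb]
    calc (x : X) * d ^ (i : ℕ) * (y * d ^ (j : ℕ)) = x * y * (d ^ (i : ℕ) * d ^ (j : ℕ)) := by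
          rw [mul_assoc, ← mul_assoc (d ^ (i : ℕ)) (y : X), ← cent, mul_assoc (y : X), ← mul_assoc]
      _ = y * x * (p * p) * (d ^ (j : ℕ) * d ^ (i : ℕ)) := by
          rw [e3, show (x : X) * y * p * (p * p) = x * y * (p * p * p) by group, hp3, mul_one, ← pow_add, ← pow_add,
            add_comm]
      _ = y * x * (d ^ (j : ℕ) * d ^ (i : ℕ)) * (p * p) := by
          rw [mul_assoc ((y : X) * x), mul_assoc ((y : X) * x), ← pow_add,
            show p * p = d ^ (k + k : ℕ) by rw [pow_add, hp], ← pow_add, ← pow_add, add_comm]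
      _ = y * d ^ (j : ℕ) * (x * d ^ (i : ℕ)) * (p * p) := by
          rw [mul_assoc (y : X) (d ^ (j : ℕ)), ← mul_assoc (d ^ (j : ℕ)) (x : X), ← cent (x : X), mul_assoc (x : X),
            ← mul_assoc (y : X)]
  obtain ⟨g, hgK⟩ : ∃ g : S, (g : X) ∉ K := by
    by_contra hall
    push Not at hall
    have : S ≤ K := fun x hx => hall ⟨x, hx⟩
    exact hnle (Subgroup.eq_of_le_of_card_ge this (by rw [hKc, hS81])).ge
  obtain ⟨L, hL, hgL⟩ := hact g (hSM g.2)
  have hLl : L ∈ lList := (List.mem_filter.1 hL).1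
  have hL3 : lmul L (lmul L L) = lone := D.cube_code (k := 4) hLl hgL (by
    rw [← Subgroup.coe_pow, ← Subgroup.coe_pow, show (3 : ℕ) ^ 4 = Nat.card S by rw [hS81]; norm_num, pow_card_eq_one',
      Subgroup.coe_one, Subgroup.coe_one])
  have hL1 : L ≠ lone := fun h => hgK ((hmK _).2 (D.mem_of_act_one (h ▸ hgL)))
  have h9 : (fixVec L).length = 9 := by
    have := of_all lThree_fix (show L ∈ lThree from List.mem_filter.2 ⟨hLl, by simp [hL3, hL1]⟩)
    simp only [Bool.and_eq_true, beq_iff_eq] at this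
    exact this.1.1
  have hKS9 : Nat.card ↥(K.subgroupOf S) ≤ 9 := by
    haveI := Fintype.ofFinite ↥(K.subgroupOf S)
    have hv : ∀ x : K.subgroupOf S, ∃ v < 81, θ v = ((x : S) : X) := fun x =>
      (D.coord.mem _).1 ((hmK _).1 x.2)
    choose v hv hve using hv
    rw [Nat.card_eq_fintype_card, ← Finset.card_univ]
    refine (Finset.card_le_card_of_injOn (t := (fixVec L).toFinset) v (fun x _ => ?_) fun a _ b _ h => ?_).trans
      ((List.toFinset_card_le _).trans h9.le)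
    · rw [Finset.mem_coe, List.mem_toFinset]
      refine List.mem_filter.2 ⟨List.mem_range.2 (hv x), ?_⟩
      obtain ⟨k, hk⟩ := hcom g (x : S)
      have hk' : ((g : X) : G) * θ (v x) * ((g : X) : G)⁻¹ = θ (v x) * θ 1 ^ k := by
        have h1 := congrArg Subtype.val hk
        rw [Subgroup.coe_mul, Subgroup.coe_mul, Subgroup.coe_mul, ← hve x, hd, Subgroup.coe_pow] at h1
        rw [h1, show θ (v x) * ((g : X) : G) * θ 1 ^ k = θ (v x) * (((g : X) : G) * θ 1 ^ k) by group,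
          ((show Commute ((g : X) : G) (θ 1) from (hmX _).1 (g : X).2).pow_right k).eq]
        group
      have hmem : lapp L (v x) ∈ [v x, vadd (v x) 1, vadd (v x) 2] := by
        have e := (hgL (v x) (hv x)).symm.trans hk'
        have h3 : θ 1 ^ 3 = 1 := by rw [hd] at hd3; exact congrArg Subtype.val hd3
        rw [show θ 1 ^ k = θ 1 ^ (k % 3) by conv_lhs => rw [← Nat.mod_add_div k 3, pow_add, pow_mul, h3, one_pow, mul_one],
          ← D.coord.smul (Nat.mod_lt _ (by norm_num)) (by norm_num),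
          ← D.coord.add _ (hv x) (vsmul (k % 3) 1) (vmk_lt _ _ _ _)] at e
        have e' := D.coord.inj _ (lapp_lt _ _) _ (vadd_lt (hv x) (b := vsmul (k % 3) 1) (vmk_lt _ _ _ _)) e
        have hs : vsmul 0 1 = 0 ∧ vsmul 1 1 = 1 ∧ vsmul 2 1 = 2 := by decide +kernel
        obtain h | h | h : k % 3 = 0 ∨ k % 3 = 1 ∨ k % 3 = 2 := by omega
        all_goals rw [h] at e'
        · rw [hs.1] at e'
          have : vadd (v x) 0 = v x := D.coord.inj _ (vadd_lt (hv x) (by norm_num)) _ (hv x) (by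
            rw [D.coord.add _ (hv x) 0 (by norm_num), D.coord.zero, mul_one])
          simp [e', this]
        · rw [hs.2.1] at e'; simp [e']
        · rw [hs.2.2] at e'; simp [e']
      have := of_all lStab_ok.2.2.1 hL
      simp only [hL3, bne_self_eq_false, Bool.false_or, Bool.or_eq_true, beq_iff_eq, hL1, false_or,
        List.all_eq_true, List.mem_range] at this
      have := this (v x) (hv x)
      simpa [hmem] using this
    · exact Subtype.ext (Subtype.ext (Subtype.ext (by rw [← hve a, ← hve b, h])))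
  omega

/-- The centraliser of the first coordinate, by maps. -/
theorem Base.cent_d (D : Base z φ B θ e e') (g : G) : g * θ 1 = θ 1 * g ↔ ∃ L ∈ lStab, VAct θ g L := by
  refine ⟨fun hg => ?_, fun ⟨L, hL, hgL⟩ => (D.fix_one hgL).2 (by simpa using (List.mem_filter.1 hL).2)⟩
  obtain ⟨L, hL, hgL⟩ := D.normal_act (D.cent_d_normal hg)
  exact ⟨L, List.mem_filter.2 ⟨hL, by simpa using (D.fix_one hgL).1 hg⟩, hgL⟩

theorem Base.card_cent_d (D : Base z φ B θ e e') : Nat.card ↥(Subgroup.centralizer ({θ 1} : Set G)) = 972 := by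
  rw [D.card_of_codes _ lStab (lList_ok.2.1.filter _) (fun L hL => (List.mem_filter.1 hL).1)
    (fun g => by rw [Subgroup.mem_centralizer_singleton_iff]; exact D.cent_d g), lStab_ok.1]

end CfsgU43Type
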