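import Cfsg.Agent.Lib.U43Type.Data

/-!
Groups of U₄(3) type: computing in the coordinates of the centraliser, and the twist exchanging the two diagonal
classes.
-/

set_option autoImplicit false
set_option maxRecDepth 100000
set_option linter.unusedSectionVars false

namespace CfsgU43Type

/-- The inverse in the model. -/
def minv (x : ℕ) : ℕ :=
  4 * kmul (ract (x % 4) (kinv (x / 4))) (rcorr (x % 4) (x % 4)) + x % 4

/-- Conjugation in the model. -/
def mconj (h x : ℕ) : ℕ := mmul (mmul h x) (minv h)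

/-- The automorphism of the model exchanging the two diagonal classes of elements of order three. -/
def twist (x : ℕ) : ℕ :=
  match x % 4 with
  | 1 => 4 * kapp 15 (x / 4) + 3
  | 2 => 4 * kapp 15 (x / 4) + 2
  | 3 => 4 * kmul (kapp 15 (x / 4)) 12 + 1
  | _ => 4 * kapp 15 (x / 4)

theorem minv_ok : ((List.range 1152).all fun x => mmul (minv x) x == 0 && decide (minv x < 1152)) = true := by
  decide +kernel

theorem one_ok : ((List.range 1152).all fun x => mmul 0 x == x && mmul x 0 == x) = true := by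
  decide +kernel

theorem twist_ok : ((List.range 1152).all fun x => twist (twist (twist (twist x))) == x && decide (twist x < 1152) &&
    (inQm (twist x) == inQm x) && [96, 384, 4, 16, 1, 2].all fun g =>
      twist (mmul x g) == mmul (twist x) (twist g)) = true := by
  decide +kernel

variable {G : Type*} [Group G] {z : G} {φ : ℕ → G}

theorem minv_lt {x : ℕ} (hx : x < 1152) : minv x < 1152 := by
  have := of_range_all minv_ok hx
  simp only [Bool.and_eq_true, decide_eq_true_eq] at this
  exact this.2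

theorem mconj_lt {h x : ℕ} (hh : h < 1152) (hx : x < 1152) : mconj h x < 1152 :=
  mmul_lt (mmul_lt hh hx) (minv_lt hh)

theorem Data.one (D : Data z φ) : φ 0 = 1 := by
  have e := D.mul 0 (by norm_num) 0 (by norm_num)
  rw [show mmul 0 0 = 0 by decide +kernel] at e
  exact mul_eq_left.1 e.symm

theorem Data.inv (D : Data z φ) {x : ℕ} (hx : x < 1152) : φ (minv x) = (φ x)⁻¹ := by
  have e := of_range_all minv_ok hx
  simp only [Bool.and_eq_true, beq_iff_eq, decide_eq_true_eq] at e
  refine (inv_eq_of_mul_eq_one_left ?_).symm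
  rw [← D.mul _ e.2 _ hx, e.1, D.one]

theorem Data.conj (D : Data z φ) {h x : ℕ} (hh : h < 1152) (hx : x < 1152) :
    φ (mconj h x) = φ h * φ x * (φ h)⁻¹ := by
  rw [mconj, D.mul _ (mmul_lt hh hx) _ (minv_lt hh), D.mul _ hh _ hx, D.inv hh]

theorem Data.commute_iff (D : Data z φ) {a b : ℕ} (ha : a < 1152) (hb : b < 1152) :
    φ a * φ b = φ b * φ a ↔ mmul a b = mmul b a := by
  rw [← D.mul _ ha _ hb, ← D.mul _ hb _ ha]
  exact ⟨D.inj _ (mmul_lt ha hb) _ (mmul_lt hb ha), congrArg φ⟩

theorem Data.sq_iff (D : Data z φ) {a : ℕ} (ha : a < 1152) : φ a * φ a = 1 ↔ mmul a a = 0 := by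
  rw [← D.mul _ ha _ ha, ← D.one]
  exact ⟨D.inj _ (mmul_lt ha ha) _ (by norm_num), congrArg φ⟩

theorem Data.comm_z (D : Data z φ) {x : ℕ} (hx : x < 1152) : φ x * z = z * φ x :=
  (D.cent _).2 ⟨x, hx, rfl⟩

theorem Data.zz (D : Data z φ) : z * z = 1 := by
  rw [← sq, ← D.z2, pow_orderOf_eq_one]

theorem Data.z_ne (D : Data z φ) : z ≠ 1 := fun e => by
  have h := D.z2
  rw [e, orderOf_one] at h
  omega

theorem Data.assoc (D : Data z φ) {a b c : ℕ} (ha : a < 1152) (hb : b < 1152) (hc : c < 1152) :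
    mmul (mmul a b) c = mmul a (mmul b c) := by
  refine D.inj _ (mmul_lt (mmul_lt ha hb) hc) _ (mmul_lt ha (mmul_lt hb hc)) ?_
  rw [D.mul _ (mmul_lt ha hb) _ hc, D.mul _ ha _ hb, D.mul _ ha _ (mmul_lt hb hc), D.mul _ hb _ hc, mul_assoc]

/-- A property closed under the product and true at the six generators holds everywhere. -/
theorem mgen_induction {P : ℕ → Prop} (hgen : ∀ g ∈ [96, 384, 4, 16, 1, 2], P g)
    (hmul : ∀ a < 1152, ∀ b < 1152, P a → P b → P (mmul a b)) : ∀ a < 1152, P a := by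
  have M1 : ∀ a < 24, ∀ b < 24, mmul (4 * kc a 0) (4 * kc b 0) = 4 * kc (smul a b) 0 := by decide +kernel
  have M2 : ∀ a < 24, ∀ b < 24, mmul (4 * kc 0 a) (4 * kc 0 b) = 4 * kc 0 (smul a b) := by decide +kernel
  have gk : kc 1 0 = 24 ∧ kc 4 0 = 96 ∧ kc 0 1 = 1 ∧ kc 0 4 = 4 := by decide +kernel
  have lk : ∀ a < 24, 4 * kc a 0 < 1152 ∧ 4 * kc 0 a < 1152 := fun a ha =>
    ⟨by have := kc_lt a ha 0 (by norm_num); omega, by have := kc_lt 0 (by norm_num) a ha; omega⟩
  have s1 : ∀ a < 24, P (4 * kc a 0) := sgen_induction (P := fun a => P (4 * kc a 0))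
    (by show P _; rw [gk.1]; exact hgen 96 (by simp)) (by show P _; rw [gk.2.1]; exact hgen 384 (by simp))
    fun a ha b hb pa pb => by
      show P _
      rw [← M1 a ha b hb]
      exact hmul _ (lk a ha).1 _ (lk b hb).1 pa pb
  have s2 : ∀ a < 24, P (4 * kc 0 a) := sgen_induction (P := fun a => P (4 * kc 0 a))
    (by show P _; rw [gk.2.2.1]; exact hgen 4 (by simp)) (by show P _; rw [gk.2.2.2]; exact hgen 16 (by simp))
    fun a ha b hb pa pb => by
      show P _
      rw [← M2 a ha b hb]
      exact hmul _ (lk a ha).2 _ (lk b hb).2 pa pb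
  have hr : ∀ r < 4, P r := by
    intro r hr
    interval_cases r
    · have := s1 0 (by norm_num)
      rwa [show 4 * kc 0 0 = 0 by decide +kernel] at this
    · exact hgen 1 (by simp)
    · exact hgen 2 (by simp)
    · have := hmul 1 (by norm_num) 2 (by norm_num) (hgen 1 (by simp)) (hgen 2 (by simp))
      rwa [show mmul 1 2 = 3 by decide +kernel] at this
  have dec : ((List.range 1152).all fun x =>
      mmul (mmul (4 * kc (x / 4 / 24) 0) (4 * kc 0 (x / 4 % 24))) (x % 4) == x) = true := by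
    decide +kernel
  intro a ha
  have e := of_range_all dec ha
  simp only [beq_iff_eq] at e
  have hl := lk (a / 4 / 24) (by omega)
  have hl' := lk (a / 4 % 24) (by omega)
  rw [← e]
  exact hmul _ (mmul_lt hl.1 hl'.2) _ (by omega) (hmul _ hl.1 _ hl'.2 (s1 _ (by omega)) (s2 _ (by omega)))
    (hr _ (by omega))

/-- The twisted coordinates. -/
theorem Data.twisted (D : Data z φ) : Data z (fun x => φ (twist x)) := by
  have tk : ∀ x < 1152, twist (twist (twist (twist x))) = x ∧ twist x < 1152 ∧ inQm (twist x) = inQm x ∧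
      ∀ g ∈ [96, 384, 4, 16, 1, 2], twist (mmul x g) = mmul (twist x) (twist g) := fun x hx => by
    have := of_range_all twist_ok hx
    simp only [Bool.and_eq_true, beq_iff_eq, decide_eq_true_eq, List.all_eq_true] at this
    exact ⟨this.1.1.1, this.1.1.2, this.1.2, this.2⟩
  have tmul : ∀ b < 1152, ∀ a < 1152, twist (mmul a b) = mmul (twist a) (twist b) := by
    refine mgen_induction (fun g hg a ha => (tk a ha).2.2.2 g hg) fun b hb c hc pb pc a ha => ?_
    rw [← D.assoc ha hb hc, pc _ (mmul_lt ha hb), pb a ha, pc b hb,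
      D.assoc (tk a ha).2.1 (tk b hb).2.1 (tk c hc).2.1]
  refine ⟨D.z2, fun a ha b hb => ?_, fun a ha b hb e => ?_, fun c => ?_, ?_, ?_⟩
  · show φ _ = φ _ * φ _
    rw [tmul b hb a ha, D.mul _ (tk a ha).2.1 _ (tk b hb).2.1]
  · have := congrArg (fun t => twist (twist (twist t))) (D.inj _ (tk a ha).2.1 _ (tk b hb).2.1 e)
    rwa [(tk a ha).1, (tk b hb).1] at this
  · rw [D.cent]
    exact ⟨fun ⟨x, hx, e⟩ => ⟨twist (twist (twist x)), (tk _ (tk _ (tk x hx).2.1).2.1).2.1,
        by show φ _ = c; rw [(tk x hx).1, e]⟩,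
      fun ⟨x, hx, e⟩ => ⟨twist x, (tk x hx).2.1, e⟩⟩
  · show φ (twist 48) = z
    rw [show twist 48 = 48 by decide +kernel, D.zc]
  · obtain ⟨g, h1, h2, h3⟩ := D.swap
    obtain ⟨c1, c2, c3, c4⟩ : mconj 192 48 = 48 ∧ mconj 192 100 = 148 ∧ twist 100 = 148 ∧ mconj 192 148 = 100 := by
      decide +kernel
    refine ⟨φ 192 * g * (φ 192)⁻¹, ?_, ?_, ?_⟩
    · show _ = φ (twist 100)
      rw [c3, ← c2, D.conj (by norm_num) (by norm_num), ← h1,
        show φ 192 * g * (φ 192)⁻¹ * z * (φ 192 * g * (φ 192)⁻¹)⁻¹ =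
          φ 192 * (g * ((φ 192)⁻¹ * z * φ 192) * g⁻¹) * (φ 192)⁻¹ by group,
        show (φ 192)⁻¹ * z * φ 192 = z by rw [mul_assoc, ← D.comm_z (by norm_num), inv_mul_cancel_left]]
    · show _ * φ (twist 100) * _ = z
      have e : φ (twist 100) = φ 192 * φ 100 * (φ 192)⁻¹ := by rw [c3, ← c2, D.conj (by norm_num) (by norm_num)]
      rw [e, show φ 192 * g * (φ 192)⁻¹ * (φ 192 * φ 100 * (φ 192)⁻¹) * (φ 192 * g * (φ 192)⁻¹)⁻¹ =
          φ 192 * (g * φ 100 * g⁻¹) * (φ 192)⁻¹ by group, h2, D.comm_z (by norm_num), mul_inv_cancel_right]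
    · intro x hx y hy hxQ hyQ e
      have hQc : ((List.range 1152).all fun x => !inQm x || inQm (mconj (minv 192) (twist x))) = true ∧
          ([0, 48, 100, 148].all fun w => [0, 48, 100, 148].contains (twist (twist (twist (mconj 192 w))))) = true := by
        decide +kernel
      have lx := mconj_lt (minv_lt (show 192 < 1152 by norm_num)) (tk x hx).2.1
      have ly := mconj_lt (minv_lt (show 192 < 1152 by norm_num)) (tk y hy).2.1
      have qx : inQm (mconj (minv 192) (twist x)) = true := by simpa [hxQ] using of_range_all hQc.1 hx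
      have qy : inQm (mconj (minv 192) (twist y)) = true := by simpa [hyQ] using of_range_all hQc.1 hy
      have e2 : g * φ (mconj (minv 192) (twist x)) * g⁻¹ = φ (mconj (minv 192) (twist y)) := by
        rw [D.conj (minv_lt (by norm_num)) (tk x hx).2.1, D.conj (minv_lt (by norm_num)) (tk y hy).2.1,
          D.inv (by norm_num), inv_inv, ← e]
        group
      have hm := h3 _ lx _ ly qx qy e2
      have := of_all hQc.2 hm
      rw [show mconj 192 (mconj (minv 192) (twist y)) = twist y from D.inj _ (mconj_lt (by norm_num) ly) _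
          (tk y hy).2.1 (by rw [D.conj (by norm_num) ly, D.conj (minv_lt (by norm_num)) (tk y hy).2.1,
            D.inv (by norm_num), inv_inv]; group), (tk y hy).1] at this
      simpa using this

end CfsgU43Type
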