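import Cfsg.Agent.Lib.U43Type.BGen
import Cfsg.Agent.Lib.U43Type.Vec

/-!
Groups of U₄(3) type: the odd part of the centraliser of the group of order nine is elementary of order eighty-one,
with coordinates.
-/

set_option autoImplicit false
set_option maxRecDepth 100000
set_option linter.unusedSectionVars false

namespace CfsgU43Type

theorem vadd_facts : ((List.range 81).all fun a => decide (vneg a < 81) && vadd a (vneg a) == 0 &&
    vsmul 0 a == 0 && vsmul 1 a == a && vsmul 2 a == vadd a a && vadd 0 a == a && vadd a 0 == a &&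
    (List.range 81).all fun b => decide (vadd a b < 81)) = true := by
  decide +kernel

theorem vadd_lt {a b : ℕ} (ha : a < 81) (hb : b < 81) : vadd a b < 81 := by
  have := of_range_all vadd_facts ha
  simp only [Bool.and_eq_true, List.all_eq_true, List.mem_range, decide_eq_true_eq] at this
  exact this.2 b hb

theorem vneg_lt {a : ℕ} (ha : a < 81) : vneg a < 81 := vadd_lt ha ha

theorem vmk_lt (i j k l : ℕ) : vmk i j k l < 81 := by
  unfold vmk; omega

theorem vmk_digits (i j k l : ℕ) : vmk i j k l % 3 = i % 3 ∧ vmk i j k l / 3 % 3 = j % 3 ∧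
    vmk i j k l / 9 % 3 = k % 3 ∧ vmk i j k l / 27 % 3 = l % 3 := by
  obtain ⟨a, ha⟩ : ∃ a, i % 3 = a := ⟨_, rfl⟩
  obtain ⟨b, hb⟩ : ∃ b, j % 3 = b := ⟨_, rfl⟩
  obtain ⟨c, hc⟩ : ∃ c, k % 3 = c := ⟨_, rfl⟩
  obtain ⟨d, hd⟩ : ∃ d, l % 3 = d := ⟨_, rfl⟩
  have : a < 3 ∧ b < 3 ∧ c < 3 ∧ d < 3 := by omega
  rw [vmk, ha, hb, hc, hd]
  omega

theorem vadd_digits (u v : ℕ) : vadd u v % 3 = (u % 3 + v % 3) % 3 ∧
    vadd u v / 3 % 3 = (u / 3 % 3 + v / 3 % 3) % 3 ∧ vadd u v / 9 % 3 = (u / 9 % 3 + v / 9 % 3) % 3 ∧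
    vadd u v / 27 % 3 = (u / 27 % 3 + v / 27 % 3) % 3 := by
  obtain ⟨a, b, c, d⟩ := vmk_digits (u + v) (u / 3 + v / 3) (u / 9 + v / 9) (u / 27 + v / 27)
  rw [vadd, a, b, c, d]
  exact ⟨Nat.add_mod _ _ _, Nat.add_mod _ _ _, Nat.add_mod _ _ _, Nat.add_mod _ _ _⟩

theorem lcol_lt (g c : ℕ) : lcol g c < 81 := by
  unfold lcol; omega

theorem lapp_lt (g v : ℕ) : lapp g v < 81 := vmk_lt _ _ _ _

theorem lapp_unit (M : ℕ) : lapp M 1 = lcol M 0 ∧ lapp M 3 = lcol M 1 ∧ lapp M 9 = lcol M 2 ∧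
    lapp M 27 = lcol M 3 := by
  have h : ∀ a < 81, vsmul 0 a = 0 ∧ vsmul 1 a = a ∧ vadd 0 a = a ∧ vadd a 0 = a := fun a ha => by
    have := of_range_all vadd_facts ha
    simp only [Bool.and_eq_true, beq_iff_eq, decide_eq_true_eq] at this
    exact ⟨this.1.1.1.1.1.2, this.1.1.1.1.2, this.1.1.2, this.1.2⟩
  have h0 := h 0 (by norm_num)
  obtain ⟨a0, b0, c0, d0⟩ := h _ (lcol_lt M 0)
  obtain ⟨a1, b1, c1, d1⟩ := h _ (lcol_lt M 1)
  obtain ⟨a2, b2, c2, d2⟩ := h _ (lcol_lt M 2)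
  obtain ⟨a3, b3, c3, d3⟩ := h _ (lcol_lt M 3)
  refine ⟨?_, ?_, ?_, ?_⟩ <;> unfold lapp <;>
    norm_num [a0, b0, c0, d0, a1, b1, c1, d1, a2, b2, c2, d2, a3, b3, c3, d3, h0.2.2.1]

theorem lcol_lpack {a b c d : ℕ} (ha : a < 81) (hb : b < 81) (hc : c < 81) (hd : d < 81) :
    lcol (lpack a b c d) 0 = a ∧ lcol (lpack a b c d) 1 = b ∧ lcol (lpack a b c d) 2 = c ∧
      lcol (lpack a b c d) 3 = d := by
  refine ⟨?_, ?_, ?_, ?_⟩ <;> simp only [lcol, lpack] <;> omega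

variable {G : Type*} [Group G] {z : G} {φ : ℕ → G}

/-- Coordinates on the group of order eighty-one. -/
def vcoord (φ : ℕ → G) (a : ℕ) (e : G) (v : ℕ) : G :=
  φ a ^ (v % 3) * φ 416 ^ (v / 3 % 3) * (e * φ 416 * e⁻¹) ^ (v / 9 % 3) *
    (e * e * φ 416 * (e * e)⁻¹) ^ (v / 27 % 3)

/-- Coordinates on a subgroup. -/
structure VecCoord (B : Subgroup G) (θ : ℕ → G) : Prop where
  mem : ∀ g, g ∈ B ↔ ∃ v < 81, θ v = g
  add : ∀ a < 81, ∀ b < 81, θ (vadd a b) = θ a * θ b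
  inj : ∀ a < 81, ∀ b < 81, θ a = θ b → a = b
  dec : ∀ v < 81, θ v = θ 1 ^ (v % 3) * θ 3 ^ (v / 3 % 3) * θ 9 ^ (v / 9 % 3) * θ 27 ^ (v / 27 % 3)

/-- Conjugation by `g` is the linear map `L`. -/
def VAct (θ : ℕ → G) (g : G) (L : ℕ) : Prop :=
  ∀ v < 81, g * θ v * g⁻¹ = θ (lapp L v)

variable {B : Subgroup G} {θ : ℕ → G}

theorem VecCoord.zero (C : VecCoord B θ) : θ 0 = 1 := by
  simpa using C.dec 0 (by norm_num)

theorem VecCoord.neg (C : VecCoord B θ) {v : ℕ} (hv : v < 81) : θ (vneg v) = (θ v)⁻¹ := by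
  have := of_range_all vadd_facts hv
  simp only [Bool.and_eq_true, beq_iff_eq, decide_eq_true_eq] at this
  refine (inv_eq_of_mul_eq_one_right ?_).symm
  rw [← C.add v hv _ this.1.1.1.1.1.1.1, this.1.1.1.1.1.1.2, C.zero]

theorem VecCoord.smul (C : VecCoord B θ) {n a : ℕ} (hn : n < 3) (ha : a < 81) : θ (vsmul n a) = θ a ^ n := by
  have := of_range_all vadd_facts ha
  simp only [Bool.and_eq_true, beq_iff_eq, decide_eq_true_eq] at this
  interval_cases n
  · rw [this.1.1.1.1.1.2, C.zero, pow_zero]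
  · rw [this.1.1.1.1.2, pow_one]
  · rw [this.1.1.1.2, C.add a ha a ha, pow_two]

theorem VecCoord.app (C : VecCoord B θ) (L v : ℕ) : θ (lapp L v) = θ (lcol L 0) ^ (v % 3) *
    θ (lcol L 1) ^ (v / 3 % 3) * θ (lcol L 2) ^ (v / 9 % 3) * θ (lcol L 3) ^ (v / 27 % 3) := by
  have h0 : v % 3 < 3 := by omega
  have h1 : v / 3 % 3 < 3 := by omega
  have h2 : v / 9 % 3 < 3 := by omega
  have h3 : v / 27 % 3 < 3 := by omega
  have hl : ∀ n a, vsmul n a < 81 := fun n a => vmk_lt _ _ _ _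
  rw [lapp, C.add _ (vadd_lt (hl _ _) (hl _ _)) _ (vadd_lt (hl _ _) (hl _ _)), C.add _ (hl _ _) _ (hl _ _), C.add _ (hl _ _) _ (hl _ _),
    C.smul h0 (lcol_lt _ _), C.smul h1 (lcol_lt _ _), C.smul h2 (lcol_lt _ _), C.smul h3 (lcol_lt _ _)]
  group

/-- An action is determined on the four unit vectors. -/
theorem VecCoord.act_of_basis (C : VecCoord B θ) {g : G} {L : ℕ} (h0 : g * θ 1 * g⁻¹ = θ (lcol L 0))
    (h1 : g * θ 3 * g⁻¹ = θ (lcol L 1)) (h2 : g * θ 9 * g⁻¹ = θ (lcol L 2))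
    (h3 : g * θ 27 * g⁻¹ = θ (lcol L 3)) : VAct θ g L := by
  intro v hv
  rw [C.app, ← h0, ← h1, ← h2, ← h3, conj_pow, conj_pow, conj_pow, conj_pow, C.dec v hv]
  group

/-- The actions multiply. -/
theorem VecCoord.act_mul (C : VecCoord B θ) {g h : G} {L M : ℕ} (hg : VAct θ g L) (hh : VAct θ h M) :
    VAct θ (g * h) (lmul L M) := by
  obtain ⟨e0, e1, e2, e3⟩ := lcol_lpack (lapp_lt L (lcol M 0)) (lapp_lt L (lcol M 1)) (lapp_lt L (lcol M 2))
    (lapp_lt L (lcol M 3))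
  have key : ∀ u < 81, ∀ c, h * θ u * h⁻¹ = θ (lcol M c) → g * h * θ u * (g * h)⁻¹ = θ (lapp L (lcol M c)) :=
    fun u _ c e => by rw [← hg _ (lcol_lt _ _), ← e]; group
  have hb : ∀ u c, u < 81 → lapp M u = lcol M c → h * θ u * h⁻¹ = θ (lcol M c) := fun u c hu e =>
    e ▸ hh u hu
  have hu := lapp_unit M
  refine C.act_of_basis ?_ ?_ ?_ ?_
  · rw [show lcol (lmul L M) 0 = _ from e0]; exact key 1 (by norm_num) 0 (hb 1 0 (by norm_num) hu.1)
  · rw [show lcol (lmul L M) 1 = _ from e1]; exact key 3 (by norm_num) 1 (hb 3 1 (by norm_num) hu.2.1)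
  · rw [show lcol (lmul L M) 2 = _ from e2]; exact key 9 (by norm_num) 2 (hb 9 2 (by norm_num) hu.2.2.1)
  · rw [show lcol (lmul L M) 3 = _ from e3]; exact key 27 (by norm_num) 3 (hb 27 3 (by norm_num) hu.2.2.2)

theorem VecCoord.comm (C : VecCoord B θ) {g h : G} (hg : g ∈ B) (hh : h ∈ B) : g * h = h * g := by
  obtain ⟨a, ha, rfl⟩ := (C.mem g).1 hg
  obtain ⟨b, hb, rfl⟩ := (C.mem h).1 hh
  rw [← C.add a ha b hb, ← C.add b hb a ha, vadd, vadd, add_comm a b, add_comm (a / 3), add_comm (a / 9),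
    add_comm (a / 27)]

variable [Finite G]

set_option maxHeartbeats 800000 in
/-- The facts on the group of order eighty-one for a given element of order three. -/
theorem Data.vecCoord (D : Data z φ) (hB : OddCent φ B) (hsplit : ∀ c, CommT φ c → c ∈ B ∨ c * z ∈ B) {e : G}
    (he : Cyc z φ e) {a : ℕ} (ha : a = 400 ∨ a = 800) :
    VecCoord B (vcoord φ a e) ∧ VAct (vcoord φ a e) z lZ ∧ VAct (vcoord φ a e) (φ 1) lS ∧
      VAct (vcoord φ a e) e lE := by
  obtain ⟨hT, hgen, hnorm⟩ := D.gen_B hB hsplit he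
  obtain ⟨d, hd⟩ : ∃ d, φ a = d := ⟨_, rfl⟩
  obtain ⟨f, hf⟩ : ∃ f, φ 416 = f := ⟨_, rfl⟩
  obtain ⟨f1, hf1⟩ : ∃ f1, e * φ 416 * e⁻¹ = f1 := ⟨_, rfl⟩
  obtain ⟨f2, hf2⟩ : ∃ f2, e * e * φ 416 * (e * e)⁻¹ = f2 := ⟨_, rfl⟩
  have haT : a ∈ tList := by rcases ha with rfl | rfl <;> simp [tList]
  have hfT : (416 : ℕ) ∈ tList := by simp [tList]
  have hl : a < 1152 := (tList_facts haT).1
  have ed : e * d = d * e := by
    rcases ha with rfl | rfl <;> rw [← hd]
    · exact he.comm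
    · rw [show 800 = mmul 400 400 by decide +kernel, D.mul _ (by norm_num) _ (by norm_num)]
      exact (Commute.mul_right he.comm he.comm).eq
  have ef1 : e * f * e⁻¹ = f1 := by rw [← hf, hf1]
  have ef2 : e * f1 * e⁻¹ = f2 := by rw [← hf1, ← hf2]; group
  have ef3 : e * f2 * e⁻¹ = f := by
    rw [← hf2, show e * (e * e * φ 416 * (e * e)⁻¹) * e⁻¹ = e * e * e * φ 416 * (e * e * e)⁻¹ by group, he.cube, ← hf]
    group
  have hf1B : f1 ∈ B := hf1 ▸ (hT 416 hfT).1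
  have hf2B : f2 ∈ B := hf2 ▸ (hT 416 hfT).2
  have c : ∀ p ∈ tList, ∀ x ∈ B, φ p * x = x * φ p := fun p hp x hx => (((hB.mem_iff x).1 hx).1.all D hp).symm
  have c01 : Commute d f := hd ▸ hf ▸ c a haT _ (D.t_mem_B hB hfT)
  have c02 : Commute d f1 := hd ▸ c a haT _ hf1B
  have c03 : Commute d f2 := hd ▸ c a haT _ hf2B
  have c12 : Commute f f1 := hf ▸ c 416 hfT _ hf1B
  have c13 : Commute f f2 := hf ▸ c 416 hfT _ hf2B
  have c23 : Commute f1 f2 := by
    rw [← ef1, ← ef2]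
    show e * f * e⁻¹ * (e * f1 * e⁻¹) = e * f1 * e⁻¹ * (e * f * e⁻¹)
    rw [show e * f * e⁻¹ * (e * f1 * e⁻¹) = e * (f * f1) * e⁻¹ by group, c12.eq]; group
  have cube : ∀ p ∈ tList, φ p ^ 3 = 1 := fun p hp => by
    rw [← D.cube_eq (tList_facts hp).1, (tList_facts hp).2.1, D.one]
  have q0 : d ^ 3 = 1 := hd ▸ cube a haT
  have q1 : f ^ 3 = 1 := hf ▸ cube 416 hfT
  have q2 : f1 ^ 3 = 1 := by rw [← ef1, conj_pow, q1, mul_one, mul_inv_cancel]
  have q3 : f2 ^ 3 = 1 := by rw [← ef2, conj_pow, q2, mul_one, mul_inv_cancel]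
  have θd : ∀ v, vcoord φ a e v = d ^ (v % 3) * f ^ (v / 3 % 3) * f1 ^ (v / 9 % 3) * f2 ^ (v / 27 % 3) := fun v => by
    rw [vcoord, hf1, hf2, hd, hf]
  have e1 : vcoord φ a e 1 = d := by rw [θd]; norm_num
  have e3 : vcoord φ a e 3 = f := by rw [θd]; norm_num
  have e9 : vcoord φ a e 9 = f1 := by rw [θd]; norm_num
  have e27 : vcoord φ a e 27 = f2 := by rw [θd]; norm_num
  have hdec : ∀ v < 81, vcoord φ a e v = vcoord φ a e 1 ^ (v % 3) * vcoord φ a e 3 ^ (v / 3 % 3) *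
      vcoord φ a e 9 ^ (v / 9 % 3) * vcoord φ a e 27 ^ (v / 27 % 3) := fun v _ => by rw [e1, e3, e9, e27, θd]
  have pm : ∀ (x : G), x ^ 3 = 1 → ∀ m, x ^ (m % 3) = x ^ m := fun x hx m => by
    conv_rhs => rw [← Nat.div_add_mod m 3, pow_add, pow_mul, hx, one_pow, one_mul]
  have hadd : ∀ u < 81, ∀ v < 81, vcoord φ a e (vadd u v) = vcoord φ a e u * vcoord φ a e v := by
    intro u _ v _
    rw [θd, θd, θd]
    obtain ⟨d0, d1, d2, d3⟩ := vadd_digits u v
    rw [d0, d1, d2, d3, pm d q0 (u % 3 + v % 3), pm f q1 (u / 3 % 3 + v / 3 % 3), pm f1 q2 (u / 9 % 3 + v / 9 % 3),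
      pm f2 q3 (u / 27 % 3 + v / 27 % 3), pow_add, pow_add, pow_add, pow_add]
    symm
    rw [Commute.mul_mul_mul_comm (((c03.symm.pow_pow _ _).mul_right (c13.symm.pow_pow _ _)).mul_right
        (c23.symm.pow_pow _ _)),
      Commute.mul_mul_mul_comm ((c02.symm.pow_pow _ _).mul_right (c12.symm.pow_pow _ _)),
      Commute.mul_mul_mul_comm (c01.symm.pow_pow _ _)]
  have sgen : ∀ g, g = d ∨ g = f ∨ g = f1 ∨ g = f2 → ∃ v < 81, vcoord φ a e v = g := by
    rintro g (rfl | rfl | rfl | rfl)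
    exacts [⟨1, by norm_num, e1⟩, ⟨3, by norm_num, e3⟩, ⟨9, by norm_num, e9⟩, ⟨27, by norm_num, e27⟩]
  have hzero : vcoord φ a e 0 = 1 := by rw [θd]; simp
  let S : Subgroup G :=
    { carrier := {g | ∃ v < 81, vcoord φ a e v = g}
      one_mem' := ⟨0, by norm_num, hzero⟩
      mul_mem' := by
        rintro _ _ ⟨u, hu, rfl⟩ ⟨v, hv, rfl⟩
        exact ⟨vadd u v, vadd_lt hu hv, hadd u hu v hv⟩
      inv_mem' := by
        rintro _ ⟨v, hv, rfl⟩
        have := of_range_all vadd_facts hv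
        simp only [Bool.and_eq_true, beq_iff_eq, decide_eq_true_eq] at this
        exact ⟨vneg v, vneg_lt hv, (inv_eq_of_mul_eq_one_right (by
          rw [← hadd v hv _ (vneg_lt hv), this.1.1.1.1.1.1.2, hzero])).symm⟩ }
  have hSB : ∀ g, g ∈ B ↔ g ∈ S := by
    refine fun g => ⟨fun hg => hgen S ?_ hg, ?_⟩
    · intro p hp
      have hdS : d ∈ S := sgen d (by simp)
      have hfS : f ∈ S := sgen f (by simp)
      have h1S : f1 ∈ S := sgen f1 (by simp)
      have h2S : f2 ∈ S := sgen f2 (by simp)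
      have := of_all tPair_all.1 hp
      simp only [List.any_eq_true, List.mem_range, beq_iff_eq] at this
      obtain ⟨i, hi, j, hj, rfl⟩ := this
      have h400 : φ 400 ∈ S ∧ Commute e (φ 400) := by
        rcases ha with rfl | rfl
        · exact ⟨hd ▸ hdS, he.comm⟩
        · refine ⟨?_, he.comm⟩
          rw [show 400 = mmul 800 800 by decide +kernel, D.mul _ (by norm_num) _ (by norm_num), hd]
          exact S.mul_mem hdS hdS
      have e400 : φ ([0, 400, 800].getD i 0) = φ 400 ^ i := by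
        interval_cases i
        · rw [show [0, 400, 800].getD 0 0 = 0 from rfl, D.one, pow_zero]
        · exact (pow_one _).symm
        · rw [pow_two, ← D.mul _ (by norm_num) _ (by norm_num)]; congr 1
      have e416 : φ ([0, 416, mmul 416 416].getD j 0) = f ^ j := by
        interval_cases j
        · rw [show [0, 416, mmul 416 416].getD 0 0 = 0 from rfl, D.one, pow_zero]
        · rw [pow_one, ← hf]; rfl
        · rw [pow_two, ← hf, ← D.mul _ (by norm_num) _ (by norm_num)]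
          try rfl
      have ep : φ (tPair i j) = φ 400 ^ i * f ^ j := by
        rw [tPair, D.mul _ (by interval_cases i <;> norm_num) _
          (by interval_cases j; exacts [by norm_num, by norm_num, mmul_lt (by norm_num) (by norm_num)]), e400, e416]
      rw [ep]
      refine ⟨S.mul_mem (S.pow_mem h400.1 i) (S.pow_mem hfS j), ?_, ?_⟩
      · rw [show e * (φ 400 ^ i * f ^ j) * e⁻¹ = (e * φ 400 ^ i * e⁻¹) * (e * f ^ j * e⁻¹) by group, ← conj_pow,
          ← conj_pow, ef1, h400.2.eq, mul_inv_cancel_right]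
        exact S.mul_mem (S.pow_mem h400.1 i) (S.pow_mem h1S j)
      · have c2 : e * e * φ 400 * (e * e)⁻¹ = φ 400 := by
          rw [(h400.2.mul_left h400.2).eq, mul_inv_cancel_right]
        rw [show e * e * (φ 400 ^ i * f ^ j) * (e * e)⁻¹ = (e * e * φ 400 ^ i * (e * e)⁻¹) * (e * e * f ^ j * (e * e)⁻¹)
          by group, ← conj_pow, ← conj_pow, c2, ← hf, hf2]
        exact S.mul_mem (S.pow_mem h400.1 i) (S.pow_mem h2S j)
    · rintro ⟨v, -, rfl⟩
      rw [θd]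
      exact B.mul_mem (B.mul_mem (B.mul_mem (B.pow_mem (hd ▸ D.t_mem_B hB haT) _)
        (B.pow_mem (hf ▸ D.t_mem_B hB hfT) _)) (B.pow_mem hf1B _)) (B.pow_mem hf2B _)
  -- the four-group
  have cj : ∀ p x, p < 1152 → x < 1152 → φ p * φ x * (φ p)⁻¹ = φ (mconj p x) := fun p x hp hx => (D.conj hp hx).symm
  obtain ⟨i1, i2, i3, i4, i5, -, -, i6⟩ := inv_facts
  have hsqinv : ∀ x : G, x ^ 3 = 1 → x * x = x⁻¹ := fun x hx => (inv_eq_of_mul_eq_one_right (by
    rw [← mul_assoc]; simpa [pow_succ] using hx)).symm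
  have ff : φ (mmul 416 416) = f⁻¹ := by rw [D.mul _ (by norm_num) _ (by norm_num), hf, hsqinv f q1]
  have zf : z * f * z⁻¹ = f := by rw [← hf, ← D.zc, cj 48 416 (by norm_num) (by norm_num), i4]
  have sf : φ 1 * f * (φ 1)⁻¹ = f⁻¹ := by rw [← hf, cj 1 416 (by norm_num) (by norm_num), i2, ff, hf]
  have uf : φ 49 * f * (φ 49)⁻¹ = f⁻¹ := by rw [← hf, cj 49 416 (by norm_num) (by norm_num), i5, ff, hf]
  have stepe : ∀ u x x' : G, u * x * u⁻¹ = x' → e * u * e⁻¹ * (e * x * e⁻¹) * (e * u * e⁻¹)⁻¹ = e * x' * e⁻¹ :=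
    fun u x x' h => by rw [← h]; group
  have inv1 : e * f⁻¹ * e⁻¹ = f1⁻¹ := by rw [← ef1]; group
  have inv2 : e * f1⁻¹ * e⁻¹ = f2⁻¹ := by rw [← ef2]; group
  have zf1 : z * f1 * z⁻¹ = f1⁻¹ := by have := stepe _ _ _ uf; rwa [he.three, ef1, inv1] at this
  have sf1 : φ 1 * f1 * (φ 1)⁻¹ = f1 := by have := stepe _ _ _ zf; rwa [he.one, ef1] at this
  have uf1 : φ 49 * f1 * (φ 49)⁻¹ = f1⁻¹ := by have := stepe _ _ _ sf; rwa [he.two, ef1, inv1] at this
  have zf2 : z * f2 * z⁻¹ = f2⁻¹ := by have := stepe _ _ _ uf1; rwa [he.three, ef2, inv2] at this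
  have sf2 : φ 1 * f2 * (φ 1)⁻¹ = f2⁻¹ := by have := stepe _ _ _ zf1; rwa [he.one, ef2, inv2] at this
  have zd : z * d * z⁻¹ = d := by
    have := D.comm_z hl
    rw [hd] at this
    rw [← this, mul_inv_cancel_right]
  have sd : φ 1 * d * (φ 1)⁻¹ = d := by
    rw [← hd, cj 1 a (by norm_num) hl]
    rcases ha with rfl | rfl
    · rw [i1]
    · rw [show mconj 1 800 = 800 by decide +kernel]
  -- independence
  have conjθ : ∀ (u x0 x1 x2 x3 : G) v, u * d * u⁻¹ = x0 → u * f * u⁻¹ = x1 → u * f1 * u⁻¹ = x2 →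
      u * f2 * u⁻¹ = x3 →
      u * vcoord φ a e v * u⁻¹ = x0 ^ (v % 3) * x1 ^ (v / 3 % 3) * x2 ^ (v / 9 % 3) * x3 ^ (v / 27 % 3) := by
    intro u x0 x1 x2 x3 v h0 h1 h2 h3
    rw [θd, ← h0, ← h1, ← h2, ← h3, conj_pow, conj_pow, conj_pow, conj_pow]; group
  have half : ∀ x : G, x ^ 3 = 1 → x = x⁻¹ → x = 1 := fun x hx h => by
    have h2 : x * x = 1 := mul_eq_one_iff_eq_inv.2 h
    rwa [pow_succ, pow_two, h2, one_mul] at hx
  have indep : ∀ i j k l, i < 3 → j < 3 → k < 3 → l < 3 → d ^ i * f ^ j * f1 ^ k * f2 ^ l = 1 →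
      i = 0 ∧ j = 0 ∧ k = 0 ∧ l = 0 := by
    intro i j k l hi hj hk hl' h
    have hz : d ^ i * f ^ j * (f1 ^ k)⁻¹ * (f2 ^ l)⁻¹ = 1 := by
      have : z * (d ^ i * f ^ j * f1 ^ k * f2 ^ l) * z⁻¹ = 1 := by rw [h, mul_one, mul_inv_cancel]
      rwa [show z * (d ^ i * f ^ j * f1 ^ k * f2 ^ l) * z⁻¹ = (z * d * z⁻¹) ^ i * (z * f * z⁻¹) ^ j *
        (z * f1 * z⁻¹) ^ k * (z * f2 * z⁻¹) ^ l by simp only [conj_pow]; group, zd, zf, zf1, zf2, inv_pow,
        inv_pow] at this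
    have hx : f1 ^ k * f2 ^ l = 1 := by
      refine half _ (by rw [(c23.pow_pow k l).mul_pow, ← pow_mul, ← pow_mul, mul_comm k, mul_comm l, pow_mul, pow_mul,
        q2, q3, one_pow, one_pow, one_mul]) ?_
      rw [mul_assoc] at h hz
      have e1 := eq_inv_of_mul_eq_one_right h
      have e2 := eq_inv_of_mul_eq_one_right hz
      rw [mul_inv_rev, ← (c23.pow_pow k l).inv_inv.eq]
      exact e1.trans e2.symm
    have hs : f1 ^ k * (f2 ^ l)⁻¹ = 1 := by
      have : φ 1 * (f1 ^ k * f2 ^ l) * (φ 1)⁻¹ = 1 := by rw [hx, mul_one, mul_inv_cancel]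
      rwa [show φ 1 * (f1 ^ k * f2 ^ l) * (φ 1)⁻¹ = (φ 1 * f1 * (φ 1)⁻¹) ^ k * (φ 1 * f2 * (φ 1)⁻¹) ^ l by
        simp only [conj_pow]; group, sf1, sf2, inv_pow] at this
    have hl0 : f2 ^ l = 1 := half _ (by rw [← pow_mul, mul_comm, pow_mul, q3, one_pow])
      ((eq_inv_of_mul_eq_one_right hx).trans (eq_inv_of_mul_eq_one_right hs).symm)
    rw [hl0, mul_one] at hx
    rw [hl0, hx, mul_one, mul_one] at h
    have ne : f ≠ 1 := fun h => by
      rw [← hf, ← D.one] at h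
      exact absurd (D.inj 416 (by norm_num) 0 (by norm_num) h) (by norm_num)
    have ne1 : f1 ≠ 1 := fun h => ne (by rwa [← ef1, conj_eq_one_iff] at h)
    have ne2 : f2 ≠ 1 := fun h => ne1 (by rwa [← ef2, conj_eq_one_iff] at h)
    have small : ∀ x : G, x ≠ 1 → x ^ 3 = 1 → ∀ n < 3, x ^ n = 1 → n = 0 := by
      intro x hx hx3 n hn h
      have : orderOf x = 3 := orderOf_eq_prime hx3 hx
      exact Nat.eq_zero_of_dvd_of_lt (this ▸ orderOf_dvd_iff_pow_eq_one.2 h) hn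
    refine ⟨?_, ?_, small f1 ne1 q2 k hk hx, small f2 ne2 q3 l hl' hl0⟩ <;>
    · have hij : ∀ i j, i < 3 → j < 3 → tPair i j = 0 → i = 0 ∧ j = 0 := fun i j hi hj h => by
        have := of_all (of_all tPair_all.2 (List.mem_range.2 hi)) (List.mem_range.2 hj)
        simp only [Bool.and_eq_true, h, bne_self_eq_false, Bool.false_or, beq_iff_eq] at this
        exact this.2
      obtain ⟨i', hi', hii, hi0⟩ : ∃ i' < 3, φ ([0, 400, 800].getD i' 0) = d ^ i ∧ (i' = 0 → i = 0) := by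
        rcases ha with rfl | rfl
        · refine ⟨i, hi, ?_, id⟩
          rw [← hd]
          interval_cases i
          · rw [show [0, 400, 800].getD 0 0 = 0 from rfl, D.one, pow_zero]
          · exact (pow_one _).symm
          · rw [pow_two, ← D.mul _ (by norm_num) _ (by norm_num)]; congr 1
        · refine ⟨2 * i % 3, by omega, ?_, by omega⟩
          rw [← hd]
          interval_cases i
          · rw [show [0, 400, 800].getD (2 * 0 % 3) 0 = 0 from rfl, D.one, pow_zero]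
          · exact (pow_one _).symm
          · rw [pow_two, ← D.mul _ (by norm_num) _ (by norm_num)]; congr 1
      have e416 : φ ([0, 416, mmul 416 416].getD j 0) = f ^ j := by
        interval_cases j
        · rw [show [0, 416, mmul 416 416].getD 0 0 = 0 from rfl, D.one, pow_zero]
        · rw [pow_one, ← hf]; rfl
        · rw [pow_two, ← hf, ← D.mul _ (by norm_num) _ (by norm_num)]
          try rfl
      have b1 : [0, 400, 800].getD i' 0 < 1152 := by interval_cases i' <;> norm_num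
      have b2 : [0, 416, mmul 416 416].getD j 0 < 1152 := by
        interval_cases j
        exacts [by norm_num, by norm_num, mmul_lt (by norm_num) (by norm_num)]
      have := hij i' j hi' hj (D.inj _ (mmul_lt b1 b2) 0 (by norm_num) (by rw [D.mul _ b1 _ b2, hii, e416, h, D.one]))
      first | exact hi0 this.1 | exact this.2
  have C : VecCoord B (vcoord φ a e) := by
    refine ⟨fun g => hSB g, hadd, ?_, hdec⟩
    intro u hu v hv h
    have hw := of_range_all vadd_facts hv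
    simp only [Bool.and_eq_true, beq_iff_eq, decide_eq_true_eq] at hw
    have hn := vneg_lt hv
    have hneg : vcoord φ a e (vneg v) = (vcoord φ a e v)⁻¹ :=
      (inv_eq_of_mul_eq_one_right (by rw [← hadd v hv _ hn, hw.1.1.1.1.1.1.2, hzero])).symm
    have h1 : vcoord φ a e (vadd u (vneg v)) = 1 := by rw [hadd u hu _ hn, hneg, h, mul_inv_cancel]
    rw [θd] at h1
    obtain ⟨h0, h1', h2, h3⟩ := indep _ _ _ _ (Nat.mod_lt _ (by norm_num)) (Nat.mod_lt _ (by norm_num))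
      (Nat.mod_lt _ (by norm_num)) (Nat.mod_lt _ (by norm_num)) h1
    obtain ⟨a0, a1, a2, a3⟩ := vadd_digits u (vneg v)
    obtain ⟨b0, b1, b2, b3⟩ := vadd_digits v v
    simp only [vneg] at a0 a1 a2 a3 h0 h1' h2 h3
    have k : ∀ x y, x < 3 → y < 3 → (x + (y + y) % 3) % 3 = 0 → x = y := fun x y hx hy e => by omega
    rw [a0, b0] at h0
    rw [a1, b1] at h1'
    rw [a2, b2] at h2
    rw [a3, b3] at h3
    have r0 := k _ _ (Nat.mod_lt _ (by norm_num)) (Nat.mod_lt _ (by norm_num)) h0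
    have r1 := k _ _ (Nat.mod_lt _ (by norm_num)) (Nat.mod_lt _ (by norm_num)) h1'
    have r2 := k _ _ (Nat.mod_lt _ (by norm_num)) (Nat.mod_lt _ (by norm_num)) h2
    have r3 := k _ _ (Nat.mod_lt _ (by norm_num)) (Nat.mod_lt _ (by norm_num)) h3
    omega
  refine ⟨C, C.act_of_basis ?_ ?_ ?_ ?_, C.act_of_basis ?_ ?_ ?_ ?_, C.act_of_basis ?_ ?_ ?_ ?_⟩
  all_goals norm_num [lcol, lZ, lS, lE]
  · rw [e1, zd]
  · rw [e3, zf]
  · rw [show (18 : ℕ) = vneg 9 by decide +kernel, C.neg (by norm_num), e9, zf1]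
  · rw [show (54 : ℕ) = vneg 27 by decide +kernel, C.neg (by norm_num), e27, zf2]
  · rw [e1, sd]
  · rw [show (6 : ℕ) = vneg 3 by decide +kernel, C.neg (by norm_num), e3, sf]
  · rw [e9, sf1]
  · rw [show (54 : ℕ) = vneg 27 by decide +kernel, C.neg (by norm_num), e27, sf2]
  · rw [e1, ed, mul_inv_cancel_right]
  · rw [e3, e9, ef1]
  · rw [e9, e27, ef2]
  · rw [e27, e3, ef3]

end CfsgU43Type
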