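import Mathlib

/-!
Groups of U₄(3) type: counting in conjugacy classes.
-/

set_option autoImplicit false

namespace CfsgU43Type

variable {G : Type*} [Group G] [Finite G]

/-- The members of a conjugacy class with a property, counted by the conjugating elements. -/
theorem class_fibre (x : G) (P : G → Prop) :
    Nat.card {y : G // IsConj x y ∧ P y} * Nat.card ↥(Subgroup.centralizer ({x} : Set G)) =
      Nat.card {g : G // P (g * x * g⁻¹)} := by
  choose w hw using fun y : {y : G // IsConj x y ∧ P y} => isConj_iff.1 y.2.1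
  have key : ∀ (y : {y : G // IsConj x y ∧ P y}) (c : Subgroup.centralizer ({x} : Set G)),
      w y * c * x * (w y * c)⁻¹ = y := fun y c => by
    rw [show w y * c * x * (w y * c)⁻¹ = w y * ((c : G) * x * (c : G)⁻¹) * (w y)⁻¹ by group,
      Subgroup.mem_centralizer_singleton_iff.1 c.2, mul_inv_cancel_right, hw y]
  let F : {y : G // IsConj x y ∧ P y} × Subgroup.centralizer ({x} : Set G) → {g : G // P (g * x * g⁻¹)} :=
    fun p => ⟨w p.1 * p.2, by rw [key]; exact p.1.2.2⟩
  rw [← Nat.card_prod]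
  refine Nat.card_eq_of_bijective F ⟨fun ⟨y, c⟩ ⟨y', c'⟩ h => ?_, fun ⟨g, hg⟩ => ?_⟩
  · have h' : w y * c = w y' * c' := congrArg Subtype.val h
    obtain rfl : y = y' := Subtype.ext (by rw [← key y c, h', key y' c'])
    exact Prod.ext rfl (Subtype.ext (mul_left_cancel h'))
  · let y : {y : G // IsConj x y ∧ P y} := ⟨g * x * g⁻¹, isConj_iff.2 ⟨g, rfl⟩, hg⟩
    have hc : (w y)⁻¹ * g ∈ Subgroup.centralizer ({x} : Set G) := Subgroup.mem_centralizer_singleton_iff.2 (by
      have e : w y * x * (w y)⁻¹ = g * x * g⁻¹ := hw y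
      rw [show (w y)⁻¹ * g * x = (w y)⁻¹ * (g * x * g⁻¹) * g by group, ← e]
      group)
    exact ⟨(y, ⟨_, hc⟩), Subtype.ext (mul_inv_cancel_left (w y) g)⟩

theorem class_card (x : G) :
    Nat.card {y : G // IsConj x y} * Nat.card ↥(Subgroup.centralizer ({x} : Set G)) = Nat.card G := by
  have := class_fibre x fun _ => True
  simpa [Nat.card_congr (Equiv.subtypeUnivEquiv fun _ : G => trivial)] using this

/-- The members of a class inverted by `z`, through the involutions inverting one member. -/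
theorem inverted_count {z : G} (hone : ∀ u : G, orderOf u = 2 ↔ IsConj z u) (x : G) :
    Nat.card {y : G // IsConj x y ∧ z * y * z⁻¹ = y⁻¹} * Nat.card ↥(Subgroup.centralizer ({x} : Set G)) =
      Nat.card {u : G // orderOf u = 2 ∧ u * x * u⁻¹ = x⁻¹} * Nat.card ↥(Subgroup.centralizer ({z} : Set G)) := by
  have hsets : Nat.card {u : G // orderOf u = 2 ∧ u * x * u⁻¹ = x⁻¹} =
      Nat.card {u : G // IsConj z u ∧ u * x * u⁻¹ = x⁻¹} :=
    Nat.card_congr (Equiv.subtypeEquivRight fun u => by rw [hone])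
  rw [class_fibre x fun y => z * y * z⁻¹ = y⁻¹, hsets, class_fibre z fun u => u * x * u⁻¹ = x⁻¹]
  refine Nat.card_congr (Equiv.subtypeEquiv (Equiv.inv G) fun g => ?_)
  show z * (g * x * g⁻¹) * z⁻¹ = (g * x * g⁻¹)⁻¹ ↔ g⁻¹ * z * g⁻¹⁻¹ * x * (g⁻¹ * z * g⁻¹⁻¹)⁻¹ = x⁻¹
  rw [inv_inv, conj_inv]
  constructor
  · intro h
    rw [show g⁻¹ * z * g * x * (g⁻¹ * z * g)⁻¹ = g⁻¹ * (z * (g * x * g⁻¹) * z⁻¹) * g by group, h]
    group
  · intro h
    rw [← h]
    group

end CfsgU43Type
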