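import Cfsg.Agent.Lib.U43Type.TCent
import Cfsg.Agent.Lib.U43Type.BChecks
import Cfsg.Agent.Lib.CoprimeGen

/-!
Groups of U₄(3) type: the normal 2-complement of the centraliser of the Sylow 3-subgroup of the centraliser of `z`.
-/

set_option autoImplicit false
set_option maxRecDepth 100000
set_option linter.unusedSectionVars false

namespace CfsgU43Type

variable {G : Type*} [Group G] {z : G} {φ : ℕ → G}

/-- Centralising the Sylow 3-subgroup of the centraliser of `z`. -/
def CommT (φ : ℕ → G) (c : G) : Prop := c * φ 384 = φ 384 * c ∧ c * φ 16 = φ 16 * c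

theorem CommT.all (D : Data z φ) {c : G} (hc : CommT φ c) {p : ℕ} (hp : p ∈ tList) : c * φ p = φ p * c := by
  have hgen : (tList.all fun q => (List.range 3).any fun i => (List.range 3).any fun j =>
      mmul ([0, 384, 768].getD i 0) ([0, 16, 32].getD j 0) == q) = true := by decide +kernel
  have := of_all hgen hp
  simp only [List.any_eq_true, List.mem_range, beq_iff_eq] at this
  obtain ⟨i, hi, j, hj, rfl⟩ := this
  have e768 : φ 768 = φ 384 * φ 384 := by
    rw [← D.mul _ (by norm_num) _ (by norm_num), show mmul 384 384 = 768 by decide +kernel]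
  have e32 : φ 32 = φ 16 * φ 16 := by
    rw [← D.mul _ (by norm_num) _ (by norm_num), show mmul 16 16 = 32 by decide +kernel]
  have h1 : Commute c (φ ([0, 384, 768].getD i 0)) := by
    interval_cases i
    · rw [show [0, 384, 768].getD 0 0 = 0 from rfl, D.one]; exact Commute.one_right _
    · exact hc.1
    · rw [show [0, 384, 768].getD 2 0 = 768 from rfl, e768]; exact Commute.mul_right hc.1 hc.1
  have h2 : Commute c (φ ([0, 16, 32].getD j 0)) := by
    interval_cases j
    · rw [show [0, 16, 32].getD 0 0 = 0 from rfl, D.one]; exact Commute.one_right _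
    · exact hc.2
    · rw [show [0, 16, 32].getD 2 0 = 32 from rfl, e32]; exact Commute.mul_right hc.2 hc.2
  rw [D.mul _ (by interval_cases i <;> norm_num) _ (by interval_cases j <;> norm_num)]
  exact (h1.mul_right h2).eq

/-- The odd part of the centraliser. -/
structure OddCent (φ : ℕ → G) (B : Subgroup G) : Prop where
  mem_iff : ∀ x, x ∈ B ↔ CommT φ x ∧ Odd (orderOf x)
  odd : Odd (Nat.card B)

variable [Finite G]

/-- The centraliser is the product of an odd normal subgroup and `⟨z⟩`. -/
theorem Data.exists_oddCent (D : Data z φ) : ∃ B : Subgroup G, OddCent φ B ∧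
    (∀ c, CommT φ c → c ∈ B ∨ c * z ∈ B) := by
  classical
  haveI : Fact (Nat.Prime 2) := ⟨Nat.prime_two⟩
  let Y : Subgroup G := Subgroup.centralizer ({φ 384, φ 16} : Set G)
  have hY : ∀ c, c ∈ Y ↔ CommT φ c := fun c => by
    simp only [Y, Subgroup.mem_centralizer_iff, Set.mem_insert_iff, Set.mem_singleton_iff, forall_eq_or_imp,
      forall_eq, CommT]
    exact ⟨fun h => ⟨h.1.symm, h.2.symm⟩, fun h => ⟨h.1.symm, h.2.symm⟩⟩
  have hzY : z ∈ Y := (hY z).2 ⟨(D.comm_z (by norm_num)).symm, (D.comm_z (by norm_num)).symm⟩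
  have h2 : 2 ∣ Nat.card Y := D.z2 ▸ Subgroup.orderOf_dvd_natCard _ hzY
  have h4 : ¬ 4 ∣ Nat.card Y := by
    intro h4
    let z' : Y := ⟨z, hzY⟩
    have hz' : Nat.card (Subgroup.zpowers z') = 2 ^ 1 := by
      rw [Nat.card_zpowers, pow_one, ← D.z2, ← Subgroup.orderOf_coe]
    obtain ⟨K, hK, hle⟩ := Sylow.exists_subgroup_card_pow_prime_le 2 (show 2 ^ 2 ∣ Nat.card Y from h4) _ hz'
      (by norm_num)
    haveI : Fintype K := Fintype.ofFinite K
    have hcomm : ∀ a b : K, a * b = b * a :=
      IsPGroup.commutative_of_card_eq_prime_sq (p := 2) hK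
    have hsub : ∀ k : K, ((k : Y) : G) = 1 ∨ ((k : Y) : G) = z := by
      intro k
      have hkz : ((k : Y) : G) * z = z * ((k : Y) : G) :=
        congrArg (fun t : K => ((t : Y) : G)) (hcomm k ⟨z', hle (Subgroup.mem_zpowers z')⟩)
      obtain ⟨h, hh, hhe⟩ := (D.cent _).1 hkz
      have hc : CommT φ (φ h) := hhe ▸ (hY _).1 (k : Y).2
      have hm : h ∈ tList ∨ mmul h 48 ∈ tList := by
        have := of_range_all t_cent.1 hh
        simpa [(D.commute_iff hh (by norm_num)).1 hc.1, (D.commute_iff hh (by norm_num)).1 hc.2] using this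
      have h4' : mmul (mmul h h) (mmul h h) = 0 := D.inj _ (mmul_lt (mmul_lt hh hh) (mmul_lt hh hh)) 0 (by norm_num)
        (by
          rw [D.mul _ (mmul_lt hh hh) _ (mmul_lt hh hh), D.mul _ hh _ hh, hhe, D.one]
          have : k ^ 4 = 1 := orderOf_dvd_iff_pow_eq_one.1 ((orderOf_dvd_natCard k).trans (by rw [hK]; norm_num))
          have := congrArg (fun t : K => ((t : Y) : G)) this
          simpa [pow_succ, mul_assoc] using this)
      rcases hm with hm | hm
      · have := of_all cList_four.1 hm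
        simp only [List.all_cons, List.all_nil, Bool.and_true, Bool.and_eq_true, Bool.or_eq_true, bne_iff_ne, ne_eq,
          h4', not_true_eq_false, false_or, beq_iff_eq] at this
        rcases this.1 with rfl | rfl
        · left; rw [← hhe, D.one]
        · right; rw [← hhe, D.zc]
      · have hback : mmul (mmul h 48) 48 = h := D.inj _ (mmul_lt (mmul_lt hh (by norm_num)) (by norm_num)) _ hh (by
          rw [D.mul _ (mmul_lt hh (by norm_num)) _ (by norm_num), D.mul _ hh _ (by norm_num), D.zc, mul_assoc, D.zz,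
            mul_one])
        have := of_all cList_four.1 hm
        simp only [List.all_cons, List.all_nil, Bool.and_true, Bool.and_eq_true, Bool.or_eq_true, bne_iff_ne, ne_eq,
          hback, h4', not_true_eq_false, false_or, beq_iff_eq] at this
        rcases this.2 with rfl | rfl
        · left; rw [← hhe, D.one]
        · right; rw [← hhe, D.zc]
    have hcard : Nat.card K ≤ 2 := by
      rw [Nat.card_eq_fintype_card]
      refine (Finset.card_le_card_of_injOn (s := (Finset.univ : Finset K)) (t := ({1, z} : Finset G))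
        (fun k => ((k : Y) : G)) (fun k _ => by simpa using hsub k)
        (fun a _ b _ e => Subtype.ext (Subtype.ext e))).trans ?_
      exact Finset.card_le_two
    rw [hK] at hcard
    norm_num at hcard
  obtain ⟨m, hm⟩ := h2
  have hmo : Odd m := Nat.not_even_iff_odd.1 fun ⟨k, hk⟩ => h4 ⟨k, by omega⟩
  obtain ⟨K, hKn, hKi⟩ := exists_index_two_of_invol hm hmo (t := (⟨z, hzY⟩ : Y)) (Subtype.ext D.zz)
    (fun e => D.z_ne (congrArg Subtype.val e))
  have hKc : Nat.card K = m := by
    have := K.card_mul_index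
    rw [hKi, hm] at this
    omega
  have hsq : ∀ a : Y, a * a ∈ K := fun a => by
    have := Subgroup.pow_index_mem K a
    rwa [hKi, pow_two] at this
  have hmemK : ∀ a : Y, Odd (orderOf (a : G)) → a ∈ K := by
    rintro a ⟨j, hj⟩
    rw [Subgroup.orderOf_coe] at hj
    have e : a = (a ^ (j + 1)) * (a ^ (j + 1)) := by
      rw [← pow_add, show j + 1 + (j + 1) = orderOf a + 1 by omega, pow_succ, pow_orderOf_eq_one, one_mul]
    exact e ▸ hsq _
  have hzK : (⟨z, hzY⟩ : Y) ∉ K := fun h => by
    have h2 : 2 ∣ m := by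
      have := Subgroup.orderOf_dvd_natCard K h
      rwa [← Subgroup.orderOf_coe, D.z2, hKc] at this
    exact Nat.not_even_iff_odd.2 hmo (even_iff_two_dvd.2 h2)
  have hodd : Odd (Nat.card (K.map Y.subtype)) := by
    rw [Subgroup.card_map_of_injective (Subgroup.subtype_injective _), hKc]
    exact hmo
  refine ⟨K.map Y.subtype, ⟨fun x => ⟨fun hx => ⟨?_, Odd.of_dvd_nat hodd (Subgroup.orderOf_dvd_natCard _ hx)⟩,
    fun hx => ⟨⟨x, (hY x).2 hx.1⟩, hmemK _ hx.2, rfl⟩⟩, hodd⟩, fun c hc => ?_⟩
  · obtain ⟨a, -, rfl⟩ := hx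
    exact (hY _).1 a.2
  · by_cases h : (⟨c, (hY c).2 hc⟩ : Y) ∈ K
    · exact Or.inl ⟨_, h, rfl⟩
    · refine Or.inr ⟨⟨c, (hY c).2 hc⟩ * ⟨z, hzY⟩, ?_, rfl⟩
      exact (Subgroup.mul_mem_iff_of_index_two hKi).2 ⟨fun h' => absurd h' h, fun h' => absurd h' hzK⟩

end CfsgU43Type
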