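import Cfsg.Agent.Lib.U43Type.TChecks

/-!
Groups of U₄(3) type: kernel checks for the pairs of involutions in the centraliser.
-/

set_option autoImplicit false
set_option maxRecDepth 100000
set_option Elab.async false

namespace CfsgU43Type

/-- The powers in the model. -/
def mpow (h : ℕ) : ℕ → ℕ
  | 0 => 0
  | k + 1 => mmul (mpow h k) h

/-- The involutions of the model. -/
def invList : List ℕ := (List.range 1152).filter fun a => mmul a a == 0 && a != 0

/-- The pairs of involutions whose product has a power equal to the central involution. -/
def evenPairs : List (ℕ × ℕ) :=
  invList.flatMap fun a => (invList.filter fun b => (List.range 24).any fun k => mpow (mmul a b) k == 48).map fun b =>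
    (a, b)

theorem mpow_24 : ((List.range 1152).all fun h => mpow h 24 == 0) = true := by
  decide +kernel

theorem evenPairs_length : evenPairs.length = 1170 := by
  decide +kernel

end CfsgU43Type
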