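import Cfsg.Agent.Lib.U43Type.FusionA
import Cfsg.Agent.Lib.U43Type.CountUtil
import Cfsg.Agent.Lib.U43Type.PairChecks
import Cfsg.Agent.Lib.U43Type.OddPart

/-!
Groups of U₄(3) type: the involutions whose product with `z` has even order.
-/

set_option autoImplicit false
set_option maxRecDepth 100000
set_option linter.unusedSectionVars false

namespace CfsgU43Type

variable {G : Type*} [Group G] {z : G} {φ : ℕ → G}

theorem Data.pow_code (D : Data z φ) {h : ℕ} (hh : h < 1152) : ∀ k, mpow h k < 1152 ∧ φ (mpow h k) = φ h ^ k := by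
  intro k
  induction k with
  | zero => exact ⟨by simp [mpow], by rw [pow_zero]; exact D.one⟩
  | succ k ih => exact ⟨mmul_lt ih.1 hh, by rw [pow_succ, ← ih.2, mpow, D.mul _ ih.1 _ hh]⟩

theorem mem_invList {a : ℕ} : a ∈ invList ↔ a < 1152 ∧ mmul a a = 0 ∧ a ≠ 0 := by
  simp [invList, List.mem_filter]

theorem mem_evenPairs {a b : ℕ} :
    (a, b) ∈ evenPairs ↔ a ∈ invList ∧ b ∈ invList ∧ ∃ k < 24, mpow (mmul a b) k = 48 := by
  simp only [evenPairs, List.mem_flatMap, List.mem_map, List.mem_filter, List.any_eq_true, List.mem_range, beq_iff_eq,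
    Prod.mk.injEq]
  constructor
  · rintro ⟨a', ha, b', ⟨hb, hk⟩, rfl, rfl⟩
    exact ⟨ha, hb, hk⟩
  · rintro ⟨ha, hb, hk⟩
    exact ⟨a, ha, b, ⟨hb, hk⟩, rfl, rfl⟩

theorem Data.invol_code (D : Data z φ) {a : ℕ} (ha : a < 1152) : orderOf (φ a) = 2 ↔ mmul a a = 0 ∧ a ≠ 0 := by
  rw [← D.sq_iff ha, orderOf_eq_prime_iff, ← pow_two]
  refine and_congr_right' ⟨fun h e => h (by rw [e, D.one]), fun h e => h (D.inj _ ha 0 (by norm_num) (by rw [e, D.one]))⟩

/-- An element inverted by conjugation whose power is an involution. -/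
theorem invol_comm_of_inverted {u y j : G} (hu : u * y * u⁻¹ = y⁻¹) (hj : j ∈ Subgroup.zpowers y)
    (hj2 : j * j = 1) : u * j = j * u := by
  obtain ⟨k, rfl⟩ := hj
  show u * y ^ k = y ^ k * u
  rw [← mul_inv_eq_iff_eq_mul, ← conj_zpow, hu, inv_zpow]
  exact inv_eq_of_mul_eq_one_right hj2

theorem invol_facts {u v : G} (hu : orderOf u = 2) (hv : orderOf v = 2) :
    u * u = 1 ∧ v * v = 1 ∧ u * (u * v) * u⁻¹ = (u * v)⁻¹ ∧ v * (u * v) * v⁻¹ = (u * v)⁻¹ := by
  have huu : u * u = 1 := by rw [← pow_two, ← hu, pow_orderOf_eq_one]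
  have hvv : v * v = 1 := by rw [← pow_two, ← hv, pow_orderOf_eq_one]
  have hui := inv_eq_of_mul_eq_one_right huu
  have hvi := inv_eq_of_mul_eq_one_right hvv
  refine ⟨huu, hvv, ?_, ?_⟩
  · rw [← mul_assoc u u v, huu, one_mul, mul_inv_rev, hvi, hui]
  · rw [mul_inv_rev, hvi, hui, mul_assoc v (u * v) v, mul_assoc u v v, hvv, mul_one]

variable [Finite G]

theorem Data.conj_iff (D : Data z φ) (u : G) : orderOf u = 2 ↔ IsConj z u :=
  ⟨D.one_class, fun h => by
    obtain ⟨g, rfl⟩ := isConj_iff.1 h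
    rw [← D.z2]
    exact orderOf_injective (MulAut.conj g).toMonoidHom (MulAut.conj g).injective z⟩

/-- The number of involutions is the index of the centraliser. -/
theorem Data.card_invol (D : Data z φ) : Nat.card {u : G // orderOf u = 2} * 1152 = Nat.card G := by
  rw [Nat.card_congr (Equiv.subtypeEquivRight D.conj_iff), ← D.card_cent, class_card]

/-- Counting pairs that begin with an involution, for an invariant relation. -/
theorem Data.pairs_fst (D : Data z φ) {X : Type*} (cj : G → X ≃ X) (R : G → X → Prop)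
    (hR : ∀ g u x, R u x ↔ R (g * u * g⁻¹) (cj g x)) :
    Nat.card {p : G × X // orderOf p.1 = 2 ∧ R p.1 p.2} = Nat.card {u : G // orderOf u = 2} * Nat.card {x // R z x} := by
  choose w hw using fun u : {u : G // orderOf u = 2} => isConj_iff.1 (D.one_class u.2)
  rw [← Nat.card_prod]
  symm
  refine Nat.card_eq_of_bijective (fun q => (⟨(q.1.1, cj (w q.1) q.2.1), q.1.2, by
    have := (hR (w q.1) z q.2.1).1 q.2.2
    rwa [hw q.1] at this⟩ : {p : G × X // orderOf p.1 = 2 ∧ R p.1 p.2})) ⟨?_, ?_⟩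
  · rintro ⟨u, x⟩ ⟨u', x'⟩ h
    have h1 := congrArg (fun p => p.1.1) h
    obtain rfl : u = u' := Subtype.ext h1
    exact Prod.ext rfl (Subtype.ext ((cj _).injective (congrArg (fun p => p.1.2) h)))
  · rintro ⟨⟨u, x⟩, hu, hx⟩
    refine ⟨(⟨u, hu⟩, ⟨(cj (w ⟨u, hu⟩)).symm x, ?_⟩), Subtype.ext (Prod.ext rfl (Equiv.apply_symm_apply _ _))⟩
    rw [hR (w ⟨u, hu⟩), hw, Equiv.apply_symm_apply]
    exact hx

/-- The pairs of involutions generating a group with centre containing `z`. -/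
theorem Data.card_pairs (D : Data z φ) :
    Nat.card {p : G × G // orderOf p.1 = 2 ∧ orderOf p.2 = 2 ∧ z ∈ Subgroup.zpowers (p.1 * p.2)} = 1170 := by
  classical
  have hlt : ∀ p ∈ evenPairs, p.1 < 1152 ∧ p.2 < 1152 := fun p hp => by
    obtain ⟨ha, hb, -⟩ := mem_evenPairs.1 hp
    exact ⟨(mem_invList.1 ha).1, (mem_invList.1 hb).1⟩
  have hnd : evenPairs.Nodup := by
    refine List.nodup_flatMap.2 ⟨fun a _ => ((List.nodup_range.filter _).filter _).map fun _ _ h => (Prod.mk.injEq _ _ _ _ ▸ h).2, ?_⟩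
    refine List.Pairwise.imp (fun {a b} hab => ?_) (List.nodup_range.filter _)
    intro p h1 h2
    simp only [List.mem_map] at h1 h2
    obtain ⟨_, _, rfl⟩ := h1
    obtain ⟨_, _, h⟩ := h2
    exact hab (congrArg Prod.fst h).symm
  have key : ∀ p : {p // p ∈ evenPairs.toFinset}, orderOf (φ p.1.1) = 2 ∧ orderOf (φ p.1.2) = 2 ∧
      z ∈ Subgroup.zpowers (φ p.1.1 * φ p.1.2) := fun ⟨⟨a, b⟩, hp⟩ => by
    obtain ⟨ha, hb, k, -, hk⟩ := mem_evenPairs.1 (List.mem_toFinset.1 hp)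
    obtain ⟨ha, ha2⟩ := mem_invList.1 ha
    obtain ⟨hb, hb2⟩ := mem_invList.1 hb
    refine ⟨(D.invol_code ha).2 ha2, (D.invol_code hb).2 hb2, ?_⟩
    show z ∈ Subgroup.zpowers (φ a * φ b)
    rw [← D.mul a ha b hb, ← D.zc, ← hk, (D.pow_code (mmul_lt ha hb) k).2]
    exact pow_mem (Subgroup.mem_zpowers _) k
  let F : {p // p ∈ evenPairs.toFinset} →
      {p : G × G // orderOf p.1 = 2 ∧ orderOf p.2 = 2 ∧ z ∈ Subgroup.zpowers (p.1 * p.2)} :=
    fun p => ⟨(φ p.1.1, φ p.1.2), key p⟩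
  have hF : Function.Bijective F := by
    refine ⟨fun ⟨⟨a, b⟩, hp⟩ ⟨⟨a', b'⟩, hp'⟩ h => ?_, fun ⟨⟨u, v⟩, hu, hv, hz⟩ => ?_⟩
    · obtain ⟨h1, h2⟩ := Prod.mk.injEq _ _ _ _ ▸ congrArg Subtype.val h
      obtain ⟨la, lb⟩ := hlt _ (List.mem_toFinset.1 hp)
      obtain ⟨la', lb'⟩ := hlt _ (List.mem_toFinset.1 hp')
      exact Subtype.ext (Prod.ext (D.inj _ la _ la' h1) (D.inj _ lb _ lb' h2))
    · obtain ⟨-, -, i1, i2⟩ := invol_facts hu hv
      obtain ⟨a, ha, rfl⟩ := (D.cent u).1 (invol_comm_of_inverted i1 hz D.zz)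
      obtain ⟨b, hb, rfl⟩ := (D.cent v).1 (invol_comm_of_inverted i2 hz D.zz)
      refine ⟨⟨(a, b), List.mem_toFinset.2 (mem_evenPairs.2 ⟨mem_invList.2 ⟨ha, (D.invol_code ha).1 hu⟩,
        mem_invList.2 ⟨hb, (D.invol_code hb).1 hv⟩, ?_⟩)⟩, rfl⟩
      have hy := mmul_lt ha hb
      obtain ⟨m, hm⟩ : ∃ m : ℕ, (φ a * φ b) ^ m = z := (mem_powers_iff_mem_zpowers.2 hz)
      rw [← D.mul a ha b hb] at hm
      have h24 : φ (mmul a b) ^ 24 = 1 := by
        rw [← (D.pow_code hy 24).2, show mpow (mmul a b) 24 = 0 from beq_iff_eq.1 (of_range_all mpow_24 hy), D.one]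
      refine ⟨m % 24, Nat.mod_lt _ (by norm_num), D.inj _ (D.pow_code hy _).1 48 (by norm_num) ?_⟩
      rw [(D.pow_code hy _).2, D.zc, ← hm]
      conv_rhs => rw [← Nat.mod_add_div m 24, pow_add, pow_mul, h24, one_pow, mul_one]
  rw [← Nat.card_eq_of_bijective F hF, Nat.card_eq_finsetCard, List.toFinset_card_of_nodup hnd, evenPairs_length]

/-- The involutions whose product with `z` has even order. -/
theorem Data.card_even (D : Data z φ) :
    Nat.card {v : G // orderOf v = 2 ∧ Even (orderOf (z * v))} = 1170 := by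
  classical
  let cc : G → G ≃ G := fun g => (MulAut.conj g).toEquiv
  have hord : ∀ g x : G, orderOf (g * x * g⁻¹) = orderOf x := fun g x =>
    orderOf_injective (MulAut.conj g).toMonoidHom (MulAut.conj g).injective x
  have e1 := D.pairs_fst cc (fun u v => orderOf v = 2 ∧ Even (orderOf (u * v))) fun g u v => by
    show _ ↔ orderOf (g * v * g⁻¹) = 2 ∧ Even (orderOf (g * u * g⁻¹ * (g * v * g⁻¹)))
    rw [show g * u * g⁻¹ * (g * v * g⁻¹) = g * (u * v) * g⁻¹ by group, hord, hord]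
  have e2 := D.pairs_fst (fun g => (cc g).prodCongr (cc g)) (fun j p =>
    orderOf p.1 = 2 ∧ orderOf p.2 = 2 ∧ j ∈ Subgroup.zpowers (p.1 * p.2)) fun g j p => by
    show _ ↔ orderOf (g * p.1 * g⁻¹) = 2 ∧ orderOf (g * p.2 * g⁻¹) = 2 ∧
      g * j * g⁻¹ ∈ Subgroup.zpowers (g * p.1 * g⁻¹ * (g * p.2 * g⁻¹))
    rw [show g * p.1 * g⁻¹ * (g * p.2 * g⁻¹) = g * (p.1 * p.2) * g⁻¹ by group, hord, hord]
    refine and_congr_right' (and_congr_right' ?_)
    simp only [Subgroup.mem_zpowers_iff, conj_zpow]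
    exact exists_congr fun k => ⟨fun h => by rw [h], fun h => mul_left_cancel (mul_right_cancel h)⟩
  rw [D.card_pairs] at e2
  have hn : Nat.card {u : G // orderOf u = 2} ≠ 0 := fun h => by
    have := D.card_invol
    rw [h, zero_mul] at this
    exact Nat.card_pos.ne' this.symm
  refine Nat.eq_of_mul_eq_mul_left (Nat.pos_of_ne_zero hn) ?_
  rw [← e1, ← e2]
  symm
  refine Nat.card_eq_of_bijective (fun q => ⟨q.1.2, q.2.2.1, q.2.2.2.1, by

    have h2 : orderOf q.1.1 ∣ orderOf (q.1.2.1 * q.1.2.2) := orderOf_dvd_of_mem_zpowers q.2.2.2.2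
    rw [q.2.1] at h2
    exact even_iff_two_dvd.2 h2⟩) ⟨?_, ?_⟩
  · rintro ⟨⟨j, p⟩, hj, _, _, hjp⟩ ⟨⟨j', p'⟩, hj', _, _, hjp'⟩ h
    obtain rfl : p = p' := congrArg Subtype.val h
    obtain ⟨y, hy⟩ : ∃ y, p.1 * p.2 = y := ⟨_, rfl⟩
    rw [hy] at hjp hjp'
    haveI := Fintype.ofFinite (Subgroup.zpowers y)
    have hone : (Finset.univ.filter fun a : Subgroup.zpowers y => orderOf a = 2).card = 1 := by
      rw [IsCyclic.card_orderOf_eq_totient (α := Subgroup.zpowers y) (d := 2) (by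
        rw [← hj, ← Nat.card_eq_fintype_card, Nat.card_zpowers]; exact orderOf_dvd_of_mem_zpowers hjp)]
      rfl
    obtain rfl : j = j' := congrArg Subtype.val (Finset.card_le_one.1 hone.le ⟨j, hjp⟩
      (Finset.mem_filter.2 ⟨Finset.mem_univ _, by rw [Subgroup.orderOf_mk, hj]⟩) ⟨j', hjp'⟩
      (Finset.mem_filter.2 ⟨Finset.mem_univ _, by rw [Subgroup.orderOf_mk, hj']⟩))
    rfl
  · rintro ⟨⟨u, v⟩, hu, hv, he⟩
    obtain ⟨k, hk⟩ : 2 ∣ orderOf (u * v) := even_iff_two_dvd.1 he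
    refine ⟨⟨((u * v) ^ k, (u, v)), ?_, hu, hv, pow_mem (Subgroup.mem_zpowers _) k⟩, rfl⟩
    have hk0 : 0 < k := by have := orderOf_pos (u * v); omega
    rw [orderOf_pow_of_dvd hk0.ne' (hk ▸ dvd_mul_left k 2), hk, Nat.mul_div_cancel _ hk0]

end CfsgU43Type
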