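import Cfsg.Agent.Lib.U43Type.CountThree
import Cfsg.Agent.Lib.U43Type.Arith

/-!
Groups of U₄(3) type: the inverted elements of order prime to six and the order of the group.
-/

set_option autoImplicit false
set_option maxRecDepth 100000
set_option linter.unusedSectionVars false

namespace CfsgU43Type

variable {G : Type*} [Group G] {z : G} {φ : ℕ → G} {B : Subgroup G} {θ : ℕ → G} {e e' : G} {O : Subgroup G} {vw : ℕ}

/-- An element inverted by `z` of order prime to six. -/
def PrimeSix (z y : G) : Prop := z * y * z⁻¹ = y⁻¹ ∧ y ≠ 1 ∧ Nat.Coprime (orderOf y) 6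

theorem mem_cent {x y : G} : x ∈ Subgroup.centralizer ({y} : Set G) ↔ x * y = y * x :=
  Subgroup.mem_centralizer_singleton_iff

theorem mem_cent_conj {g x y : G} :
    x ∈ Subgroup.centralizer ({g * y * g⁻¹} : Set G) ↔ g⁻¹ * x * g ∈ Subgroup.centralizer ({y} : Set G) := by
  rw [mem_cent, mem_cent]
  constructor
  · intro h
    rw [show g⁻¹ * x * g * y = g⁻¹ * (x * (g * y * g⁻¹)) * g by group, h]
    group
  · intro h
    rw [show x * (g * y * g⁻¹) = g * (g⁻¹ * x * g * y) * g⁻¹ by group, h]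
    group

variable [Finite G]

/-- The centraliser of an element of order prime to six inverted by `z`. -/
theorem WData.six_cent (W : WData z φ B θ O vw) (D : Base z φ B θ e e') {y : G} (hy : PrimeSix z y) :
    Nat.Coprime (Nat.card ↥(Subgroup.centralizer ({y} : Set G))) 6 ∧
      (∀ c, c * y = y * c → z * c * z⁻¹ = c⁻¹) ∧ ∀ c, c * y = y * c → ∀ d, d * y = y * d → c * d = d * c := by
  obtain ⟨hinv, hy1, hco⟩ := hy
  obtain ⟨hzy, hy2, hy3⟩ : z * y⁻¹ * z⁻¹ = y ∧ Nat.Coprime (orderOf y) 2 ∧ Nat.Coprime (orderOf y) 3 :=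
    ⟨by rw [← conj_inv, hinv, inv_inv], hco.coprime_dvd_right (by norm_num), hco.coprime_dvd_right (by norm_num)⟩
  obtain ⟨A, hA⟩ : ∃ A, Subgroup.centralizer ({y} : Set G) = A := ⟨_, rfl⟩
  have hsmall : ∀ c, c * y = y * c → ∀ k, Nat.card ↥(Subgroup.centralizer ({c} : Set G)) ∣ 2 ^ k * 3 ^ 6 → False := by
    intro c hc k hk
    refine hy1 (orderOf_eq_one_iff.1 ?_)
    have h1 := (Subgroup.orderOf_dvd_natCard _ (mem_cent.2 hc.symm)).trans hk
    exact Nat.Coprime.eq_one_of_dvd ((hy2.pow_right k).mul_right (hy3.pow_right 6)) h1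
  have hodd2 : ∀ p, p.Prime → p ∣ 6 → ¬ p ∣ Nat.card A := by
    intro p hp hp6 hdvd
    haveI := Fact.mk hp
    obtain ⟨c, hc⟩ := exists_prime_orderOf_dvd_card' (G := A) p hdvd
    rw [← Subgroup.orderOf_coe] at hc
    have hcy : (c : G) * y = y * c := mem_cent.1 (hA.symm ▸ c.2 : (c : G) ∈ Subgroup.centralizer ({y} : Set G))
    have hp' : p = 2 ∨ p = 3 := by
      have := (Nat.Prime.dvd_mul hp).1 (show p ∣ 2 * 3 by simpa using hp6)
      rcases this with h | h
      · exact Or.inl ((Nat.prime_dvd_prime_iff_eq hp Nat.prime_two).1 h)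
      · exact Or.inr ((Nat.prime_dvd_prime_iff_eq hp Nat.prime_three).1 h)
    rcases hp' with rfl | rfl
    · refine hsmall c hcy 7 ?_
      obtain ⟨g, hg⟩ := isConj_iff.1 (D.data.one_class hc)
      rw [← hg, card_cent_conj, D.data.card_cent]
      norm_num
    · refine hsmall c hcy 3 (W.three_cent D ?_ fun e0 => ?_)
      · rw [← hc, pow_orderOf_eq_one]
      · rw [e0, orderOf_one] at hc; omega
  have hcop : Nat.Coprime (Nat.card A) 6 := by
    rw [show (6 : ℕ) = 2 * 3 from rfl, Nat.coprime_mul_iff_right]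
    exact ⟨((Nat.Prime.coprime_iff_not_dvd Nat.prime_two).2 (hodd2 2 Nat.prime_two (by norm_num))).symm,
      ((Nat.Prime.coprime_iff_not_dvd Nat.prime_three).2 (hodd2 3 Nat.prime_three (by norm_num))).symm⟩
  have hzi : z⁻¹ = z := inv_eq_of_mul_eq_one_right D.data.zz
  have hzA : ∀ c ∈ A, z * c * z⁻¹ ∈ A := fun c hc => by
    rw [← hA, mem_cent] at hc ⊢
    calc z * c * z⁻¹ * y = z * c * z⁻¹ * (z * y⁻¹ * z⁻¹) := by rw [hzy]
      _ = z * (c * y⁻¹) * z⁻¹ := by group
      _ = z * (y⁻¹ * c) * z⁻¹ := by rw [(show Commute c y from hc).inv_right.eq]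
      _ = z * y⁻¹ * z⁻¹ * (z * c * z⁻¹) := by group
      _ = y * (z * c * z⁻¹) := by rw [hzy]
  have hfix : ∀ c ∈ A, c * z = z * c → c = 1 := fun c hc hcz => by
    refine orderOf_eq_one_iff.1 ?_
    have h1 := Subgroup.orderOf_dvd_natCard _ hc
    have h2 : orderOf c ∣ 1152 := D.data.card_cent ▸ Subgroup.orderOf_dvd_natCard _ (mem_cent.2 hcz)
    refine Nat.Coprime.eq_one_of_dvd ?_ h2
    have h6 := Nat.Coprime.coprime_dvd_left h1 hcop
    rw [show 1152 = 2 ^ 7 * 3 ^ 2 from rfl]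
    exact ((h6.coprime_dvd_right (by norm_num)).pow_right 7).mul_right ((h6.coprime_dvd_right (by norm_num)).pow_right 2)
  let f : A → A := fun c => ⟨(c : G)⁻¹ * (z * c * z⁻¹), A.mul_mem (A.inv_mem c.2) (hzA c c.2)⟩
  have hf : Function.Injective f := fun c d h => by
    have h' : (c : G)⁻¹ * (z * c * z⁻¹) = (d : G)⁻¹ * (z * d * z⁻¹) := congrArg Subtype.val h
    have h2 := hfix ((d : G) * (c : G)⁻¹) (A.mul_mem d.2 (A.inv_mem c.2)) (by
      refine (mul_inv_eq_iff_eq_mul.1 ?_).symm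
      rw [show z * ((d : G) * (c : G)⁻¹) * z⁻¹ = (d : G) * ((d : G)⁻¹ * (z * d * z⁻¹)) * (z * c * z⁻¹)⁻¹ by group, ← h']
      group)
    exact Subtype.ext (mul_inv_eq_one.1 h2).symm
  have hall : ∀ c ∈ A, z * c * z⁻¹ = c⁻¹ := fun c hc => by
    obtain ⟨d, hd⟩ := (Finite.injective_iff_surjective.1 hf) ⟨c, hc⟩
    have hd' : (d : G)⁻¹ * (z * d * z⁻¹) = c := congrArg Subtype.val hd
    rw [← hd', show z * ((d : G)⁻¹ * (z * d * z⁻¹)) * z⁻¹ = (z * d * z⁻¹)⁻¹ * (z * z * d * (z * z)⁻¹) by group,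
      D.data.zz]
    group
  refine ⟨hA ▸ hcop, fun c hc => hall c (hA ▸ mem_cent.2 hc), fun c hc d hd => ?_⟩
  have hc' : c ∈ A := hA ▸ mem_cent.2 hc
  have hd' : d ∈ A := hA ▸ mem_cent.2 hd
  have h1 := hall _ (A.mul_mem hc' hd')
  rw [show z * (c * d) * z⁻¹ = z * c * z⁻¹ * (z * d * z⁻¹) by group, hall c hc', hall d hd', mul_inv_rev] at h1
  exact ((show Commute c⁻¹ d⁻¹ from h1).inv_left.inv_right |> fun h => by rwa [inv_inv, inv_inv] at h : Commute c d).eq

/-- The centralisers form a family with trivial intersections. -/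
theorem WData.six_ti (W : WData z φ B θ O vw) (D : Base z φ B θ e e') {y c : G} (hy : PrimeSix z y)
    (hc : c * y = y * c) (hc1 : c ≠ 1) :
    PrimeSix z c ∧ Subgroup.centralizer ({c} : Set G) = Subgroup.centralizer ({y} : Set G) := by
  obtain ⟨hcop, hall, hcomm⟩ := W.six_cent D hy
  have hPc : PrimeSix z c :=
    ⟨hall c hc, hc1, Nat.Coprime.coprime_dvd_left (Subgroup.orderOf_dvd_natCard _ (mem_cent.2 hc)) hcop⟩
  obtain ⟨-, -, hcomm'⟩ := W.six_cent D hPc
  exact ⟨hPc, le_antisymm (fun x hx => mem_cent.2 (hcomm' x (mem_cent.1 hx) y hc.symm))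
    (fun x hx => mem_cent.2 (hcomm x (mem_cent.1 hx) c hc))⟩

/-- Two centralisers with orders sharing a prime are conjugate. -/
theorem WData.six_conj (W : WData z φ B θ O vw) (D : Base z φ B θ e e') {y y' : G} (hy : PrimeSix z y)
    (hy' : PrimeSix z y') {p : ℕ} (hp : p.Prime) (h : p ∣ Nat.card ↥(Subgroup.centralizer ({y} : Set G)))
    (h' : p ∣ Nat.card ↥(Subgroup.centralizer ({y'} : Set G))) :
    ∃ g : G, Subgroup.centralizer ({y'} : Set G) = Subgroup.centralizer ({g * y * g⁻¹} : Set G) := by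
  haveI := Fact.mk hp
  have hsyl : ∀ y, PrimeSix z y → p ∣ Nat.card ↥(Subgroup.centralizer ({y} : Set G)) →
      ∃ P : Sylow p G, ∀ a ∈ (P : Subgroup G), a * y = y * a := by
    intro y hy h
    obtain ⟨x, hx⟩ := exists_prime_orderOf_dvd_card' (G := ↥(Subgroup.centralizer ({y} : Set G))) p h
    rw [← Subgroup.orderOf_coe] at hx
    obtain ⟨P, hP⟩ := (IsPGroup.of_card (n := 1) (by rw [Nat.card_zpowers, hx, pow_one]) :
      IsPGroup p (Subgroup.zpowers (x : G))).exists_le_sylow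
    have hx1 : (x : G) ≠ 1 := fun e0 => hp.one_lt.ne' (by rw [← hx, e0, orderOf_one])
    haveI : Nontrivial (P : Subgroup G) := (Subgroup.nontrivial_iff_exists_ne_one _).2
      ⟨x, hP (Subgroup.mem_zpowers _), hx1⟩
    haveI := P.2.center_nontrivial
    obtain ⟨c, hc1⟩ := exists_ne (1 : Subgroup.center (P : Subgroup G))
    have hcomm : ∀ a ∈ (P : Subgroup G), a * ((c : (P : Subgroup G)) : G) = ((c : (P : Subgroup G)) : G) * a :=
      fun a ha => congrArg Subtype.val (Subgroup.mem_center_iff.1 c.2 ⟨a, ha⟩)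
    obtain ⟨hPx, hCx⟩ := W.six_ti D hy (mem_cent.1 x.2) hx1
    have hc1' : ((c : (P : Subgroup G)) : G) ≠ 1 := fun e0 => hc1 (Subtype.ext (Subtype.ext e0))
    obtain ⟨-, hCc⟩ := W.six_ti D hPx (hcomm x (hP (Subgroup.mem_zpowers _))).symm hc1'
    refine ⟨P, fun a ha => mem_cent.1 ?_⟩
    rw [← hCx, ← hCc]
    exact mem_cent.2 (hcomm a ha)
  obtain ⟨P, hP⟩ := hsyl y hy h
  obtain ⟨P', hP'⟩ := hsyl y' hy' h'
  obtain ⟨g, hg⟩ := MulAction.exists_smul_eq G P P'
  obtain ⟨x, hx⟩ := exists_prime_orderOf_dvd_card' (G := (P : Subgroup G)) p (by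
    rw [P.card_eq_multiplicity]
    refine dvd_pow_self p ?_
    exact (Nat.Prime.factorization_pos_of_dvd hp Nat.card_pos.ne' (h.trans (Subgroup.card_subgroup_dvd_card _))).ne')
  rw [← Subgroup.orderOf_coe] at hx
  have hx1 : (x : G) ≠ 1 := fun e0 => hp.one_lt.ne' (by rw [← hx, e0, orderOf_one])
  refine ⟨g, ?_⟩
  have hxy := (W.six_ti D hy (hP x x.2) hx1).2
  have hxy' := (W.six_ti D hy' (hP' (g * x * g⁻¹) (by
    rw [← hg, Sylow.coe_subgroup_smul]
    exact ⟨x, x.2, rfl⟩)) (fun e0 => hx1 (conj_eq_one_iff.1 e0))).2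
  ext a
  rw [← hxy', mem_cent_conj, mem_cent_conj, hxy]

/-- Each class of centralisers contributes a multiple of 1152 elements. -/
theorem WData.six_count (W : WData z φ B θ O vw) (D : Base z φ B θ e e') {y : G} (hy : PrimeSix z y) :
    ∃ r f : ℕ, Even f ∧ r * f + 1 = Nat.card ↥(Subgroup.centralizer ({y} : Set G)) ∧
      Nat.card {v : G // PrimeSix z v ∧ Nat.card ↥(Subgroup.centralizer ({v} : Set G)) =
        Nat.card ↥(Subgroup.centralizer ({y} : Set G))} = 1152 * r := by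
  classical
  haveI := Fintype.ofFinite G
  obtain ⟨hcop, hall, -⟩ := W.six_cent D hy
  obtain ⟨A, hA⟩ : ∃ A, Subgroup.centralizer ({y} : Set G) = A := ⟨_, rfl⟩
  obtain ⟨a, hadef⟩ : ∃ a, Nat.card A = a := ⟨_, rfl⟩
  rw [hA, hadef] at hcop ⊢
  have hti : ∀ x ∈ A, x ≠ 1 → PrimeSix z x ∧ Subgroup.centralizer ({x} : Set G) = A := fun x hx h1 =>
    hA ▸ W.six_ti D hy (mem_cent.1 (hA.symm ▸ hx : x ∈ Subgroup.centralizer ({y} : Set G))) h1
  have hinvA : ∀ x ∈ A, z * x * z⁻¹ = x⁻¹ := fun x hx =>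
    hall x (mem_cent.1 (hA.symm ▸ hx : x ∈ Subgroup.centralizer ({y} : Set G)))
  have hzA : z ∉ A := fun h => by
    have h1 := Nat.Coprime.coprime_dvd_left (Subgroup.orderOf_dvd_natCard _ h) (hadef.symm ▸ hcop)
    rw [D.data.z2] at h1
    norm_num at h1
  have hzi : z⁻¹ = z := inv_eq_of_mul_eq_one_right D.data.zz
  have hapos : 0 < a := hadef ▸ Nat.card_pos
  -- the inverted conjugates of one element
  have hclass : ∀ x ∈ A, x ≠ 1 → Nat.card {v : G // IsConj x v ∧ z * v * z⁻¹ = v⁻¹} = 1152 := by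
    intro x hx h1
    obtain ⟨-, hCx⟩ := hti x hx h1
    have hrev : Nat.card {u : G // orderOf u = 2 ∧ u * x * u⁻¹ = x⁻¹} = a := by
      rw [← hadef]
      symm
      refine Nat.card_eq_of_bijective (fun c : A => (⟨z * c, ?_, ?_⟩ :
        {u : G // orderOf u = 2 ∧ u * x * u⁻¹ = x⁻¹})) ⟨fun c d h => ?_, fun u => ?_⟩
      · refine orderOf_eq_prime_iff.2 ⟨?_, fun e0 => hzA ?_⟩
        · rw [pow_two, show z * (c : G) * (z * c) = z * c * z⁻¹ * (z * z) * c by group, D.data.zz, hinvA c c.2]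
          group
        · rw [show z = (c : G)⁻¹ from eq_inv_of_mul_eq_one_left e0]
          exact A.inv_mem c.2
      · have hc : (c : G) * x = x * c := mem_cent.1 (hCx.symm ▸ c.2 : (c : G) ∈ Subgroup.centralizer ({x} : Set G))
        rw [show z * (c : G) * x * (z * c)⁻¹ = z * ((c : G) * x * (c : G)⁻¹) * z⁻¹ by group, hc, mul_inv_cancel_right,
          hinvA x hx]
      · exact Subtype.ext (mul_left_cancel (congrArg Subtype.val h))
      · obtain ⟨u, hu, hux⟩ := u
        have hmem : z * u ∈ A := by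
          rw [← hCx, mem_cent]
          calc z * u * x = z * (u * x * u⁻¹) * u := by group
            _ = z * x⁻¹ * z⁻¹ * (z * u) := by rw [hux]; group
            _ = x * (z * u) := by rw [← conj_inv, hinvA x hx, inv_inv]
        exact ⟨⟨_, hmem⟩, Subtype.ext (show z * (z * u) = u by rw [← mul_assoc, D.data.zz, one_mul])⟩
    have := inverted_count D.data.conj_iff x
    rw [hrev, hCx, hadef, D.data.card_cent, mul_comm a] at this
    exact Nat.eq_of_mul_eq_mul_right hapos this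
  -- the conjugates inside the group
  have hnorm : ∀ x ∈ A, x ≠ 1 → ∀ g, g * x * g⁻¹ ∈ A ↔ g ∈ Subgroup.normalizer (A : Set G) := by
    intro x hx h1 g
    refine ⟨fun hg => ?_, fun hg => (Subgroup.mem_normalizer_iff.1 hg x).1 hx⟩
    obtain ⟨-, hCg⟩ := hti _ hg fun e0 => h1 (conj_eq_one_iff.1 e0)
    rw [Subgroup.mem_normalizer_iff]
    intro b
    conv_rhs => rw [← hCg, mem_cent_conj, show g⁻¹ * (g * b * g⁻¹) * g = b by group, (hti x hx h1).2]
  obtain ⟨N, hN⟩ : ∃ N, Nat.card (Subgroup.normalizer (A : Set G)) = N := ⟨_, rfl⟩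
  have horb : ∀ x ∈ A, x ≠ 1 → Nat.card {v : G // IsConj x v ∧ v ∈ A} * a = N := by
    intro x hx h1
    have := class_fibre x fun v => v ∈ A
    rw [(hti x hx h1).2, hadef] at this
    rw [this, ← hN]
    exact Nat.card_congr (Equiv.subtypeEquivRight (hnorm x hx h1))
  have hyA : y ∈ A := hA ▸ mem_cent.2 rfl
  obtain ⟨f, hf⟩ : ∃ f, Nat.card {v : G // IsConj y v ∧ v ∈ A} = f := ⟨_, rfl⟩
  have hfN : f * a = N := hf ▸ horb y hyA hy.2.1
  let S : Finset G := Finset.univ.filter fun v => v ∈ A ∧ v ≠ 1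
  let C : Finset (ConjClasses G) := S.image ConjClasses.mk
  let R : Finset G := Finset.univ.filter fun v => PrimeSix z v ∧ Nat.card ↥(Subgroup.centralizer ({v} : Set G)) = a
  have hmS : ∀ v, v ∈ S ↔ v ∈ A ∧ v ≠ 1 := fun v => by simp [S]
  have hmR : ∀ v, v ∈ R ↔ PrimeSix z v ∧ Nat.card ↥(Subgroup.centralizer ({v} : Set G)) = a := fun v => by simp [R]
  have hR : ∀ v ∈ R, ConjClasses.mk v ∈ C := by
    intro v hv
    obtain ⟨hv, hva⟩ := (hmR v).1 hv
    have ha1 : a ≠ 1 := fun e0 => hy.2.1 (Subgroup.card_eq_one.1 (hadef.trans e0) ▸ hyA : y ∈ (⊥ : Subgroup G))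
    obtain ⟨p, hp, hpa⟩ := Nat.exists_prime_and_dvd ha1
    obtain ⟨g, hg⟩ := W.six_conj D hy hv hp (hA.symm ▸ hadef.symm ▸ hpa) (hva.symm ▸ hpa)
    have hmem : v ∈ Subgroup.centralizer ({g * y * g⁻¹} : Set G) := hg ▸ mem_cent.2 rfl
    rw [mem_cent_conj, hA] at hmem
    refine Finset.mem_image.2 ⟨g⁻¹ * v * g, (hmS _).2 ⟨hmem, fun e0 => hv.2.1 ?_⟩,
      ConjClasses.mk_eq_mk_iff_isConj.2 (isConj_iff.2 ⟨g, by group⟩)⟩
    exact (conj_eq_one_iff (a := g⁻¹)).1 (by rwa [inv_inv])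
  have hRcard : R.card = 1152 * C.card := by
    rw [Finset.card_eq_sum_card_fiberwise hR, Finset.sum_const_nat (m := 1152), mul_comm]
    intro K hK
    obtain ⟨x, hxS, rfl⟩ := Finset.mem_image.1 hK
    obtain ⟨hx, h1⟩ := (hmS x).1 hxS
    rw [← hclass x hx h1, Nat.card_eq_fintype_card, Fintype.card_subtype]
    congr 1
    ext v
    simp only [Finset.mem_filter, Finset.mem_univ, true_and, hmR, ConjClasses.mk_eq_mk_iff_isConj]
    refine ⟨fun h => ⟨h.2.symm, h.1.1.1⟩, fun ⟨hc, hz⟩ => ⟨⟨⟨hz, ?_, ?_⟩, ?_⟩, hc.symm⟩⟩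
    all_goals obtain ⟨g, rfl⟩ := isConj_iff.1 hc
    · exact fun e0 => h1 (conj_eq_one_iff.1 e0)
    · rw [show orderOf (g * x * g⁻¹) = orderOf x from
        orderOf_injective (MulAut.conj g).toMonoidHom (MulAut.conj g).injective x]
      exact (hti x hx h1).1.2.2
    · rw [card_cent_conj, (hti x hx h1).2, hadef]
  have hScard : S.card = C.card * f := by
    rw [Finset.card_eq_sum_card_fiberwise (t := C) (f := ConjClasses.mk)
      (fun v hv => Finset.mem_image_of_mem _ hv), Finset.sum_const_nat]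
    intro K hK
    obtain ⟨x, hxS, rfl⟩ := Finset.mem_image.1 hK
    obtain ⟨hx, h1⟩ := (hmS x).1 hxS
    refine Eq.trans ?_ (Nat.eq_of_mul_eq_mul_right hapos ((horb x hx h1).trans hfN.symm))
    rw [Nat.card_eq_fintype_card, Fintype.card_subtype]
    congr 1
    ext v
    simp only [Finset.mem_filter, Finset.mem_univ, true_and, hmS, ConjClasses.mk_eq_mk_iff_isConj]
    refine ⟨fun h => ⟨h.2.symm, h.1.1⟩, fun ⟨hc, hv⟩ => ⟨⟨hv, fun e0 => h1 ?_⟩, hc.symm⟩⟩
    rw [e0] at hc
    exact isConj_one_right.1 hc.symm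
  have hS1 : S.card + 1 = a := by
    rw [← hadef, Nat.card_eq_fintype_card, Fintype.card_subtype]
    have : S = (Finset.univ.filter fun v => v ∈ A).erase 1 := by
      ext v
      simp [S, and_comm]
    rw [this, Finset.card_erase_add_one (by simp [A.one_mem])]
  refine ⟨C.card, f, ?_, by rw [← hScard, hS1], ?_⟩
  · have hzN : z ∈ Subgroup.normalizer (A : Set G) := (hnorm y hyA hy.2.1 z).1 (by
      rw [hy.1]; exact A.inv_mem hyA)
    have h2 := Subgroup.orderOf_dvd_natCard _ hzN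
    rw [D.data.z2, hN, ← hfN] at h2
    rcases Nat.prime_two.dvd_mul.1 h2 with h | h
    · exact even_iff_two_dvd.2 h
    · have := hcop.coprime_dvd_left h
      norm_num at this
  · rw [Nat.card_eq_fintype_card, Fintype.card_subtype]
    exact hRcard

/-- The group has order 3265920. -/
theorem WData.card_group (W : WData z φ B θ O vw) (D : Base z φ B θ e e') : Nat.card G = 2835 * 1152 := by
  classical
  haveI := Fintype.ofFinite G
  rw [← D.data.card_invol]
  congr 1
  obtain ⟨n, hn⟩ : ∃ n, Nat.card {u : G // orderOf u = 2} = n := ⟨_, rfl⟩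
  rw [hn]
  have hG : n * 1152 = Nat.card G := hn ▸ D.data.card_invol
  let Y : Finset G := Finset.univ.filter fun y => z * y * z⁻¹ = y⁻¹ ∧ y ≠ 1 ∧ Odd (orderOf y)
  let R : Finset G := Finset.univ.filter (PrimeSix z)
  have hzi : z⁻¹ = z := inv_eq_of_mul_eq_one_right D.data.zz
  -- involutions through their product with `z`
  have hinv : n = 1 + 1170 + Y.card := by
    have h1 := D.data.card_even
    rw [Nat.card_eq_fintype_card, Fintype.card_subtype] at hn h1
    have h2 : (Finset.univ.filter fun v : G => orderOf v = 2 ∧ ¬ Even (orderOf (z * v))).card = Y.card + 1 := by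
      rw [← Finset.card_insert_of_notMem (a := (1 : G)) (s := Y) (by simp [Y])]
      refine Finset.card_bij' (fun v _ => z * v) (fun y _ => z * y) ?_ ?_
        (fun v _ => by rw [← mul_assoc, D.data.zz, one_mul]) (fun v _ => by rw [← mul_assoc, D.data.zz, one_mul])
      · intro v hv
        obtain ⟨-, hv2, hve⟩ := Finset.mem_filter.1 hv
        rw [Finset.mem_insert]
        by_cases h : z * v = 1
        · exact Or.inl h
        · exact Or.inr (Finset.mem_filter.2 ⟨Finset.mem_univ _, (invol_facts D.data.z2 hv2).2.2.1, h,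
            Nat.not_even_iff_odd.1 hve⟩)
      · intro y hy
        refine Finset.mem_filter.2 ⟨Finset.mem_univ _, ?_⟩
        rw [← mul_assoc, D.data.zz, one_mul]
        rcases Finset.mem_insert.1 hy with rfl | hy
        · rw [mul_one, orderOf_one]
          exact ⟨D.data.z2, by norm_num⟩
        · obtain ⟨-, hyi, hy1, hyo⟩ := Finset.mem_filter.1 hy
          refine ⟨orderOf_eq_prime_iff.2 ⟨?_, fun e0 => ?_⟩, Nat.not_even_iff_odd.2 hyo⟩
          · rw [pow_two, show z * y * (z * y) = z * y * z⁻¹ * (z * z) * y by group, hyi, D.data.zz]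
            group
          · rw [show y = z⁻¹ from eq_inv_of_mul_eq_one_right e0, hzi, D.data.z2] at hyo
            exact absurd hyo (by decide)
    have h3 := Finset.card_filter_add_card_filter_not (s := Finset.univ.filter fun v : G => orderOf v = 2)
      (p := fun v => Even (orderOf (z * v)))
    rw [Finset.filter_filter, Finset.filter_filter, h1, h2, hn] at h3
    omega
  have hY : Y.card = 512 + R.card := by
    rw [← W.three_count D, Nat.card_eq_fintype_card, Fintype.card_subtype]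
    rw [← Finset.card_union_of_disjoint]
    · congr 1
      ext y
      simp only [Y, R, Finset.mem_union, Finset.mem_filter, Finset.mem_univ, true_and, PrimeSix]
      constructor
      · rintro ⟨h, h1, ho⟩
        by_cases h3 : 3 ∣ orderOf y
        · exact Or.inl ⟨h, W.inverted_three D h ho h3, h1⟩
        · refine Or.inr ⟨h, h1, ?_⟩
          rw [show (6 : ℕ) = 2 * 3 from rfl, Nat.coprime_mul_iff_right]
          exact ⟨Nat.coprime_two_right.2 ho, ((Nat.Prime.coprime_iff_not_dvd Nat.prime_three).2 h3).symm⟩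
      · rintro (⟨h, h3, h1⟩ | ⟨h, h1, hc⟩)
        · refine ⟨h, h1, Odd.of_dvd_nat (show Odd 3 by decide) (orderOf_dvd_iff_pow_eq_one.2 h3)⟩
        · exact ⟨h, h1, Nat.coprime_two_right.1 (hc.coprime_dvd_right (by norm_num))⟩
    · rw [Finset.disjoint_filter]
      rintro y - ⟨-, h3, h1⟩ ⟨-, -, hc⟩
      refine h1 (orderOf_eq_one_iff.1 ?_)
      exact Nat.Coprime.eq_one_of_dvd (hc.coprime_dvd_right (by norm_num)) (orderOf_dvd_iff_pow_eq_one.2 h3)
  let key : G → ℕ := fun y => Nat.card ↥(Subgroup.centralizer ({y} : Set G))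
  let S : Finset ℕ := R.image key
  let r : ℕ → ℕ := fun a => (R.filter fun v => key v = a).card / 1152
  have hS : ∀ a ∈ S, ∃ y, PrimeSix z y ∧ key y = a := fun a ha => by
    obtain ⟨y, hy, rfl⟩ := Finset.mem_image.1 ha
    exact ⟨y, (Finset.mem_filter.1 hy).2, rfl⟩
  have hr : ∀ a ∈ S, (R.filter fun v => key v = a).card = 1152 * r a ∧ ∃ f, Even f ∧ r a * f + 1 = a := fun a ha => by
    obtain ⟨y, hy, rfl⟩ := hS a ha
    obtain ⟨c, f, hf, hcf, hcount⟩ := W.six_count D hy
    rw [Nat.card_eq_fintype_card, Fintype.card_subtype] at hcount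
    have : (R.filter fun v => key v = key y).card = 1152 * c := by
      rw [← hcount, Finset.filter_filter]
    have hrc : r (key y) = c := by simp only [r, this]; omega
    exact ⟨by rw [hrc, this], f, hf, by rw [hrc]; exact hcf⟩
  have hsum : R.card = 1152 * ∑ a ∈ S, r a := by
    rw [Finset.card_eq_sum_card_fiberwise (f := key) (t := S) (fun v hv => Finset.mem_image_of_mem _ hv),
      Finset.mul_sum]
    exact Finset.sum_congr rfl fun a ha => (hr a ha).1
  refine arith_final S r ?_ (by omega) (fun a ha => ?_) (fun a ha b hb hab => ?_)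
  · have h := D.three_part.1
    rw [← hG] at h
    omega
  · obtain ⟨y, hy, rfl⟩ := hS a ha
    obtain ⟨hcop, -, -⟩ := W.six_cent D hy
    refine ⟨?_, hcop, ?_, (hr _ ha).2⟩
    · have h1 : 1 < Nat.card ↥(Subgroup.centralizer ({y} : Set G)) := by
        refine Finite.one_lt_card_iff_nontrivial.2 ?_
        exact (Subgroup.nontrivial_iff_exists_ne_one _).2 ⟨y, mem_cent.2 rfl, hy.2.1⟩
      exact h1
    · have h : key y ∣ n * 1152 := hG ▸ Subgroup.card_subgroup_dvd_card _
      have h6 : Nat.Coprime (key y) (2 ^ 7 * 3 ^ 2) :=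
        ((hcop.coprime_dvd_right (by norm_num)).pow_right 7).mul_right ((hcop.coprime_dvd_right (by norm_num)).pow_right 2)
      exact h6.dvd_of_dvd_mul_right h
  · obtain ⟨y, hy, rfl⟩ := hS a ha
    obtain ⟨y', hy', rfl⟩ := hS b hb
    refine Nat.coprime_of_dvd fun p hp h h' => hab ?_
    obtain ⟨g, hg⟩ := W.six_conj D hy hy' hp h h'
    show Nat.card _ = Nat.card _
    rw [hg, card_cent_conj]

end CfsgU43Type
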