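import Cfsg.Agent.Lib.U43Type.WTypes

/-!
Groups of U₄(3) type: kernel checks for counting the inverted elements of order three.
-/

set_option autoImplicit false
set_option maxRecDepth 100000
set_option Elab.async false

namespace CfsgU43Type

/-- The maps of order two reversing the first coordinate, with the vectors they reverse. -/
def dPairs : List (ℕ × ℕ) :=
  (lList.filter fun L => lmul L L == lone && lapp L 1 == 2).flatMap fun L =>
    ((List.range 81).filter fun v => lapp L v == vneg v).map fun v => (L, v)

theorem dPairs_length : dPairs.length = 54 := by
  decide +kernel

theorem one_maps : (lList.any fun L => lapp L 1 == 2) = true ∧ (lList.all fun L => lapp L 1 != 3) = true ∧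
    (lList.all fun L => lmul L L != lone || lapp L 1 != 2 || lmul L (lmul L L) == L) = true ∧
    twist 800 = 784 ∧ mmul 400 400 = 800 ∧ mmul 416 416 = 784 := by
  decide +kernel

theorem three_lines : ((List.range 1152).all fun h => mcube h != 0 || h == 0 ||
      (mList.any fun m => h == mconj m 384 || h == mconj m 768) ||
      (List.range 1152).any fun m => [400, 800, 416, 784].contains (mconj m h)) = true ∧
    ((List.range 1152).any fun c => mconj c 384 == 768) = true ∧
    (mList.all fun m => decide (m < 1152) && mconj m 384 != 0) = true := by
  decide +kernel

end CfsgU43Type
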