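import Cfsg.Agent.Lib.U43Type.Three
import Cfsg.Agent.Lib.U43Type.ThreeChecks
import Cfsg.Agent.Lib.U43Type.CountEven

/-!
Groups of U₄(3) type: the elements of order three inverted by `z`.
-/

set_option autoImplicit false
set_option maxRecDepth 100000
set_option linter.unusedSectionVars false

namespace CfsgU43Type

variable {G : Type*} [Group G] {z : G} {φ : ℕ → G} {B : Subgroup G} {θ : ℕ → G} {e e' : G} {O : Subgroup G} {vw : ℕ}

theorem mem_dPairs {L v : ℕ} : (L, v) ∈ dPairs ↔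
    L ∈ lList ∧ lmul L L = lone ∧ lapp L 1 = 2 ∧ v < 81 ∧ lapp L v = vneg v := by
  simp only [dPairs, List.mem_flatMap, List.mem_map, List.mem_filter, Bool.and_eq_true, beq_iff_eq, List.mem_range,
    Prod.mk.injEq]
  constructor
  · rintro ⟨L', ⟨h1, h2, h3⟩, v', ⟨h4, h5⟩, rfl, rfl⟩
    exact ⟨h1, h2, h3, h4, h5⟩
  · rintro ⟨h1, h2, h3, h4, h5⟩
    exact ⟨L, ⟨h1, h2, h3⟩, v, ⟨h4, h5⟩, rfl, rfl⟩

theorem vneg_one : vneg 1 = 2 ∧ vneg 3 = 6 := by decide +kernel

theorem Base.theta_two (D : Base z φ B θ e e') : θ 2 = (θ 1)⁻¹ ∧ θ 6 = (θ 3)⁻¹ := by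
  rw [← vneg_one.1, ← vneg_one.2, D.coord.neg (by norm_num), D.coord.neg (by norm_num)]
  exact ⟨rfl, rfl⟩

variable [Finite G]

theorem Base.mem_ne (D : Base z φ B θ e e') {v : ℕ} (hv : v < 81) : θ v ∈ B ∧ (v ≠ 0 → θ v ≠ 1) :=
  ⟨(D.coord.mem _).2 ⟨v, hv, rfl⟩, fun h e => h (D.coord.inj v hv 0 (by norm_num) (by rw [e, D.coord.zero]))⟩

/-- An element conjugating the first coordinate into the elementary group's normaliser normalises the group. -/
theorem Base.normal_of_image (D : Base z φ B θ e e') {g : G}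
    (hn : ∀ x, x * (g * θ 1 * g⁻¹) = g * θ 1 * g⁻¹ * x → x ∈ Subgroup.normalizer (B : Set G)) :
    g ∈ Subgroup.normalizer (B : Set G) := by
  obtain ⟨A, hA⟩ : ∃ A, B.map (MulAut.conj g).toMonoidHom = A := ⟨_, rfl⟩
  have hmA : ∀ a ∈ A, ∃ x ∈ B, g * x * g⁻¹ = a := fun a ha => by
    obtain ⟨x, hx, rfl⟩ := hA ▸ ha
    exact ⟨x, hx, rfl⟩
  have hAB : A = B := by
    refine D.abelian_unique A ?_ ?_ ?_
    · intro a ha b hb
      obtain ⟨x, hx, rfl⟩ := hmA a ha
      obtain ⟨y, hy, rfl⟩ := hmA b hb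
      rw [show g * x * g⁻¹ * (g * y * g⁻¹) = g * (x * y) * g⁻¹ by group, D.coord.comm hx hy]
      group
    · rw [← hA, Subgroup.card_map_of_injective (MulAut.conj g).injective, D.card_B]
    · intro a ha
      obtain ⟨x, hx, rfl⟩ := hmA a ha
      refine hn _ ?_
      rw [show g * x * g⁻¹ * (g * θ 1 * g⁻¹) = g * (x * θ 1) * g⁻¹ by group, D.coord.comm hx (D.mem_ne (by norm_num)).1]
      group
  have hk : ∀ x ∈ B, g * x * g⁻¹ ∈ B := fun x hx => hAB ▸ hA ▸ ⟨x, hx, rfl⟩
  rw [Subgroup.mem_normalizer_iff]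
  refine fun x => ⟨hk x, fun hx => ?_⟩
  obtain ⟨y, hy, he⟩ := hmA _ (hAB.symm ▸ hx)
  rwa [← mul_left_cancel (mul_right_cancel he)]

theorem Base.one_not_three (D : Base z φ B θ e e') : ¬ IsConj (θ 1) (θ 3) := by
  intro h
  obtain ⟨g, hg⟩ := isConj_iff.1 h
  obtain ⟨L, hL, hgL⟩ := D.normal_act (D.normal_of_image fun x hx => D.cent_three_normal (hg ▸ hx))
  have := of_all one_maps.2.1 hL
  rw [bne_iff_ne] at this
  exact this (D.coord.act_apply hgL (by norm_num) (by norm_num) hg)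

theorem Base.one_real (D : Base z φ B θ e e') : IsConj (θ 1) (θ 1)⁻¹ := by
  obtain ⟨L, hL, hL2⟩ : ∃ L ∈ lList, lapp L 1 = 2 := by simpa using one_maps.1
  obtain ⟨g, hg⟩ := D.exists_act hL
  exact isConj_iff.2 ⟨g, by rw [hg 1 (by norm_num), hL2, D.theta_two.1]⟩

/-- The involutions reversing the first coordinate. -/
theorem Base.card_reverse (D : Base z φ B θ e e') :
    Nat.card {u : G // orderOf u = 2 ∧ u * θ 1 * u⁻¹ = (θ 1)⁻¹} = 54 := by
  classical
  have h12 : θ 2 = (θ 1)⁻¹ := D.theta_two.1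
  have lift : ∀ L ∈ lList, lmul L L = lone → lapp L 1 = 2 → ∃ t : G, t * t = 1 ∧ VAct θ t L := by
    intro L hL h2 h1
    obtain ⟨g, hg⟩ := D.exists_act hL
    have hgg : VAct θ (g * g) lone := h2 ▸ D.coord.act_mul hg hg
    have h6 := D.B_cube (D.mem_of_act_one hgg)
    refine ⟨g * g * g, by rw [← h6]; simp only [pow_succ, pow_zero, one_mul]; group, ?_⟩
    have h3 : lmul L (lmul L L) = L := by
      have := of_all one_maps.2.2.1 hL
      simpa [h2, h1] using this
    have := D.coord.act_mul hg (D.coord.act_mul hg hg)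
    rwa [h3, ← mul_assoc] at this
  choose! T hT2 hTA using lift
  have hmem : ∀ p : {p // p ∈ dPairs.toFinset}, orderOf (T p.1.1 * θ p.1.2) = 2 ∧
      T p.1.1 * θ p.1.2 * θ 1 * (T p.1.1 * θ p.1.2)⁻¹ = (θ 1)⁻¹ := fun ⟨⟨L, v⟩, hp⟩ => by
    obtain ⟨hL, h2, h1, hv, hneg⟩ := mem_dPairs.1 (List.mem_toFinset.1 hp)
    obtain ⟨hB, -⟩ := D.mem_ne hv
    have hinv : T L * θ v * θ 1 * (T L * θ v)⁻¹ = (θ 1)⁻¹ := by
      rw [show T L * θ v * θ 1 * (T L * θ v)⁻¹ = T L * (θ v * θ 1 * (θ v)⁻¹) * (T L)⁻¹ by group,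
        D.coord.comm hB (D.mem_ne (by norm_num)).1, mul_inv_cancel_right, hTA L hL h2 h1 1 (by norm_num), h1, h12]
    refine ⟨orderOf_eq_prime_iff.2 ⟨?_, fun e0 => ?_⟩, hinv⟩
    · rw [pow_two, show T L * θ v * (T L * θ v) = T L * θ v * (T L)⁻¹ * (T L * T L) * θ v by group,
        hT2 L hL h2 h1, hTA L hL h2 h1 v hv, hneg, D.coord.neg hv]
      group
    · rw [e0, one_mul, inv_one, mul_one, ← h12] at hinv
      exact absurd (D.coord.inj 1 (by norm_num) 2 (by norm_num) hinv) (by norm_num)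
  let F : {p // p ∈ dPairs.toFinset} → {u : G // orderOf u = 2 ∧ u * θ 1 * u⁻¹ = (θ 1)⁻¹} := fun p => ⟨_, hmem p⟩
  have hact : ∀ {L v : ℕ}, L ∈ lList → lmul L L = lone → lapp L 1 = 2 → v < 81 → VAct θ (T L * θ v) L := by
    intro L v hL h2 h1 hv u hu
    rw [show T L * θ v * θ u * (T L * θ v)⁻¹ = T L * (θ v * θ u * (θ v)⁻¹) * (T L)⁻¹ by group,
      D.coord.comm (D.mem_ne hv).1 (D.mem_ne hu).1, mul_inv_cancel_right, hTA L hL h2 h1 u hu]
  have hF : Function.Bijective F := by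
    refine ⟨fun ⟨⟨L, v⟩, hp⟩ ⟨⟨L', v'⟩, hp'⟩ h => ?_, fun ⟨u, hu, hinv⟩ => ?_⟩
    · obtain ⟨hL, h2, h1, hv, -⟩ := mem_dPairs.1 (List.mem_toFinset.1 hp)
      obtain ⟨hL', h2', h1', hv', -⟩ := mem_dPairs.1 (List.mem_toFinset.1 hp')
      have h' : T L * θ v = T L' * θ v' := congrArg Subtype.val h
      obtain rfl := D.coord.act_unique (hact hL h2 h1 hv) (h' ▸ hact hL' h2' h1' hv') hL hL'
      obtain rfl := D.coord.inj v hv v' hv' (mul_left_cancel h')
      rfl
    · have hun : u ∈ Subgroup.normalizer (B : Set G) := D.normal_of_image fun x hx => D.cent_d_normal (by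
        rw [hinv] at hx
        exact (inv_inv (θ 1) ▸ (show Commute x (θ 1)⁻¹ from hx).inv_right).eq)
      have huu : u * u = 1 := by rw [← pow_two, ← hu, pow_orderOf_eq_one]
      obtain ⟨L, hL, huL⟩ := D.normal_act hun
      have h2 : lmul L L = lone := D.coord.act_unique (huu ▸ D.coord.act_mul huL huL) (D.coord.act_self B.one_mem)
        (D.lmul_mem hL hL) lone_mem
      have h1 : lapp L 1 = 2 := D.coord.act_apply huL (by norm_num) (by norm_num) (by rw [hinv, h12])
      have hTT := hT2 L hL h2 h1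
      obtain ⟨v, hv, hve⟩ := (D.coord.mem _).1 (D.mem_of_act_one (c := T L * u) (by
        have := D.coord.act_mul (hTA L hL h2 h1) huL
        rwa [h2] at this))
      have hu' : T L * θ v = u := by rw [hve, ← mul_assoc, hTT, one_mul]
      have hneg : lapp L v = vneg v := by
        refine D.coord.inj _ (lapp_lt _ _) _ (vneg_lt hv) ?_
        rw [D.coord.neg hv, ← hTA L hL h2 h1 v hv, inv_eq_of_mul_eq_one_right hTT]
        refine eq_inv_of_mul_eq_one_left ?_
        rw [mul_assoc _ (T L) (θ v), hu', huu]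
      exact ⟨⟨(L, v), List.mem_toFinset.2 (mem_dPairs.2 ⟨hL, h2, h1, hv, hneg⟩)⟩, Subtype.ext hu'⟩
  have hnd : dPairs.Nodup := by
    refine List.nodup_flatMap.2 ⟨fun a _ => (List.nodup_range.filter _).map fun _ _ h => (Prod.mk.injEq _ _ _ _ ▸ h).2, ?_⟩
    refine List.Pairwise.imp (fun {a b} hab => ?_) (lList_ok.2.1.filter _)
    intro p h1 h2
    simp only [List.mem_map] at h1 h2
    obtain ⟨_, _, rfl⟩ := h1
    obtain ⟨_, _, h⟩ := h2
    exact hab (congrArg Prod.fst h).symm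
  rw [← Nat.card_eq_of_bijective F hF, Nat.card_eq_finsetCard, List.toFinset_card_of_nodup hnd, dPairs_length]

/-- The inverted conjugates of the first coordinate. -/
theorem Base.diag_count (D : Base z φ B θ e e') :
    Nat.card {y : G // IsConj (θ 1) y ∧ z * y * z⁻¹ = y⁻¹} = 64 := by
  have := inverted_count D.data.conj_iff (θ 1)
  rw [D.card_cent_d, D.card_reverse, D.data.card_cent] at this
  omega

/-- The inverted conjugates of the untyped elements. -/
theorem WData.untyped_count (W : WData z φ B θ O vw) (D : Base z φ B θ e e') :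
    Nat.card {y : G // z * y * z⁻¹ = y⁻¹ ∧ ∃ g, Untyped z φ B O (g * y * g⁻¹)} = 384 := by
  classical
  have hw3 : φ 384 ^ 3 = 1 := D.w_cube
  have hm : ∀ m ∈ mList, m < 1152 ∧ mconj m 384 ≠ 0 := fun m hm => by
    simpa using of_all three_lines.2.2 hm
  have hwk : ∀ k : ℕ, φ 384 ^ k = 1 ∨ φ 384 ^ k = φ 384 ∨ φ 384 ^ k = φ 768 := fun k => by
    have e768 : φ 768 = φ 384 ^ 2 := by
      rw [pow_two, ← D.data.mul _ (by norm_num) _ (by norm_num), show mmul 384 384 = 768 by decide +kernel]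
    rw [pow_eq_pow_mod k hw3, e768]
    have : k % 3 < 3 := Nat.mod_lt _ (by norm_num)
    interval_cases k % 3 <;> simp
  have hinvy : ∀ {m : ℕ} {s : G}, m < 1152 →
      (z * (φ m * s * (φ m)⁻¹) * z⁻¹ = (φ m * s * (φ m)⁻¹)⁻¹ ↔ z * s * z⁻¹ = s⁻¹) := by
    intro m s hm
    rw [show z * (φ m * s * (φ m)⁻¹) * z⁻¹ = z * φ m * s * (z * φ m)⁻¹ by group,
      ← D.data.comm_z hm, conj_inv, show φ m * z * s * (φ m * z)⁻¹ = φ m * (z * s * z⁻¹) * (φ m)⁻¹ by group]
    exact ⟨fun h => mul_left_cancel (mul_right_cancel h), fun h => by rw [h]⟩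
  let F : {m // m ∈ mList.toFinset} × {s : G // Untyped z φ B O s} →
      {y : G // z * y * z⁻¹ = y⁻¹ ∧ ∃ g, Untyped z φ B O (g * y * g⁻¹)} := fun p =>
    ⟨φ p.1.1 * p.2.1 * (φ p.1.1)⁻¹, (hinvy (hm _ (List.mem_toFinset.1 p.1.2)).1).2 p.2.2.2.1, (φ p.1.1)⁻¹, by
      rw [show (φ p.1.1)⁻¹ * (φ p.1.1 * p.2.1 * (φ p.1.1)⁻¹) * (φ p.1.1)⁻¹⁻¹ = p.2.1 by group]
      exact p.2.2⟩
  have hF : Function.Bijective F := by
    refine ⟨fun ⟨⟨m, hmm⟩, ⟨s, hs⟩⟩ ⟨⟨m', hmm'⟩, ⟨s', hs'⟩⟩ h => ?_, fun ⟨y, hy, g, hg⟩ => ?_⟩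
    · have h' : φ m * s * (φ m)⁻¹ = φ m' * s' * (φ m')⁻¹ := congrArg Subtype.val h
      have hmm1 := List.mem_toFinset.1 hmm
      have hmm1' := List.mem_toFinset.1 hmm'
      obtain ⟨hl, -⟩ := hm m hmm1
      obtain ⟨hl', hne'⟩ := hm m' hmm1'
      obtain ⟨c, hc⟩ : ∃ c, (φ m)⁻¹ * φ (mconj m' 384) * φ m = c := ⟨_, rfl⟩
      have hcs : c * s = s * c := by
        have hcm : Commute (φ (mconj m' 384)) (φ m' * s' * (φ m')⁻¹) := by
          show φ (mconj m' 384) * _ = _ * φ (mconj m' 384)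
          rw [D.data.conj hl' (by norm_num), show φ m' * φ 384 * (φ m')⁻¹ * (φ m' * s' * (φ m')⁻¹) =
            φ m' * (φ 384 * s') * (φ m')⁻¹ by group, ← W.core.comm_w s' hs'.1]
          group
        rw [← h'] at hcm
        rw [← hc, show (φ m)⁻¹ * φ (mconj m' 384) * φ m * s =
          (φ m)⁻¹ * (φ (mconj m' 384) * (φ m * s * (φ m)⁻¹)) * φ m by group, hcm.eq]
        group
      have hcO : c ∈ O := by
        have := Subgroup.mem_centralizer_singleton_iff.2 hcs
        rw [W.u_cent D hs] at this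
        exact this.1
      have hcz : c * z = z * c := by
        rw [← hc]
        exact (((show Commute (φ m) z from D.data.comm_z hl).inv_left).mul_left
          (D.data.comm_z (mconj_lt hl' (by norm_num)))).mul_left (D.data.comm_z hl) |>.eq
      obtain ⟨k, hk⟩ := W.core.fix c hcO hcz
      have hkey : m = m' := by
        have := of_all mList_ok.2.1 hmm1
        simp only [Bool.and_eq_true, List.all_eq_true, Bool.or_eq_true, beq_iff_eq, Bool.not_eq_true',
          ← Bool.not_eq_true, List.contains_iff_mem] at this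
        refine (this.2 m' hmm1').resolve_right fun hcon => hcon ?_
        have hconj : φ (mconj m' 384) = φ m * φ 384 ^ k * (φ m)⁻¹ := by rw [← hk, ← hc]; group
        rcases hwk k with e | e | e <;> rw [e] at hconj
        · refine absurd (D.data.inj _ (mconj_lt hl' (by norm_num)) 0 (by norm_num) ?_) hne'
          rw [hconj, D.data.one]; group
        · rw [← D.data.conj hl (by norm_num)] at hconj
          simp [D.data.inj _ (mconj_lt hl' (by norm_num)) _ (mconj_lt hl (by norm_num)) hconj]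
        · rw [← D.data.conj hl (by norm_num)] at hconj
          simp [D.data.inj _ (mconj_lt hl' (by norm_num)) _ (mconj_lt hl (by norm_num)) hconj]
      subst hkey
      obtain rfl : s = s' := mul_left_cancel (mul_right_cancel h')
      rfl
    · obtain ⟨s, hs⟩ : ∃ s, g * y * g⁻¹ = s := ⟨_, rfl⟩
      rw [hs] at hg
      obtain ⟨k, hk⟩ : ∃ k, g⁻¹ = k := ⟨_, rfl⟩
      have hye : y = k * s * k⁻¹ := by rw [← hk, ← hs]; group
      obtain ⟨u, hu⟩ : ∃ u, k⁻¹ * z * k = u := ⟨_, rfl⟩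
      have hus : u * s * u⁻¹ = s⁻¹ := by
        rw [hye, conj_inv] at hy
        rw [← hu, show k⁻¹ * z * k * s * (k⁻¹ * z * k)⁻¹ = k⁻¹ * (z * (k * s * k⁻¹) * z⁻¹) * k by group, hy]
        group
      have huu : u * u = 1 := by
        rw [← hu, show k⁻¹ * z * k * (k⁻¹ * z * k) = k⁻¹ * (z * z) * k by group, D.data.zz]; group
      have hcent : ∀ a ∈ O ⊓ Subgroup.centralizer ({s} : Set G), u * a * u⁻¹ ∈ O := fun a ha => by
        have hc : Commute (u * a * u⁻¹) s⁻¹ := by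
          rw [← hus]
          exact (Commute.conj_iff u).2 (Subgroup.mem_centralizer_singleton_iff.1 ha.2)
        have := Subgroup.mem_centralizer_singleton_iff.2 (inv_inv s ▸ hc.inv_right).eq
        rw [W.u_cent D hg] at this
        exact this.1
      -- `u` fixes the line of `φ 384`
      obtain ⟨a, ha, b, hb, hab⟩ := W.u_noncomm D hg
      obtain ⟨i, hi⟩ := W.core.comm D ha.1 hb.1
      obtain ⟨j, hj⟩ := W.core.comm D (hcent a ha) (hcent b hb)
      have hij : u * φ 384 ^ i * u⁻¹ = φ 384 ^ j := by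
        apply mul_left_cancel (a := u * b * u⁻¹ * (u * a * u⁻¹))
        rw [← hj, show u * b * u⁻¹ * (u * a * u⁻¹) * (u * φ 384 ^ i * u⁻¹) = u * (b * a * φ 384 ^ i) * u⁻¹ by group,
          ← hi]
        group
      have hi0 : i % 3 ≠ 0 := fun h => hab (by rw [hi, pow_eq_pow_mod i hw3, h, pow_zero, mul_one])
      have huw : u * φ 384 * u⁻¹ = φ 384 ^ (j * i) := by
        rw [pow_mul, ← hij, conj_pow, ← pow_mul, pow_eq_pow_mod (i * i) hw3]
        have h1 : i * i % 3 = 1 := by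
          rw [Nat.mul_mod]
          rcases (show i % 3 = 1 ∨ i % 3 = 2 by omega) with h | h <;> rw [h]
        rw [h1, pow_one]
      have hwu : u * φ 384 * u⁻¹ = φ 384 := by
        rcases hwk (j * i) with e | e | e <;> rw [e] at huw
        · exact absurd (conj_eq_one_iff.1 huw) D.w_ne
        · exact huw
        · refine (W.not_real D huu (huw.trans ?_)).elim
          refine (inv_eq_of_mul_eq_one_right ?_).symm
          rw [← D.data.mul _ (by norm_num) _ (by norm_num), show mmul 384 768 = 0 by decide +kernel, D.data.one]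
      obtain ⟨w', hw'⟩ : ∃ w', k * φ 384 * k⁻¹ = w' := ⟨_, rfl⟩
      have hw'z : w' * z = z * w' := by
        refine (mul_inv_eq_iff_eq_mul.1 ?_).symm
        rw [← hw', show z * (k * φ 384 * k⁻¹) * z⁻¹ = k * (k⁻¹ * z * k * φ 384 * (k⁻¹ * z * k)⁻¹) * k⁻¹ by group,
          hu, hwu]
      obtain ⟨h, hh, hhe⟩ := (D.data.cent _).1 hw'z
      have h3 : mcube h = 0 := D.data.inj _ (mcube_lt hh) 0 (by norm_num) (by
        rw [D.data.cube_eq hh, hhe, ← hw', conj_pow, hw3, D.data.one]; group)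
      have h0 : h ≠ 0 := fun e0 => by
        rw [e0, D.data.one, eq_comm, ← hw', conj_eq_one_iff] at hhe
        exact D.w_ne hhe
      have hl := of_range_all three_lines.1 hh
      simp only [h3, bne_self_eq_false, Bool.false_or, Bool.or_eq_true, beq_iff_eq, h0, false_or, List.any_eq_true,
        List.mem_range, List.contains_iff_mem] at hl
      rcases hl with ⟨m, hmm, hml⟩ | ⟨m, hml, hdiag⟩
      swap
      · exfalso
        obtain ⟨p, hp⟩ : ∃ p, mconj m h = p := ⟨_, rfl⟩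
        rw [hp] at hdiag
        obtain ⟨v, hv, hvp⟩ : ∃ v ∈ [1, 2, 3, 6], φ p = θ v := by
          obtain ⟨t2, t6⟩ := D.theta_two
          have e6 : φ 784 = θ 6 := by
            rw [t6, D.t3]
            refine (inv_eq_of_mul_eq_one_right ?_).symm
            rw [← D.data.mul _ (by norm_num) _ (by norm_num), show mmul 416 784 = 0 by decide +kernel, D.data.one]
          have e1 : (φ 400)⁻¹ = φ 800 := inv_eq_of_mul_eq_one_right (by
            rw [← D.data.mul _ (by norm_num) _ (by norm_num), show mmul 400 800 = 0 by decide +kernel, D.data.one])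
          simp only [List.mem_cons, List.not_mem_nil, or_false] at hdiag
          rcases hdiag with rfl | rfl | rfl | rfl
          · rcases D.t1 with t | t
            · exact ⟨1, by simp, t.symm⟩
            · exact ⟨2, by simp, by rw [t2, t, ← e1, inv_inv]⟩
          · rcases D.t1 with t | t
            · exact ⟨2, by simp, by rw [t2, t, e1]⟩
            · exact ⟨1, by simp, t.symm⟩
          · exact ⟨3, by simp, D.t3.symm⟩
          · exact ⟨6, by simp, e6⟩
        have hv81 : v < 81 := by simp at hv; omega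
        have hd := D.card_diag_cent hv81 ⟨lone, lone_mem, by rwa [lapp_one hv81]⟩
        rw [← hvp, ← hp, D.data.conj hml hh, hhe, card_cent_conj, ← hw', card_cent_conj, W.cardX] at hd
        norm_num at hd
      obtain ⟨hml', -⟩ := hm m hmm
      obtain ⟨k', hk'⟩ : ∃ k', (φ m)⁻¹ * k = k' := ⟨_, rfl⟩
      have hk'w : k' * φ 384 * k'⁻¹ = φ 384 ∨ k' * φ 384 * k'⁻¹ = φ 768 := by
        have e1 : k' * φ 384 * k'⁻¹ = (φ m)⁻¹ * φ h * φ m := by rw [← hk', hhe, ← hw']; group
        rcases hml with e | e <;> rw [e, D.data.conj hml' (by norm_num)] at e1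
        · left; rw [e1]; group
        · right; rw [e1]; group
      have hys : y = φ m * (k' * s * k'⁻¹) * (φ m)⁻¹ := by rw [hye, ← hk']; group
      have hO : k' * s * k'⁻¹ ∈ O := by
        rcases hk'w with e | e
        · exact W.core.norm k' (mul_inv_eq_iff_eq_mul.1 e) s hg.1
        · obtain ⟨c, hc, hc'⟩ : ∃ c < 1152, mconj c 384 = 768 := by simpa using three_lines.2.1
          have e768 : φ 768 = (φ 384)⁻¹ := (inv_eq_of_mul_eq_one_right (by
            rw [← D.data.mul _ (by norm_num) _ (by norm_num), show mmul 384 768 = 0 by decide +kernel,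
              D.data.one])).symm
          have hcw : φ c * φ 384 * (φ c)⁻¹ = (φ 384)⁻¹ := by
            rw [← D.data.conj hc (by norm_num), hc', e768]
          have hcom : φ c * k' * φ 384 = φ 384 * (φ c * k') := by
            refine mul_inv_eq_iff_eq_mul.1 ?_
            rw [show φ c * k' * φ 384 * (φ c * k')⁻¹ = φ c * (k' * φ 384 * k'⁻¹) * (φ c)⁻¹ by group, e, e768,
              ← conj_inv, hcw, inv_inv]
          have h1 := W.core.norm _ hcom s hg.1
          have h2 := W.conj_norm D (h := (φ c)⁻¹) ((show Commute (φ c) z from D.data.comm_z hc).inv_left).eq (Or.inr (by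
            rw [inv_inv, show (φ c)⁻¹ * φ 384 * φ c = (φ c)⁻¹ * (φ 384)⁻¹⁻¹ * φ c by rw [inv_inv]]
            nth_rw 1 [← hcw]
            group)) h1
          rwa [show (φ c)⁻¹ * (φ c * k' * s * (φ c * k')⁻¹) * (φ c)⁻¹⁻¹ = k' * s * k'⁻¹ by group] at h2
      have hun : Untyped z φ B O (k' * s * k'⁻¹) := by
        refine ⟨hO, (hinvy hml').1 (hys ▸ hy), fun h0 _ _ => ?_⟩
        rw [show h0 * (k' * s * k'⁻¹) * h0⁻¹ = h0 * k' * s * (h0 * k')⁻¹ by group]
        exact W.u_not_B D hg _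
      exact ⟨(⟨m, List.mem_toFinset.2 hmm⟩, ⟨_, hun⟩), Subtype.ext hys.symm⟩
  rw [← Nat.card_eq_of_bijective F hF, Nat.card_prod, Nat.card_eq_finsetCard, W.untyped_card D,
    List.toFinset_card_of_nodup mList_ok.2.2.2, mList_ok.2.2.1]

/-- An inverted element of order three is conjugate to a diagonal or to an untyped element. -/
theorem WData.inverted_cases (W : WData z φ B θ O vw) (D : Base z φ B θ e e') {y : G} (h3 : y ^ 3 = 1) (h1 : y ≠ 1)
    (hy : z * y * z⁻¹ = y⁻¹) :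
    IsConj (θ 1) y ∨ IsConj (θ 3) y ∨ ∃ g, Untyped z φ B O (g * y * g⁻¹) := by
  obtain ⟨g, hg | hg⟩ := W.three_cases D h3
  swap
  · exact Or.inr (Or.inr ⟨g, hg⟩)
  obtain ⟨v, hv, hve⟩ := (D.coord.mem _).1 hg
  have hv0 : v ≠ 0 := fun e0 => by
    rw [e0, D.coord.zero, eq_comm, conj_eq_one_iff] at hve
    exact h1 hve
  by_cases hd : IsDiag v
  · obtain ⟨L, hL, hu⟩ := hd
    obtain ⟨k, hk⟩ := D.exists_act hL
    have hc : IsConj (θ (lapp L v)) y := (isConj_iff.2 ⟨k * g, by rw [← hk v hv, hve]; group⟩).symm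
    obtain ⟨θ', e₁, e₂, D'⟩ := D.exists_twin
    have h36 : IsConj (θ 3) (θ 3)⁻¹ := by
      have h := D'.one_real
      rcases D'.t1 with t | t <;> replace t : θ' 1 = φ _ := t <;> rw [t] at h
      · rwa [show twist 400 = 416 by decide +kernel, ← D.t3] at h
      · rw [one_maps.2.2.2.1] at h
        have e784 : φ 784 = (φ 416)⁻¹ := (inv_eq_of_mul_eq_one_right (by
            rw [← D.data.mul _ (by norm_num) _ (by norm_num), show mmul 416 784 = 0 by decide +kernel,
              D.data.one])).symm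
        rw [e784, ← D.t3, inv_inv] at h
        exact h.symm
    simp only [List.mem_cons, List.not_mem_nil, or_false] at hu
    rcases hu with h | h | h | h <;> rw [h] at hc
    · exact Or.inl hc
    · exact Or.inl ((D.theta_two.1.symm ▸ D.one_real).trans hc)
    · exact Or.inr (Or.inl hc)
    · exact Or.inr (Or.inl ((D.theta_two.2.symm ▸ h36).trans hc))
  · obtain ⟨k, hk⟩ := D.not_diag_conj hv hv0 hd
    obtain ⟨p, hp⟩ : ∃ p, g⁻¹ * k = p := ⟨_, rfl⟩
    have hyp : y = p * φ 384 * p⁻¹ := by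
      rw [← hp, show g⁻¹ * k * φ 384 * (g⁻¹ * k)⁻¹ = g⁻¹ * (k * φ 384 * k⁻¹) * g by group, hk, hve]; group
    rw [hyp, conj_inv] at hy
    refine (W.not_real D (u := p⁻¹ * z * p) ?_ ?_).elim
    · rw [show p⁻¹ * z * p * (p⁻¹ * z * p) = p⁻¹ * (z * z) * p by group, D.data.zz]; group
    · rw [show p⁻¹ * z * p * φ 384 * (p⁻¹ * z * p)⁻¹ = p⁻¹ * (z * (p * φ 384 * p⁻¹) * z⁻¹) * p by group, hy]; group

/-- There are 512 elements of order three inverted by `z`. -/
theorem WData.three_count (W : WData z φ B θ O vw) (D : Base z φ B θ e e') :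
    Nat.card {y : G // z * y * z⁻¹ = y⁻¹ ∧ y ^ 3 = 1 ∧ y ≠ 1} = 512 := by
  classical
  haveI := Fintype.ofFinite G
  obtain ⟨θ', e₁, e₂, D'⟩ := D.exists_twin
  have h3' : θ' 1 = θ 3 ∨ θ' 1 = (θ 3)⁻¹ := by
    rcases D'.t1 with t | t
    · left; rw [t, show twist 400 = 416 by decide +kernel, D.t3]
    · right
      rw [t, one_maps.2.2.2.1, D.t3]
      refine (inv_eq_of_mul_eq_one_right ?_).symm
      rw [← D.data.mul _ (by norm_num) _ (by norm_num), show mmul 416 784 = 0 by decide +kernel, D.data.one]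
  have h3c : IsConj (θ' 1) (θ 3) := by
    rcases h3' with e0 | e0
    · rw [e0]
    · rw [show θ 3 = (θ' 1)⁻¹ by rw [e0, inv_inv]]
      exact D'.one_real
  let p1 : G → Prop := fun y => IsConj (θ 1) y ∧ z * y * z⁻¹ = y⁻¹
  let p3 : G → Prop := fun y => IsConj (θ' 1) y ∧ z * y * z⁻¹ = y⁻¹
  let pu : G → Prop := fun y => z * y * z⁻¹ = y⁻¹ ∧ ∃ g, Untyped z φ B O (g * y * g⁻¹)
  have hB : ∀ v < 81, v ≠ 0 → ∀ {y : G}, IsConj (θ v) y → y ^ 3 = 1 ∧ y ≠ 1 ∧ ∀ g, ¬ Untyped z φ B O (g * y * g⁻¹) := by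
    intro v hv hv0 y hc
    obtain ⟨k, rfl⟩ := isConj_iff.1 hc
    refine ⟨by rw [conj_pow, D.B_cube (D.mem_ne hv).1]; group, fun e0 => (D.mem_ne hv).2 hv0 (conj_eq_one_iff.1 e0),
      fun g hg => W.u_not_B D hg (g * k)⁻¹ ?_⟩
    rw [show (g * k)⁻¹ * (g * (k * θ v * k⁻¹) * g⁻¹) * (g * k)⁻¹⁻¹ = θ v by group]
    exact (D.mem_ne hv).1
  have hsplit : ∀ y, (z * y * z⁻¹ = y⁻¹ ∧ y ^ 3 = 1 ∧ y ≠ 1) ↔ p1 y ∨ p3 y ∨ pu y := by
    intro y
    refine ⟨fun ⟨h, h3, h1⟩ => ?_, ?_⟩
    · rcases W.inverted_cases D h3 h1 h with c | c | c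
      · exact Or.inl ⟨c, h⟩
      · exact Or.inr (Or.inl ⟨h3c.trans c, h⟩)
      · exact Or.inr (Or.inr ⟨h, c⟩)
    · rintro (⟨c, h⟩ | ⟨c, h⟩ | ⟨h, g, hg⟩)
      · exact ⟨h, (hB 1 (by norm_num) (by norm_num) c).1, (hB 1 (by norm_num) (by norm_num) c).2.1⟩
      · have := hB 3 (by norm_num) (by norm_num) (h3c.symm.trans c)
        exact ⟨h, this.1, this.2.1⟩
      · refine ⟨h, ?_, fun e0 => ?_⟩
        · have := W.cube _ hg.1
          rw [conj_pow] at this
          exact conj_eq_one_iff.1 this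
        · refine W.u_not_B D hg 1 ?_
          rw [e0]
          simp
  rw [Nat.card_congr (Equiv.subtypeEquivRight hsplit), Nat.card_eq_fintype_card, Fintype.card_subtype,
    Finset.filter_or, Finset.filter_or, Finset.card_union_of_disjoint, Finset.card_union_of_disjoint]
  · have c1 := D.diag_count
    have c3 := D'.diag_count
    have cu := W.untyped_count D
    rw [Nat.card_eq_fintype_card, Fintype.card_subtype] at c1 c3 cu
    show (Finset.univ.filter p1).card + ((Finset.univ.filter p3).card + (Finset.univ.filter pu).card) = 512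
    simp only [p1, p3, pu]
    omega
  · rw [Finset.disjoint_filter]
    rintro y - ⟨c, -⟩ ⟨-, g, hg⟩
    exact (hB 3 (by norm_num) (by norm_num) (h3c.symm.trans c)).2.2 g hg
  · rw [Finset.disjoint_union_right, Finset.disjoint_filter, Finset.disjoint_filter]
    refine ⟨?_, ?_⟩
    · rintro y - ⟨c, -⟩ ⟨c', -⟩
      exact D.one_not_three (c.trans (c'.symm.trans h3c))
    · rintro y - ⟨c, -⟩ ⟨-, g, hg⟩
      exact (hB 1 (by norm_num) (by norm_num) c).2.2 g hg

/-- An inverted element whose odd order is divisible by three has order three. -/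
theorem WData.inverted_three (W : WData z φ B θ O vw) (D : Base z φ B θ e e') {y : G} (hy : z * y * z⁻¹ = y⁻¹)
    (hodd : Odd (orderOf y)) (h3 : 3 ∣ orderOf y) : y ^ 3 = 1 := by
  obtain ⟨m, hm⟩ := h3
  have hm0 : 0 < m := by have := orderOf_pos y; omega
  have hym : orderOf (y ^ m) = 3 := by
    rw [orderOf_pow_of_dvd hm0.ne' ⟨3, by rw [hm, mul_comm]⟩, hm, Nat.mul_div_cancel _ hm0]
  have hym3 : (y ^ m) ^ 3 = 1 := by rw [← hym, pow_orderOf_eq_one]
  have hym1 : y ^ m ≠ 1 := fun e0 => by rw [e0, orderOf_one] at hym; omega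
  have hcen : orderOf y ∣ 3 ^ 6 := by
    have hmem : y ∈ Subgroup.centralizer ({y ^ m} : Set G) :=
      Subgroup.mem_centralizer_singleton_iff.2 ((Commute.refl y).pow_right m).eq
    have := (Subgroup.orderOf_dvd_natCard _ hmem).trans (W.three_cent D hym3 hym1)
    exact ((Nat.Coprime.pow_left 3 (Nat.coprime_two_left.2 hodd)).symm).dvd_of_dvd_mul_left this
  -- descending to an element of order nine
  by_contra hno
  obtain ⟨a, -, ha⟩ := (Nat.dvd_prime_pow Nat.prime_three).1 hcen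
  have ha2 : 2 ≤ a := by
    by_contra h
    refine hno (orderOf_dvd_iff_pow_eq_one.1 (ha ▸ ?_))
    interval_cases a <;> norm_num
  obtain ⟨q, hq⟩ : ∃ q, y ^ 3 ^ (a - 2) = q := ⟨_, rfl⟩
  have hq9 : orderOf q = 9 := by
    rw [← hq, orderOf_pow_of_dvd (by positivity) (ha ▸ pow_dvd_pow 3 (by omega)), ha, Nat.pow_div (by omega)
      (by norm_num), show a - (a - 2) = 2 by omega]
  have hqi : z * q * z⁻¹ = q⁻¹ := by rw [← hq, ← conj_pow, hy, inv_pow]
  have hq3 : (q ^ 3) ^ 3 = 1 := by rw [← pow_mul, show 3 * 3 = 9 from rfl, ← hq9, pow_orderOf_eq_one]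
  have hq31 : q ^ 3 ≠ 1 := fun e0 => by
    have := orderOf_dvd_iff_pow_eq_one.2 e0
    rw [hq9] at this
    norm_num at this
  obtain ⟨θ', e₁, e₂, D'⟩ := D.exists_twin
  rcases W.inverted_cases D hq3 hq31 (by rw [← conj_pow, hqi, inv_pow]) with c | c | ⟨g, hg⟩
  · obtain ⟨g, hg⟩ := isConj_iff.1 c
    exact D.no_nine (y := g⁻¹ * q * g) (by
      rw [show g⁻¹ * q * g = g⁻¹ * q * g⁻¹⁻¹ by group, conj_pow, ← hg]; group)
  · obtain ⟨g, hg⟩ := isConj_iff.1 c
    have hk : (g⁻¹ * q * g) ^ 3 = θ 3 := by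
      rw [show g⁻¹ * q * g = g⁻¹ * q * g⁻¹⁻¹ by group, conj_pow, ← hg]; group
    rcases D'.t1 with t | t
    · exact D'.no_nine (y := g⁻¹ * q * g) (by rw [hk, t, show twist 400 = 416 by decide +kernel, D.t3])
    · refine D'.no_nine (y := (g⁻¹ * q * g)⁻¹) ?_
      rw [inv_pow, hk, t, one_maps.2.2.2.1, D.t3]
      refine inv_eq_of_mul_eq_one_right ?_
      rw [← D.data.mul _ (by norm_num) _ (by norm_num), show mmul 416 784 = 0 by decide +kernel, D.data.one]
  · have hgq : Commute (g * q * g⁻¹) (g * q ^ 3 * g⁻¹) := (Commute.conj_iff g).2 ((Commute.refl q).pow_right 3)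
    have := Subgroup.mem_centralizer_singleton_iff.2 hgq.eq
    rw [W.u_cent D hg] at this
    have h1 := W.cube _ this.1
    rw [conj_pow] at h1
    exact hq31 (conj_eq_one_iff.1 h1)

end CfsgU43Type
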