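import Cfsg.Agent.Lib.U43Type.FusionA

/-!
Groups of U₄(3) type: an element of order three centralising a diagonal element and permuting a four-group.
-/

set_option autoImplicit false
set_option maxRecDepth 100000
set_option linter.unusedSectionVars false

namespace CfsgU43Type

variable {G : Type*} [Group G] {z : G} {φ : ℕ → G}

/-- The line through `z` and the involution outside `Q` is seen in the same way from both points. -/
theorem Data.exists_eight (D : Data z φ) : ∃ g : G, FixA φ g ∧ g * φ 1 * g⁻¹ = z ∧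
    ∃ p ∈ eightList, g * z * g⁻¹ = φ p := by
  classical
  obtain ⟨k₀, hk₀, hk₀z⟩ := D.trans_A (p := 1) (by simp [aList]) (by norm_num)
  obtain ⟨g, hgdef⟩ : ∃ g, k₀⁻¹ = g := ⟨_, rfl⟩
  have hg : FixA φ g := hgdef ▸ hk₀.inv D
  have hg1 : g * φ 1 * g⁻¹ = z := by rw [← hgdef, ← hk₀z]; group
  obtain ⟨p, hp, hpe⟩ := hg 48 (by simp [aList])
  rw [D.zc] at hpe
  have hinj : ∀ (w : G) a b, a < 1152 → b < 1152 → w * φ a * w⁻¹ = w * φ b * w⁻¹ → a = b := fun w a b ha hb e =>
    D.inj a ha b hb (mul_left_cancel (mul_right_cancel e))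
  have hp48 : p ≠ 48 := by
    rintro rfl
    rw [D.zc] at hpe
    exact absurd (hinj g 48 1 (by norm_num) (by norm_num) (by rw [D.zc, hpe, hg1])) (by norm_num)
  have hp0 : p ≠ 0 := fun e => by
    rw [e, D.one, conj_eq_one_iff] at hpe
    exact D.z_ne hpe
  refine ⟨g, hg, hg1, p, ?_, hpe⟩
  have hs := of_all aList_split.1 hp
  simp only [Bool.or_eq_true, beq_iff_eq, List.contains_iff_mem, hp0, hp48, false_or] at hs
  rcases hs with hsix | h
  swap
  · exact h
  exfalso
  -- counting the flags of the two kinds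
  obtain ⟨S, hSdef⟩ : ∃ S : Finset ℕ, (aList.filter (fun a => a != 0)).toFinset = S := ⟨_, rfl⟩
  have hS : ∀ a, a ∈ S ↔ a ∈ aList ∧ a ≠ 0 := fun a => by
    rw [← hSdef, List.mem_toFinset, List.mem_filter, bne_iff_ne]
  let K : ℕ → G := fun a =>
    if h : a ∈ aList ∧ a ≠ 0 then Classical.choose (D.trans_A h.1 h.2) else 1
  have hK : ∀ a ∈ S, FixA φ (K a) ∧ K a * z * (K a)⁻¹ = φ a := fun a ha => by
    simp only [K, dif_pos ((hS a).1 ha)]
    exact Classical.choose_spec (D.trans_A ((hS a).1 ha).1 ((hS a).1 ha).2)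
  have hI : ∀ i ∈ eightList, i ∈ aList ∧ i < 1152 ∧ i ≠ 0 ∧ i ≠ 48 := fun i hi => by
    have := of_all aList_split.2.2.1 hi
    simp only [Bool.and_eq_true, Bool.not_eq_true', bne_iff_ne, List.contains_iff_mem] at this
    exact ⟨this.1.1.1, aList_lt this.1.1.1, this.2, this.1.2⟩
  have main : ∀ a ∈ S, ∀ i ∈ eightList, ∃ b ∈ S, ∃ j ∈ sixList,
      K a * φ i * (K a)⁻¹ = φ b ∧ (K b)⁻¹ * φ a * K b = φ j := by
    intro a ha i hi
    obtain ⟨hia, hil, hi0, -⟩ := hI i hi
    obtain ⟨b, hb, hbe⟩ := (hK a ha).1 i hia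
    have hbS : b ∈ S := (hS b).2 ⟨hb, fun e => hi0 (by
      rw [e, D.one, conj_eq_one_iff, ← D.one] at hbe
      exact D.inj i hil 0 (by norm_num) hbe)⟩
    refine ⟨b, hbS, ?_⟩
    have := of_all parts_trans.2 hi
    simp only [List.any_eq_true, List.mem_range, Bool.and_eq_true, beq_iff_eq] at this
    obtain ⟨h, hh, hhe, hf⟩ := this
    obtain ⟨q, hq⟩ : ∃ q, (K b)⁻¹ * (K a * φ h) * g⁻¹ = q := ⟨_, rfl⟩
    have hqA : FixA φ q := hq ▸ (((hK b hbS).1.inv D).mul ((hK a ha).1.mul (D.fixA_of_code hh hf))).mul (hg.inv D)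
    have hqz : q * z = z * q := by
      rw [← mul_inv_eq_iff_eq_mul, ← hq,
        show (K b)⁻¹ * (K a * φ h) * g⁻¹ * z * ((K b)⁻¹ * (K a * φ h) * g⁻¹)⁻¹ =
          (K b)⁻¹ * (K a * (φ h * (g⁻¹ * z * g) * (φ h)⁻¹) * (K a)⁻¹) * K b by group,
        show g⁻¹ * z * g = φ 1 by rw [← hg1]; group, ← D.conj hh (by norm_num), hhe, hbe, ← (hK b hbS).2]
      group
    obtain ⟨m, hm, hme⟩ := (D.cent q).1 hqz
    have hf' := D.fixes_of_fixA hm (hme ▸ hqA)
    have hj : mconj m p ∈ sixList := by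
      have := of_range_all fixes_six hm
      simp only [hf', Bool.not_true, Bool.false_or, List.all_eq_true, List.contains_iff_mem] at this
      exact this p hsix
    refine ⟨mconj m p, hj, hbe, ?_⟩
    rw [D.conj hm (aList_lt hp), hme, ← hpe, ← hq, ← (hK a ha).2]
    have : φ h * z * (φ h)⁻¹ = z := by rw [D.comm_z hh, mul_inv_cancel_right]
    conv_lhs => rw [← this]
    group
  choose B hB J hJ hBe hJe using main
  have hcard : (S ×ˢ eightList.toFinset).card ≤ (S ×ˢ sixList.toFinset).card := by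
    refine Finset.card_le_card_of_injOn
      (fun x => if h : x.1 ∈ S ∧ x.2 ∈ eightList then (B x.1 h.1 x.2 h.2, J x.1 h.1 x.2 h.2) else x) ?_ ?_
    · intro x hx
      rw [Finset.mem_coe, Finset.mem_product, List.mem_toFinset] at hx
      simp only [dif_pos hx, Finset.mem_coe, Finset.mem_product, List.mem_toFinset]
      exact ⟨hB _ _ _ _, hJ _ _ _ _⟩
    · intro x hx y hy e
      rw [Finset.mem_coe, Finset.mem_product, List.mem_toFinset] at hx hy
      simp only [dif_pos hx, dif_pos hy, Prod.mk.injEq] at e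
      have h1 := hJe x.1 hx.1 x.2 hx.2
      have h2 := hJe y.1 hy.1 y.2 hy.2
      rw [e.1, e.2, ← h2] at h1
      have ha : x.1 = y.1 := D.inj _ (aList_lt ((hS _).1 hx.1).1) _ (aList_lt ((hS _).1 hy.1).1)
        (mul_left_cancel (mul_right_cancel h1))
      have h3 := hBe x.1 hx.1 x.2 hx.2
      have h4 := hBe y.1 hy.1 y.2 hy.2
      rw [e.1, ← h4, ha] at h3
      exact Prod.ext ha (hinj _ _ _ (hI _ hx.2).2.1 (hI _ hy.2).2.1 h3)
  rw [Finset.card_product, Finset.card_product, ← hSdef] at hcard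
  revert hcard
  decide +kernel

/-- The product of `z` and the involution outside `Q`. -/
theorem Data.c49 (D : Data z φ) : φ 49 = z * φ 1 := by
  rw [← D.zc, ← D.mul _ (by norm_num) _ (by norm_num), show mmul 48 1 = 49 by decide +kernel]

/-- An element of order three centralising `φ 400`, fixing the first group and permuting the four-group cyclically. -/
theorem Data.exists_e (D : Data z φ) : ∃ e : G, e * φ 400 = φ 400 * e ∧ e * z * e⁻¹ = φ 1 ∧
    e * φ 1 * e⁻¹ = φ 49 ∧ e * φ 49 * e⁻¹ = z ∧ e * e * e = 1 ∧ FixA φ e ∧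
    Sends φ e [100, 200, 300] [100, 200, 300] := by
  obtain ⟨g, hg, hg1, p, hp, hpe⟩ := D.exists_eight
  have := of_all parts_trans.2 hp
  simp only [List.any_eq_true, List.mem_range, Bool.and_eq_true, beq_iff_eq] at this
  obtain ⟨h, hh, hhe, hf⟩ := this
  obtain ⟨g₁, hg₁⟩ : ∃ g₁, (φ h)⁻¹ * g = g₁ := ⟨_, rfl⟩
  have hg₁A : FixA φ g₁ := hg₁ ▸ ((D.fixA_of_code hh hf).inv D).mul hg
  have a1 : g₁ * φ 1 * g₁⁻¹ = z := by
    rw [← hg₁, show (φ h)⁻¹ * g * φ 1 * ((φ h)⁻¹ * g)⁻¹ = (φ h)⁻¹ * (g * φ 1 * g⁻¹) * φ h by group, hg1, mul_assoc,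
      ← D.comm_z hh, inv_mul_cancel_left]
  have az : g₁ * z * g₁⁻¹ = φ 1 := by
    rw [← hg₁, show (φ h)⁻¹ * g * z * ((φ h)⁻¹ * g)⁻¹ = (φ h)⁻¹ * (g * z * g⁻¹) * φ h by group, hpe, ← hhe,
      D.conj hh (by norm_num)]
    group
  obtain ⟨d, hd⟩ : ∃ d, φ 400 = d := ⟨_, rfl⟩
  obtain ⟨cd, -, -, -, -, d3, d2, d1⟩ := comm_d
  have hd1 : d * φ 1 = φ 1 * d := hd ▸ (D.commute_iff (by norm_num) (by norm_num)).2 d1
  have hdd : d * d = φ 800 := by rw [← hd, ← D.mul _ (by norm_num) _ (by norm_num), d2]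
  have hd3 : d * d * d = 1 := by
    rw [mul_assoc, ← hd, ← D.mul _ (by norm_num) _ (by norm_num),
      ← D.mul _ (by norm_num) _ (mmul_lt (by norm_num) (by norm_num)), d3, D.one]
  -- move the image of `d` back
  obtain ⟨m, hm, hme⟩ := (D.cent (g₁ * d * g₁⁻¹)).1 (by
    rw [← a1, show g₁ * d * g₁⁻¹ * (g₁ * φ 1 * g₁⁻¹) = g₁ * (d * φ 1) * g₁⁻¹ by group, hd1]; group)
  have hm1 : mmul m 1 = mmul 1 m := (D.commute_iff hm (by norm_num)).1 (by
    have e : d * z = z * d := hd ▸ D.comm_z (by norm_num)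
    rw [hme, ← az, show g₁ * d * g₁⁻¹ * (g₁ * z * g₁⁻¹) = g₁ * (d * z) * g₁⁻¹ by group, e]; group)
  have hm3 : mmul m (mmul m m) = 0 := D.inj _ (mmul_lt hm (mmul_lt hm hm)) 0 (by norm_num) (by
    rw [D.mul _ hm _ (mmul_lt hm hm), D.mul _ hm _ hm, hme, D.one,
      show g₁ * d * g₁⁻¹ * (g₁ * d * g₁⁻¹ * (g₁ * d * g₁⁻¹)) = g₁ * (d * d * d) * g₁⁻¹ by group, hd3]; group)
  have hm0 : m ≠ 0 := fun e => by
    rw [e, D.one, eq_comm, conj_eq_one_iff, ← hd, ← D.one] at hme
    exact absurd (D.inj 400 (by norm_num) 0 (by norm_num) hme) (by norm_num)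
  have := of_range_all centV.2 hm
  simp [hm1, hm3, hm0] at this
  obtain ⟨a, ha, hae⟩ := this.2
  obtain ⟨c, hc⟩ : ∃ c, φ a * g₁ = c := ⟨_, rfl⟩
  have hfixa : FixA φ (φ a) := fun q hq => ⟨q, hq, by
    have := of_all aList_group.1 ha
    simp only [Bool.and_eq_true, beq_iff_eq, List.all_eq_true] at this
    rw [(D.commute_iff (aList_lt ha) (aList_lt hq)).2 (this.2 q hq).1, mul_inv_cancel_right]⟩
  have hacom : ∀ q ∈ aList, φ a * φ q * (φ a)⁻¹ = φ q := fun q hq => by
    obtain ⟨r, -, e⟩ := hfixa q hq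
    have := of_all aList_group.1 ha
    simp only [Bool.and_eq_true, beq_iff_eq, List.all_eq_true] at this
    rw [(D.commute_iff (aList_lt ha) (aList_lt hq)).2 (this.2 q hq).1, mul_inv_cancel_right]
  have hcA : FixA φ c := hc ▸ hfixa.mul hg₁A
  have c1 : c * φ 1 * c⁻¹ = z := by
    rw [← hc, show φ a * g₁ * φ 1 * (φ a * g₁)⁻¹ = φ a * (g₁ * φ 1 * g₁⁻¹) * (φ a)⁻¹ by group, a1,
      ← D.zc, hacom 48 (by simp [aList])]
  have cz : c * z * c⁻¹ = φ 1 := by
    rw [← hc, show φ a * g₁ * z * (φ a * g₁)⁻¹ = φ a * (g₁ * z * g₁⁻¹) * (φ a)⁻¹ by group, az,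
      hacom 1 (by simp [aList])]
  have c49 : c * φ 49 * c⁻¹ = φ 49 := by
    rw [D.c49, show c * (z * φ 1) * c⁻¹ = (c * z * c⁻¹) * (c * φ 1 * c⁻¹) by group, cz, c1,
      D.comm_z (by norm_num)]
  have cdd : c * d * c⁻¹ = φ (mconj a m) := by
    rw [D.conj (aList_lt ha) hm, hme, ← hc]; group
  obtain ⟨t, ht⟩ : ∃ t, φ 2 = t := ⟨_, rfl⟩
  obtain ⟨-, s2, -, -, -, t1, t49, td, td'⟩ := shift_fixes
  have htA : FixA φ t := ht ▸ D.fixA_of_code (by norm_num) s2
  have tz : t * z * t⁻¹ = z := by rw [← ht, D.comm_z (by norm_num), mul_inv_cancel_right]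
  have tc : ∀ q r, q < 1152 → mconj 2 q = r → t * φ q * t⁻¹ = φ r := fun q r hq e => by
    rw [← ht, ← D.conj (by norm_num) hq, e]
  obtain ⟨e, he1, hez, heσ, he49, heA⟩ : ∃ e : G, e * d * e⁻¹ = d ∧ e * z * e⁻¹ = φ 1 ∧
      e * φ 1 * e⁻¹ = φ 49 ∧ e * φ 49 * e⁻¹ = z ∧ FixA φ e := by
    rcases hae with e | e <;> rw [e] at cdd
    · -- `c` centralises `d`
      rw [hd] at cdd
      have hb : ∀ q, c * (t * c * t⁻¹) * q * (c * (t * c * t⁻¹))⁻¹ =
          c * (t * (c * (t⁻¹ * q * t) * c⁻¹) * t⁻¹) * c⁻¹ := fun q => by group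
      have ti : ∀ q r, t * q * t⁻¹ = r → t⁻¹ * r * t = q := fun q r e => by rw [← e]; group
      refine ⟨(c * (t * c * t⁻¹))⁻¹, ?_, ?_, ?_, ?_, (hcA.mul ((htA.mul hcA).mul (htA.inv D))).inv D⟩
      · have h1 : c * (t * c * t⁻¹) * d * (c * (t * c * t⁻¹))⁻¹ = d := by
          rw [hb]
          have e1 : t⁻¹ * d * t = d * d := ti _ _ (by
            rw [show t * (d * d) * t⁻¹ = (t * d * t⁻¹) * (t * d * t⁻¹) by group, ← hd, tc 400 800 (by norm_num) td,
              ← D.mul _ (by norm_num) _ (by norm_num), show mmul 800 800 = 400 by decide +kernel])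
          rw [e1, show c * (d * d) * c⁻¹ = (c * d * c⁻¹) * (c * d * c⁻¹) by group, cdd, hdd,
            tc 800 400 (by norm_num) td', hd, cdd]
        conv_lhs => rw [← h1]
        group
      · have h1 : c * (t * c * t⁻¹) * φ 1 * (c * (t * c * t⁻¹))⁻¹ = z := by
          rw [hb, ti _ _ (tc 49 1 (by norm_num) t49), c49, tc 49 1 (by norm_num) t49, c1]
        conv_lhs => rw [← h1]
        group
      · have h1 : c * (t * c * t⁻¹) * φ 49 * (c * (t * c * t⁻¹))⁻¹ = φ 1 := by
          rw [hb, ti _ _ (tc 1 49 (by norm_num) t1), c1, tz, cz]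
        conv_lhs => rw [← h1]
        group
      · have h1 : c * (t * c * t⁻¹) * z * (c * (t * c * t⁻¹))⁻¹ = φ 49 := by
          rw [hb, ti _ _ tz, cz, tc 1 49 (by norm_num) t1, c49]
        conv_lhs => rw [← h1]
        group
    · -- `c` inverts `d`
      have hb : ∀ q, c * t * q * (c * t)⁻¹ = c * (t * q * t⁻¹) * c⁻¹ := fun q => by group
      refine ⟨c * t, ?_, ?_, ?_, ?_, hcA.mul htA⟩
      · rw [hb, ← hd, tc 400 800 (by norm_num) td, ← hdd,
          show c * (d * d) * c⁻¹ = (c * d * c⁻¹) * (c * d * c⁻¹) by group, cdd,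
          ← D.mul _ (by norm_num) _ (by norm_num), show mmul 800 800 = 400 by decide +kernel, hd]
      · rw [hb, tz, cz]
      · rw [hb, tc 1 49 (by norm_num) t1, c49]
      · rw [hb, tc 49 1 (by norm_num) t49, c1]
  have hed : e * d = d * e := mul_inv_eq_iff_eq_mul.1 he1
  refine ⟨e, by rw [hd]; exact hed, hez, heσ, he49, ?_⟩
  -- the order of `e`
  have cyc : ∀ q r s : G, e * q * e⁻¹ = r → e * r * e⁻¹ = s → e * s * e⁻¹ = q →
      e * e * e * q * (e * e * e)⁻¹ = q := fun q r s h1 h2 h3 => by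
    rw [show e * e * e * q * (e * e * e)⁻¹ = e * (e * (e * q * e⁻¹) * e⁻¹) * e⁻¹ by group, h1, h2, h3]
  obtain ⟨n, hn, hne⟩ := (D.cent (e * e * e)).1 (mul_inv_eq_iff_eq_mul.1 (cyc _ _ _ hez heσ he49))
  have hn1 : mmul n 1 = mmul 1 n := (D.commute_iff hn (by norm_num)).1 (hne ▸
    mul_inv_eq_iff_eq_mul.1 (cyc _ _ _ heσ he49 hez))
  have hn4 : mmul n 400 = mmul 400 n := (D.commute_iff hn (by norm_num)).1 (by
    rw [hne, hd]
    exact ((Commute.mul_left (show Commute e d from hed) (show Commute e d from hed)).mul_left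
      (show Commute e d from hed)).eq)
  have hfix : ((List.range 1152).all fun x => mmul x 1 != mmul 1 x || mmul x 400 != mmul 400 x ||
      [0, 1, 48, 49].any fun v => [0, 400, 800].any fun w => mmul v w == x) = true := by decide +kernel
  have := of_range_all hfix hn
  simp only [hn1, hn4, bne_self_eq_false, Bool.false_or, List.any_eq_true, beq_iff_eq] at this
  obtain ⟨v, hv, w, hw, hvw⟩ := this
  have hv' : v < 1152 ∧ w < 1152 := by
    simp only [List.mem_cons, List.not_mem_nil, or_false] at hv hw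
    omega
  have hvfix : e * φ v * e⁻¹ = φ v := by
    have e1 : φ v = e * e * e * (φ w)⁻¹ := by rw [← hne, ← hvw, D.mul _ hv'.1 _ hv'.2, mul_inv_cancel_right]
    have e2 : Commute e (φ w) := by
      simp only [List.mem_cons, List.not_mem_nil, or_false] at hw
      rcases hw with rfl | rfl | rfl
      · rw [D.one]; exact Commute.one_right _
      · rw [hd]; exact hed
      · rw [← hdd]; exact Commute.mul_right hed hed
    rw [e1]
    exact mul_inv_eq_iff_eq_mul.2 ((((Commute.refl e).mul_right (Commute.refl e)).mul_right (Commute.refl e)).mul_right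
      e2.inv_right).eq
  have hv0 : v = 0 := by
    simp only [List.mem_cons, List.not_mem_nil, or_false] at hv
    rcases hv with rfl | rfl | rfl | rfl
    · rfl
    · exact absurd (D.inj 49 (by norm_num) 1 (by norm_num) (heσ.symm.trans hvfix)) (by norm_num)
    · rw [D.zc, hez, ← D.zc] at hvfix
      exact absurd (D.inj 1 (by norm_num) 48 (by norm_num) hvfix) (by norm_num)
    · rw [he49, ← D.zc] at hvfix
      exact absurd (D.inj 48 (by norm_num) 49 (by norm_num) hvfix) (by norm_num)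
  have hone : mmul 0 w = w := by
    have := of_range_all one_ok hv'.2
    simp only [Bool.and_eq_true, beq_iff_eq] at this
    exact this.1
  rw [hv0, hone] at hvw
  subst hvw
  -- it acts as a power of `d` on the commutator group
  have hstab : ∀ u ∈ [100, 200, 300], ∃ u' ∈ [100, 200, 300], e * φ u * e⁻¹ = φ u' := by
    intro u hu
    have hcov : ([100, 200, 300].all fun v => aList.any fun a => mmul (mconj 400 a) a == v) = true := by
      decide +kernel
    have := of_all hcov hu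
    simp only [List.any_eq_true, beq_iff_eq] at this
    obtain ⟨b, hb, rfl⟩ := this
    obtain ⟨b', hb', hbe⟩ := heA b hb
    have hl := aList_lt hb
    have hl' := aList_lt hb'
    have e1 : e * φ (mmul (mconj 400 b) b) * e⁻¹ = φ (mmul (mconj 400 b') b') := by
      rw [D.mul _ (mconj_lt (by norm_num) hl) _ hl, D.mul _ (mconj_lt (by norm_num) hl') _ hl',
        D.conj (by norm_num) hl, D.conj (by norm_num) hl', hd, ← hbe]
      have e2 : e * d * e⁻¹ = d := mul_inv_eq_iff_eq_mul.2 hed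
      conv_rhs => rw [← e2]
      group
    have hm' := of_all cd hb'
    simp only [Bool.and_eq_true, List.contains_iff_mem] at hm'
    refine ⟨_, ?_, e1⟩
    rcases List.mem_cons.1 hm'.1 with h0 | h0
    · exfalso
      rw [h0, D.one, conj_eq_one_iff, ← D.one] at e1
      rw [D.inj _ (mmul_lt (mconj_lt (by norm_num) hl) hl) 0 (by norm_num) e1] at hu
      simp at hu
    · exact h0
  have dpow : ∀ k : ℕ, k < 3 → e * φ 100 * e⁻¹ = d ^ k * φ 100 * (d ^ k)⁻¹ →
      e * e * e * φ 100 * (e * e * e)⁻¹ = φ 100 := by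
    intro k _ hk
    have hck : Commute e (d ^ k) := (show Commute e d from hed).pow_right k
    have hd3' : (d ^ k) * (d ^ k) * (d ^ k) = 1 := by
      rw [← pow_add, ← pow_add, show k + k + k = 3 * k by ring, pow_mul, pow_succ, pow_two, hd3, one_pow]
    obtain ⟨w, hw⟩ : ∃ w, d ^ k = w := ⟨_, rfl⟩
    rw [hw] at hk hck hd3'
    have s1 : ∀ q, e * (w * q * w⁻¹) * e⁻¹ = w * (e * q * e⁻¹) * w⁻¹ := fun q => by
      calc e * (w * q * w⁻¹) * e⁻¹ = (e * w) * q * (e * w)⁻¹ := by group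
        _ = (w * e) * q * (w * e)⁻¹ := by rw [hck.eq]
        _ = w * (e * q * e⁻¹) * w⁻¹ := by group
    rw [show e * e * e * φ 100 * (e * e * e)⁻¹ = e * (e * (e * φ 100 * e⁻¹) * e⁻¹) * e⁻¹ by group, hk, s1, hk, s1, s1,
      hk, show w * (w * (w * φ 100 * w⁻¹) * w⁻¹) * w⁻¹ = (w * w * w) * φ 100 * (w * w * w)⁻¹ by group, hd3']
    group
  have hfix100 : e * e * e * φ 100 * (e * e * e)⁻¹ = φ 100 := by
    obtain ⟨u', hu', hue⟩ := hstab 100 (by simp)
    obtain ⟨d100, d200⟩ : ([100, 200, 300].all fun u =>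
        u == 100 || u == mconj 400 100 || u == mconj 400 (mconj 400 100)) = true ∧ mconj 400 100 < 1152 := by
      decide +kernel
    have := of_all d100 hu'
    simp only [Bool.or_eq_true, beq_iff_eq] at this
    rcases this with (rfl | rfl) | rfl
    · exact dpow 0 (by norm_num) (by rw [pow_zero, one_mul, inv_one, mul_one, hue])
    · exact dpow 1 (by norm_num) (by rw [pow_one, hue, D.conj (by norm_num) (by norm_num), hd])
    · exact dpow 2 (by norm_num) (by
        rw [hue, D.conj (by norm_num) d200, D.conj (by norm_num) (by norm_num), hd, pow_two]; group)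
  refine ⟨?_, heA, hstab⟩
  rw [← hne]
  simp only [List.mem_cons, List.not_mem_nil, or_false] at hw
  rcases hw with rfl | rfl | rfl
  · exact D.one
  all_goals
    exfalso
    rw [← hne, ← D.conj (by norm_num) (by norm_num)] at hfix100
    have := D.inj _ (mconj_lt (by norm_num) (by norm_num)) 100 (by norm_num) hfix100
    revert this
    decide +kernel

end CfsgU43Type
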