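import Cfsg.Agent.Lib.U43Type.Model
import Cfsg.Agent.Lib.U43Type.Frame

/-!
Groups of U₄(3) type: the centraliser of the central involution is the model, with a fusion of two involutions.
-/

set_option autoImplicit false
set_option maxRecDepth 100000
set_option linter.unusedSectionVars false

namespace CfsgU43Type

open Cfsg CfsgLargeExtra

variable {G : Type*} [Group G]

/-- Membership in the quaternion product, in the model. -/
def inQm (x : ℕ) : Bool := x % 4 == 0 && inQ (x / 4)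

/-- The centraliser of `z` with its coordinates, and an element exchanging `z` with the standard involution. -/
structure Data (z : G) (φ : ℕ → G) : Prop where
  z2 : orderOf z = 2
  mul : ∀ x < 1152, ∀ y < 1152, φ (mmul x y) = φ x * φ y
  inj : ∀ x < 1152, ∀ y < 1152, φ x = φ y → x = y
  cent : ∀ c : G, c * z = z * c ↔ ∃ x < 1152, φ x = c
  zc : φ 48 = z
  swap : ∃ g : G, g * z * g⁻¹ = φ 100 ∧ g * φ 100 * g⁻¹ = z ∧
    ∀ x < 1152, ∀ y < 1152, inQm x = true → inQm y = true → g * φ x * g⁻¹ = φ y → y ∈ [0, 48, 100, 148]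

variable {z : G} {f₁ f₂ : ℕ → G}

theorem Frame.qmem (F : Frame z f₁ f₂) {x : ℕ} (hx : inQ x = true) : ι f₁ f₂ x ∈ qSub F.two := ⟨x, hx, rfl⟩

/-- Centralising the generators of `K` gives an element of the centre of `Q`. -/
theorem Frame.cases_of_gens (F : Frame z f₁ f₂) {w : G}
    (hw : ∀ g ∈ kgens, w * ι f₁ f₂ g * w⁻¹ = ι f₁ f₂ g) : w = 1 ∨ w = z := by
  have hid : ∀ x ∈ kgens, kapp 0 x = x := by decide +kernel
  have hk : ∀ x < 288, kapp 0 x = x := by decide +kernel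
  have hA : Acts f₁ f₂ w 0 := acts_of_gens F.two (by norm_num)
    (by rw [hid 24 (by simp [kgens])]; exact hw 24 (by simp [kgens]))
    (by rw [hid 96 (by simp [kgens])]; exact hw 96 (by simp [kgens]))
    (by rw [hid 1 (by simp [kgens])]; exact hw 1 (by simp [kgens]))
    (by rw [hid 4 (by simp [kgens])]; exact hw 4 (by simp [kgens]))
  refine F.es.cen w ?_
  rintro _ ⟨x, hx, rfl⟩
  have := hA x (lt_of_inQ hx)
  rw [hk x (lt_of_inQ hx)] at this
  exact mul_inv_eq_iff_eq_mul.1 this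

theorem uList_mem {x : ℕ} (hx : inQ x = true) (hc : kmul x 25 = kmul 25 x) : x ∈ uList := by
  unfold uList
  rw [List.mem_filter]
  exact ⟨List.mem_range.2 (lt_of_inQ hx), by simp [hx, hc]⟩

theorem mem_uList {x : ℕ} (h : x ∈ uList) : inQ x = true ∧ kmul x 25 = kmul 25 x ∧ x < 288 := by
  unfold uList at h
  rw [List.mem_filter] at h
  simp only [Bool.and_eq_true, beq_iff_eq] at h
  exact ⟨h.2.1, h.2.2, lt_of_inQ h.2.1⟩

theorem kgens_lt {g : ℕ} (hg : g ∈ kgens) : g < 288 := by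
  simp only [kgens, List.mem_cons, List.not_mem_nil, or_false] at hg; omega

/-- A frame gives the lifts and the data. -/
theorem exists_data [Finite G] (F : Frame z f₁ f₂) (hz : orderOf z = 2) : ∃ φ : ℕ → G, Data z φ := by
  classical
  have h := F.two
  obtain ⟨q25, q24, q50, qa25, qb25, qab, -, k37, k37', i37⟩ := q_facts
  obtain ⟨-, -, -, -, i0, i12, i24, -, i25, i50⟩ := qList_closed
  have hzz : z * z = 1 := by rw [← sq, ← hz, pow_orderOf_eq_one]
  have zc : ∀ x < 288, ι f₁ f₂ x * z = z * ι f₁ f₂ x := F.central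
  obtain ⟨x, hxdef⟩ : ∃ x, ι f₁ f₂ 25 = x := ⟨_, rfl⟩
  obtain ⟨a, hadef⟩ : ∃ a, ι f₁ f₂ 24 = a := ⟨_, rfl⟩
  obtain ⟨b, hbdef⟩ : ∃ b, ι f₁ f₂ 50 = b := ⟨_, rfl⟩
  have mulQ : ∀ p q, p < 288 → q < 288 → ι f₁ f₂ (kmul p q) = ι f₁ f₂ p * ι f₁ f₂ q := fun p q hp hq => h.ι_mul hp hq
  have hxx : x * x = 1 := by rw [← hxdef, ← mulQ _ _ (by norm_num) (by norm_num), q25, h.ι_zero]
  have haa : a * a = z := by rw [← hadef, ← mulQ _ _ (by norm_num) (by norm_num), q24, h.ι_twelve]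
  have hbb : b * b = 1 := by rw [← hbdef, ← mulQ _ _ (by norm_num) (by norm_num), q50, h.ι_zero]
  have hax : a * x = x * a := by
    rw [← hadef, ← hxdef, ← mulQ _ _ (by norm_num) (by norm_num), qa25, mulQ _ _ (by norm_num) (by norm_num)]
  have hbx : b * x = x * b := by
    rw [← hbdef, ← hxdef, ← mulQ _ _ (by norm_num) (by norm_num), qb25, mulQ _ _ (by norm_num) (by norm_num)]
  have hab : a * b = z * (b * a) := by
    rw [← hadef, ← hbdef, ← h.ι_twelve, ← mulQ _ _ (by norm_num) (by norm_num),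
      ← mulQ _ _ (by norm_num) (by norm_num), ← mulQ _ _ (by norm_num) (kmul_lt (by norm_num) (by norm_num)), qab]
  have hxz : x ≠ z := fun e => absurd (h.ι_inj (x := 25) (y := 12) (by norm_num) (by norm_num)
    (hxdef.trans (e.trans h.ι_twelve.symm))) (by norm_num)
  have hx1 : x ≠ 1 := fun e => absurd (h.ι_inj (x := 25) (y := 0) (by norm_num) (by norm_num)
    (hxdef.trans (e.trans h.ι_zero.symm))) (by norm_num)
  have hxc : x * z = z * x := hxdef ▸ zc 25 (by norm_num)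
  have haz : a * z = z * a := hadef ▸ zc 24 (by norm_num)
  have hbz : b * z = z * b := hbdef ▸ zc 50 (by norm_num)
  have hxQ : x ∈ qSub h := hxdef ▸ F.qmem i25
  have haQ : a ∈ qSub h := hadef ▸ F.qmem i24
  have hbQ : b ∈ qSub h := hbdef ▸ F.qmem i50
  have hzQ : z ∈ qSub h := F.es.mem
  have hne_ab : a * b ≠ b * a := fun e => by
    rw [e] at hab
    exact F.es.ne (mul_eq_right.1 hab.symm)
  -- an element exchanging `z` and `x`
  obtain ⟨g₁, hg₁⟩ := F.fused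
  rw [hxdef] at hg₁
  have hzcj : z ∈ cj g₁ (qSub h) := F.es.symm_mem (g := g₁) (by rw [hg₁]; exact hxQ)
    fun _ => ⟨a, haQ, b, hbQ, by rw [hg₁]; exact hax, by rw [hg₁]; exact hbx, hne_ab⟩
  rw [mem_cj] at hzcj
  have hy1 : g₁⁻¹ * z * g₁ ≠ 1 := fun e => F.es.ne (by
    have := congrArg (fun t => g₁ * t * g₁⁻¹) e
    simpa [mul_assoc] using this)
  have hyz : g₁⁻¹ * z * g₁ ≠ z := fun e => hxz (by
    rw [← hg₁]
    nth_rw 1 [← e]
    group)
  obtain ⟨q', hq', hq'z, hq'y⟩ := F.es.swap hzcj hyz hy1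
  obtain ⟨q, hq, hqz, hqx⟩ := F.es.swap hxQ hxz hx1
  obtain ⟨s, hs⟩ : ∃ s, g₁ * q' * g₁⁻¹ = s := ⟨_, rfl⟩
  have hsx : s * x * s⁻¹ = x := by
    rw [← hs, ← hg₁, show g₁ * q' * g₁⁻¹ * (g₁ * z * g₁⁻¹) * (g₁ * q' * g₁⁻¹)⁻¹ = g₁ * (q' * z * q'⁻¹) * g₁⁻¹
      by group, hq'z]
  have hsz : s * z * s⁻¹ = z * x := by
    rw [← hs, show g₁ * q' * g₁⁻¹ * z * (g₁ * q' * g₁⁻¹)⁻¹ = g₁ * (q' * (g₁⁻¹ * z * g₁) * q'⁻¹) * g₁⁻¹ by group,
      hq'y, ← hg₁]
    group
  have hqz' : q⁻¹ * z * q = z := by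
    conv_lhs => rw [← hqz]
    group
  have hqx' : q⁻¹ * x * q = x * z := by
    have e : q * (x * z) * q⁻¹ = x := by
      rw [show q * (x * z) * q⁻¹ = (q * x * q⁻¹) * (q * z * q⁻¹) by group, hqx, hqz, mul_assoc, hzz, mul_one]
    conv_lhs => rw [← e]
    group
  obtain ⟨g, hgdef⟩ : ∃ g, q * s * q⁻¹ = g := ⟨_, rfl⟩
  have hgz : g * z * g⁻¹ = x := by
    rw [← hgdef, show q * s * q⁻¹ * z * (q * s * q⁻¹)⁻¹ = q * (s * (q⁻¹ * z * q) * s⁻¹) * q⁻¹ by group, hqz', hsz,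
      show q * (z * x) * q⁻¹ = (q * z * q⁻¹) * (q * x * q⁻¹) by group, hqz, hqx, hxc, ← mul_assoc, hzz, one_mul]
  have hgx : g * x * g⁻¹ = z := by
    rw [← hgdef, show q * s * q⁻¹ * x * (q * s * q⁻¹)⁻¹ = q * (s * (q⁻¹ * x * q) * s⁻¹) * q⁻¹ by group, hqx',
      show s * (x * z) * s⁻¹ = (s * x * s⁻¹) * (s * z * s⁻¹) by group, hsx, hsz,
      show x * (z * x) = z by rw [← mul_assoc, hxc, mul_assoc, hxx, mul_one], hqz]
  have gi1 : g⁻¹ * z * g = x := by
    conv_lhs => rw [← hgx]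
    group
  have gi2 : g⁻¹ * x * g = z := by
    conv_lhs => rw [← hgz]
    group
  -- the intersection
  have hzx : z * x ∈ qSub h := mul_mem hzQ hxQ
  have hES' : ES (cj g (qSub h)) x := by
    have e := F.es.cj g
    rwa [hgz] at e
  have hzQ' : z ∈ cj g (qSub h) := by
    have e := conj_mem_cj (g := g) hxQ
    rwa [hgx] at e
  have hxQ' : x ∈ cj g (qSub h) := hES'.mem
  have hinter : ∀ p, p ∈ qSub h → p ∈ cj g (qSub h) → p = 1 ∨ p = z ∨ p = x ∨ p = z * x := by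
    intro p hp hp'
    have hcard := F.small g (hgz.trans hxdef.symm)
    have hsub : ({1, z, x, z * x} : Set G) ⊆ (qSub h ⊓ cj g (qSub h) : Subgroup G) := by
      rintro t (rfl | rfl | rfl | rfl)
      exacts [one_mem _, ⟨hzQ, hzQ'⟩, ⟨hxQ, hxQ'⟩, ⟨hzx, mul_mem hzQ' hxQ'⟩]
    have h4 : ({1, z, x, z * x} : Set G).ncard = 4 := by
      have d1 : z * x ≠ 1 := fun e => hxz ((eq_inv_of_mul_eq_one_right e).trans (inv_eq_of_mul_eq_one_right hzz))
      rw [Set.ncard_insert_of_notMem, Set.ncard_insert_of_notMem, Set.ncard_pair]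
      · exact fun e => F.es.ne (mul_eq_right.1 e.symm)
      · simp only [Set.mem_insert_iff, Set.mem_singleton_iff, not_or]
        exact ⟨Ne.symm hxz, fun e => hx1 (mul_eq_left.1 e.symm)⟩
      · simp only [Set.mem_insert_iff, Set.mem_singleton_iff, not_or]
        exact ⟨Ne.symm F.es.ne, Ne.symm hx1, Ne.symm d1⟩
    have heq := Set.eq_of_subset_of_ncard_le hsub (by
      rw [h4, ← Nat.card_coe_set_eq]; exact hcard.le) (Set.toFinite _)
    have : p ∈ ({1, z, x, z * x} : Set G) := heq ▸ ⟨hp, hp'⟩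
    simpa using this
  have h148 : ι f₁ f₂ 37 = z * x := by
    rw [← h.ι_twelve, ← hxdef, ← mulQ _ _ (by norm_num) (by norm_num), k37']
  have hinter' : ∀ p, p < 288 → ι f₁ f₂ p ∈ qSub h → ι f₁ f₂ p ∈ cj g (qSub h) → p ∈ [0, 12, 25, 37] := by
    intro p hp hpQ hpQ'
    rcases hinter _ hpQ hpQ' with e | e | e | e
    · simp [h.ι_inj hp (by norm_num) (e.trans h.ι_zero.symm)]
    · simp [h.ι_inj hp (by norm_num) (e.trans h.ι_twelve.symm)]
    · simp [h.ι_inj hp (by norm_num) (e.trans hxdef.symm)]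
    · simp [h.ι_inj hp (by norm_num) (e.trans h148.symm)]
  -- the transported elements
  obtain ⟨u, hudef⟩ : ∃ u, g * a * g⁻¹ = u := ⟨_, rfl⟩
  obtain ⟨v, hvdef⟩ : ∃ v, g * b * g⁻¹ = v := ⟨_, rfl⟩
  have cjm : ∀ p q : G, g * (p * q) * g⁻¹ = (g * p * g⁻¹) * (g * q * g⁻¹) := fun p q => by group
  have huu : u * u = x := by rw [← hudef, ← cjm, haa, hgz]
  have hvv : v * v = 1 := by rw [← hvdef, ← cjm, hbb, mul_one, mul_inv_cancel]
  have huv : u * v = x * (v * u) := by rw [← hudef, ← hvdef, ← cjm, hab, cjm, cjm, hgz]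
  have cz : ∀ p, p * x = x * p → g * p * g⁻¹ * z = z * (g * p * g⁻¹) := fun p hp => by
    rw [← hgx, ← cjm, ← cjm, hp]
  have cx : ∀ p, p * z = z * p → g * p * g⁻¹ * x = x * (g * p * g⁻¹) := fun p hp => by
    rw [← hgz, ← cjm, ← cjm, hp]
  have huz : u * z = z * u := hudef ▸ cz a hax
  have hvz : v * z = z * v := hvdef ▸ cz b hbx
  have hux : u * x = x * u := hudef ▸ cx a haz
  have hvx : v * x = x * v := hvdef ▸ cx b hbz
  -- actions fixing `x` and outside `Q` are outer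
  have outer : ∀ w : G, w * z = z * w → w * x = x * w → w ∉ qSub h →
      ∀ P, P < 1152 → Acts f₁ f₂ w P → outerFix P = true := by
    intro w hwz hwx hwQ P hP hA
    unfold outerFix
    simp only [Bool.and_eq_true, beq_iff_eq, List.all_eq_true, List.any_eq_true, bne_iff_ne, ne_eq]
    refine ⟨h.ι_inj (kapp_lt' hP (by norm_num)) (by norm_num) ?_, fun k hk => ?_⟩
    · rw [← hA 25 (by norm_num), hxdef, hwx, mul_inv_cancel_right]
    · obtain ⟨hkQ, -, hk'⟩ := mem_uList hk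
      by_contra hall
      push Not at hall
      rcases F.cases_of_gens (w := (ι f₁ f₂ k)⁻¹ * w) fun e he => by
        have he' := kgens_lt he
        rw [show (ι f₁ f₂ k)⁻¹ * w * ι f₁ f₂ e * ((ι f₁ f₂ k)⁻¹ * w)⁻¹ =
          (ι f₁ f₂ k)⁻¹ * (w * ι f₁ f₂ e * w⁻¹) * ι f₁ f₂ k by group, hA e he', hall e he, h.ι_conj hk' he']
        group with e | e
      · exact hwQ ((inv_mul_eq_one.1 e) ▸ F.qmem hkQ)
      · exact hwQ ((inv_mul_eq_iff_eq_mul.1 e) ▸ mul_mem (F.qmem hkQ) hzQ)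
  -- elements of the transported four-group lie outside `Q`
  have notQ : ∀ p, p < 288 → inQ p = true → p ∉ [0, 12, 25, 37] → kmul p 25 = kmul 25 p →
      g * ι f₁ f₂ p * g⁻¹ ∉ qSub h := by
    intro p hp hpQ hpE hpx hmem
    have e1 : ι f₁ f₂ p ∈ [1, z, x, z * x] := by
      rcases hinter _ hmem (conj_mem_cj (F.qmem hpQ)) with e | e | e | e
      · simp [conj_eq_one_iff.1 e]
      · rw [show ι f₁ f₂ p = x from mul_left_cancel (mul_right_cancel (e.trans hgx.symm))]; simp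
      · rw [show ι f₁ f₂ p = z from mul_left_cancel (mul_right_cancel (e.trans hgz.symm))]; simp
      · rw [show ι f₁ f₂ p = x * z from mul_left_cancel (mul_right_cancel
          (e.trans (show z * x = g * (x * z) * g⁻¹ by rw [cjm, hgx, hgz])))]
        simp [hxc]
    simp only [List.mem_cons, List.not_mem_nil, or_false] at e1 hpE
    rcases e1 with e | e | e | e
    · exact hpE (Or.inl (h.ι_inj hp (by norm_num) (e.trans h.ι_zero.symm)))
    · exact hpE (Or.inr (Or.inl (h.ι_inj hp (by norm_num) (e.trans h.ι_twelve.symm))))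
    · exact hpE (Or.inr (Or.inr (Or.inl (h.ι_inj hp (by norm_num) (e.trans hxdef.symm)))))
    · exact hpE (Or.inr (Or.inr (Or.inr (h.ι_inj hp (by norm_num) (e.trans h148.symm)))))
  have lab : kmul 24 50 < 288 := kmul_lt (by norm_num) (by norm_num)
  obtain ⟨n24, n50, nab, cab, iab⟩ : (24 ∉ [0, 12, 25, 37]) ∧ (50 ∉ [0, 12, 25, 37]) ∧
      kmul 24 50 ∉ [0, 12, 25, 37] ∧ kmul (kmul 24 50) 25 = kmul 25 (kmul 24 50) ∧ inQ (kmul 24 50) = true := by
    decide +kernel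
  have huQ : u ∉ qSub h := hudef ▸ hadef ▸ notQ 24 (by norm_num) i24 n24 qa25
  have hvQ : v ∉ qSub h := hvdef ▸ hbdef ▸ notQ 50 (by norm_num) i50 n50 qb25
  have huvQ : u * v ∉ qSub h := by
    rw [← hudef, ← hvdef, ← cjm, ← hadef, ← hbdef, ← mulQ _ _ (by norm_num) (by norm_num)]
    exact notQ _ lab iab nab cab
  obtain ⟨Pu, hPu, hAu⟩ := F.acts u huz
  obtain ⟨Pv, hPv, hAv⟩ := F.acts v hvz
  have hou := outer u huz hux huQ Pu hPu hAu
  have hov := outer v hvz hvx hvQ Pv hPv hAv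
  -- the commutator with an element of `Q ∩ C(x)`
  have kcomQ : ∀ p P, P < 1152 → p < 288 → ∀ w : G, Acts f₁ f₂ w P →
      ι f₁ f₂ (kcom p (kapp P)) = (ι f₁ f₂ p)⁻¹ * (w * ι f₁ f₂ p * w⁻¹) := fun p P hP hp w hA => by
    unfold kcom
    rw [mulQ _ _ (kinv_lt hp) (kapp_lt' hP hp), h.ι_inv hp, hA p hp]
  have comE : ∀ p P, P < 1152 → p ∈ uList → ∀ w : G, Acts f₁ f₂ w P → w * z = z * w →
      w ∈ cj g (qSub h) → kcom p (kapp P) ∈ [0, 12, 25, 37] := by
    intro p P hP hp w hA hwz hwQ'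
    obtain ⟨hpQ, hpx, hp'⟩ := mem_uList hp
    refine hinter' _ (kmul_lt (kinv_lt hp') (kapp_lt' hP hp')) ?_ ?_
    · rw [kcomQ p P hP hp' w hA]
      exact mul_mem (inv_mem (F.qmem hpQ)) (F.es.nor w hwz _ (F.qmem hpQ))
    · rw [kcomQ p P hP hp' w hA, ← mul_assoc, ← mul_assoc]
      refine mul_mem ?_ (inv_mem hwQ')
      have hpx' : (ι f₁ f₂ p)⁻¹ * x = x * (ι f₁ f₂ p)⁻¹ := (Commute.inv_left (show Commute (ι f₁ f₂ p) x by
        show _ * _ = _ * _
        rw [← hxdef, ← mulQ _ _ hp' (by norm_num), hpx, mulQ _ _ (by norm_num) hp'])).eq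
      have := hES'.nor _ hpx' w hwQ'
      rwa [inv_inv] at this
  have huQ' : u ∈ cj g (qSub h) := hudef ▸ conj_mem_cj haQ
  have hvQ' : v ∈ cj g (qSub h) := hvdef ▸ conj_mem_cj hbQ
  have m24 : 24 ∈ uList := uList_mem i24 qa25
  have m50 : 50 ∈ uList := uList_mem i50 qb25
  have mab : kmul 24 50 ∈ uList := uList_mem iab cab
  -- the images of `u` and `v`
  have hcomm_h : g * g * z = z * (g * g) ∧ g * g * x = x * (g * g) := by
    constructor
    · rw [← mul_inv_eq_iff_eq_mul, show g * g * z * (g * g)⁻¹ = g * (g * z * g⁻¹) * g⁻¹ by group, hgz, hgx]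
    · rw [← mul_inv_eq_iff_eq_mul, show g * g * x * (g * g)⁻¹ = g * (g * x * g⁻¹) * g⁻¹ by group, hgx, hgz]
  have img : ∀ p, p ∈ uList → ∃ p' ∈ uList, g * (g * ι f₁ f₂ p * g⁻¹) * g⁻¹ = ι f₁ f₂ p' := by
    intro p hp
    obtain ⟨hpQ, hpx, hp'⟩ := mem_uList hp
    have hm := F.es.nor (g * g) hcomm_h.1 _ (F.qmem hpQ)
    rw [show g * g * ι f₁ f₂ p * (g * g)⁻¹ = g * (g * ι f₁ f₂ p * g⁻¹) * g⁻¹ by group] at hm
    obtain ⟨p', hp'Q, he⟩ := hm
    refine ⟨p', uList_mem hp'Q (h.ι_inj (kmul_lt (lt_of_inQ hp'Q) (by norm_num))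
      (kmul_lt (by norm_num) (lt_of_inQ hp'Q)) ?_), he.symm⟩
    rw [mulQ _ _ (lt_of_inQ hp'Q) (by norm_num), mulQ _ _ (by norm_num) (lt_of_inQ hp'Q), he, hxdef,
      show g * (g * ι f₁ f₂ p * g⁻¹) * g⁻¹ = g * g * ι f₁ f₂ p * (g * g)⁻¹ by group]
    have e1 : Commute (ι f₁ f₂ p) x := by
      show _ * _ = _ * _
      rw [← hxdef, ← mulQ _ _ hp' (by norm_num), hpx, mulQ _ _ (by norm_num) hp']
    exact ((Commute.mul_left (show Commute (g * g) x from hcomm_h.2) e1).mul_left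
      (show Commute (g * g) x from hcomm_h.2).inv_left).eq
  -- the four-group commutes with `u` and `v`
  have fourC : ∀ e ∈ [0, 12, 25, 37], ∀ w : G, w * z = z * w → w * x = x * w →
      ι f₁ f₂ e * w = w * ι f₁ f₂ e := by
    intro e he w hwz hwx
    simp only [List.mem_cons, List.not_mem_nil, or_false] at he
    rcases he with rfl | rfl | rfl | rfl
    · rw [h.ι_zero, one_mul, mul_one]
    · rw [h.ι_twelve, hwz]
    · rw [hxdef, hwx]
    · rw [h148, mul_assoc, ← hwx, ← mul_assoc, ← hwz, mul_assoc]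
  -- symmetry
  have hsym : kcom 24 (kapp Pu) ∈ [0, 37] := by
    have hc := comE 24 Pu hPu m24 u hAu huz huQ'
    have hcl : kcom 24 (kapp Pu) < 288 := by
      unfold kcom; exact kmul_lt (kinv_lt (by norm_num)) (kapp_lt' hPu (by norm_num))
    obtain ⟨c, hcdef⟩ : ∃ c, ι f₁ f₂ (kcom 24 (kapp Pu)) = c := ⟨_, rfl⟩
    have hcu : c * u = u * c := hcdef ▸ fourC _ hc u huz hux
    have hca : c * a = a * c := hcdef ▸ fourC _ hc a haz hax
    have hce : c = a⁻¹ * (u * a * u⁻¹) := by rw [← hcdef, kcomQ 24 Pu hPu (by norm_num) u hAu, hadef]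
    have hcinv : c * c = 1 := by
      have : ∀ e ∈ [0, 12, 25, 37], kmul e e = 0 := by decide +kernel
      rw [← hcdef, ← mulQ _ _ hcl hcl, this _ hc, h.ι_zero]
    obtain ⟨p', hp', hpe⟩ := img 24 m24
    rw [hadef, hudef] at hpe
    obtain ⟨hp'Q, -, hp'l⟩ := mem_uList hp'
    have hp'2 : kmul p' p' = 12 := h.ι_inj (kmul_lt hp'l hp'l) (by norm_num) (by
      rw [mulQ _ _ hp'l hp'l, ← hpe, ← cjm, huu, hgx, h.ι_twelve])
    have hr := of_all uList_root hp'
    simp only [hp'2, bne_self_eq_false, Bool.false_or, List.any_eq_true, beq_iff_eq] at hr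
    obtain ⟨e, he, rfl⟩ := hr
    have hel : e < 288 := by
      simp only [List.mem_cons, List.not_mem_nil, or_false] at he; omega
    rw [mulQ _ _ (by norm_num) hel, hadef] at hpe
    have heu : ι f₁ f₂ e * u = u * ι f₁ f₂ e := fourC _ he u huz hux
    have himg : g * c * g⁻¹ = c := by
      have e1 : u * a = a * (c * u) := by rw [hce]; group
      have e2 : g * c * g⁻¹ = u⁻¹ * ((a * ι f₁ f₂ e) * u * (a * ι f₁ f₂ e)⁻¹) := by
        rw [← hpe, hce, cjm, show g * a⁻¹ * g⁻¹ = (g * a * g⁻¹)⁻¹ by group, cjm, cjm,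
          show g * u⁻¹ * g⁻¹ = (g * u * g⁻¹)⁻¹ by group, hudef]
      have e3 : (a * ι f₁ f₂ e) * u * (a * ι f₁ f₂ e)⁻¹ = a * u * a⁻¹ := by
        rw [mul_assoc a (ι f₁ f₂ e) u, heu]; group
      have e4 : a * u = u * (a * c) := by
        rw [← mul_assoc, e1, mul_assoc, mul_assoc, ← hcu, ← mul_assoc c c u, hcinv, one_mul]
      rw [e2, e3, e4, ← hca]; group
    simp only [List.mem_cons, List.not_mem_nil, or_false] at hc ⊢
    rcases hc with e | e | e | e
    · exact Or.inl e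
    · exfalso
      rw [← hcdef, e, h.ι_twelve, hgz] at himg
      exact hxz himg
    · exfalso
      rw [← hcdef, e, hxdef, hgx] at himg
      exact hxz himg.symm
    · exact Or.inr e
  -- nondegeneracy
  have hnd : ∀ p ∈ [24, 50, kmul 24 50],
      ¬ (kcom p (kapp Pu) ∈ [0, 25] ∧ kcom p (kapp Pv) ∈ [0, 25]) := by
    rintro p hp ⟨hpu, hpv⟩
    have hpm : p ∈ uList ∧ p ∉ [0, 12, 25, 37] := by
      simp only [List.mem_cons, List.not_mem_nil, or_false] at hp
      rcases hp with rfl | rfl | rfl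
      exacts [⟨m24, n24⟩, ⟨m50, n50⟩, ⟨mab, nab⟩]
    obtain ⟨hpQ, hpx, hpl⟩ := mem_uList hpm.1
    obtain ⟨y, hydef⟩ : ∃ y, g * ι f₁ f₂ p * g⁻¹ = y := ⟨_, rfl⟩
    have hPx : ι f₁ f₂ p * x = x * ι f₁ f₂ p := by
      rw [← hxdef, ← mulQ _ _ hpl (by norm_num), hpx, mulQ _ _ (by norm_num) hpl]
    have hyz : y * z = z * y := hydef ▸ cz _ hPx
    have hyx : y * x = x * y := hydef ▸ cx _ (zc p hpl)
    have hyQ : y ∉ qSub h := hydef ▸ notQ p hpl hpQ hpm.2 hpx
    obtain ⟨Py, hPy, hAy⟩ := F.acts y hyz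
    have hoy := outer y hyz hyx hyQ Py hPy hAy
    -- the transported commutators
    have key : ∀ (w : G) (Pw r : ℕ), Pw < 1152 → Acts f₁ f₂ w Pw → kcom p (kapp Pw) ∈ [0, 25] →
        g * w * g⁻¹ = ι f₁ f₂ r → r < 288 → kcom r (kapp Py) ∈ [0, 12] := by
      intro w Pw r hPw hAw hmem hr hrl
      obtain ⟨c, hcdef⟩ : ∃ c, ι f₁ f₂ (kcom p (kapp Pw)) = c := ⟨_, rfl⟩
      have hce : c = (ι f₁ f₂ p)⁻¹ * (w * ι f₁ f₂ p * w⁻¹) := by rw [← hcdef, kcomQ p Pw hPw hpl w hAw]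
      have hc' : g * c * g⁻¹ = 1 ∨ g * c * g⁻¹ = z := by
        simp only [List.mem_cons, List.not_mem_nil, or_false] at hmem
        rcases hmem with e | e
        · left; rw [← hcdef, e, h.ι_zero, mul_one, mul_inv_cancel]
        · right; rw [← hcdef, e, hxdef, hgx]
      have hy2 : g * c * g⁻¹ = y⁻¹ * (ι f₁ f₂ r * y * (ι f₁ f₂ r)⁻¹) := by
        rw [hce, cjm, show g * (ι f₁ f₂ p)⁻¹ * g⁻¹ = y⁻¹ by rw [← hydef]; group, cjm, cjm,
          show g * w⁻¹ * g⁻¹ = (g * w * g⁻¹)⁻¹ by group, hr, hydef]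
      have hk := kcomQ r Py hPy hrl y hAy
      have hl : kcom r (kapp Py) < 288 := by unfold kcom; exact kmul_lt (kinv_lt hrl) (kapp_lt' hPy hrl)
      simp only [List.mem_cons, List.not_mem_nil, or_false]
      rcases hc' with e | e
      · left
        refine h.ι_inj hl (by norm_num) ?_
        rw [hk, h.ι_zero]
        rw [e, eq_inv_mul_iff_mul_eq, mul_one, eq_mul_inv_iff_mul_eq] at hy2
        rw [hy2]; group
      · right
        refine h.ι_inj hl (by norm_num) ?_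
        rw [hk, h.ι_twelve]
        rw [e, eq_inv_mul_iff_mul_eq, eq_mul_inv_iff_mul_eq] at hy2
        have hzr := zc r hrl
        calc (ι f₁ f₂ r)⁻¹ * (y * ι f₁ f₂ r * y⁻¹)
            = (ι f₁ f₂ r)⁻¹ * ((y * z * ι f₁ f₂ r) * (z⁻¹ * y⁻¹)) := by
              rw [mul_assoc y z, ← hzr]; group
          _ = z⁻¹ := by
              rw [hy2]
              have : y * (z⁻¹ * y⁻¹) = z⁻¹ := by
                rw [← mul_assoc, show y * z⁻¹ = z⁻¹ * y from (Commute.inv_right hyz).eq, mul_assoc, mul_inv_cancel,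
                  mul_one]
              rw [mul_assoc (ι f₁ f₂ r) y, this]; group
          _ = z := inv_eq_of_mul_eq_one_right hzz
    obtain ⟨r₁, hr₁, hr₁e⟩ := img 24 m24
    obtain ⟨r₂, hr₂, hr₂e⟩ := img 50 m50
    rw [hadef, hudef] at hr₁e
    rw [hbdef, hvdef] at hr₂e
    obtain ⟨-, -, hr₁l⟩ := mem_uList hr₁
    obtain ⟨-, -, hr₂l⟩ := mem_uList hr₂
    have k1 := key u Pu r₁ hPu hAu hpu hr₁e hr₁l
    have k2 := key v Pv r₂ hPv hAv hpv hr₂e hr₂l
    have hr1' : kmul r₁ r₁ = 12 := h.ι_inj (kmul_lt hr₁l hr₁l) (by norm_num) (by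
      rw [mulQ _ _ hr₁l hr₁l, ← hr₁e, ← cjm, huu, hgx, h.ι_twelve])
    have hr2' : kmul r₂ r₂ = 0 := h.ι_inj (kmul_lt hr₂l hr₂l) (by norm_num) (by
      rw [mulQ _ _ hr₂l hr₂l, ← hr₂e, ← cjm, hvv, mul_one, mul_inv_cancel, h.ι_zero])
    have hr2E : r₂ ∉ [0, 12, 25, 37] := by
      intro hmem
      apply hvQ
      have : v = g⁻¹ * ι f₁ f₂ r₂ * g := by rw [← hr₂e]; group
      rw [this]
      simp only [List.mem_cons, List.not_mem_nil, or_false] at hmem
      rcases hmem with rfl | rfl | rfl | rfl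
      · rw [h.ι_zero, mul_one, inv_mul_cancel]; exact one_mem _
      · rw [h.ι_twelve, gi1]; exact hxQ
      · rw [hxdef, gi2]; exact hzQ
      · rw [h148, show g⁻¹ * (z * x) * g = (g⁻¹ * z * g) * (g⁻¹ * x * g) by group, gi1, gi2]
        exact mul_mem hxQ hzQ
    have hP : Py ∈ (List.range 1152).filter outerFix := List.mem_filter.2 ⟨List.mem_range.2 hPy, hoy⟩
    have := of_all (of_all (of_all outer_moves hP) hr₁) hr₂
    simp [hr1', hr2', hr2E, k1, k2] at this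
  -- the two lifts
  have hgens : ∀ e ∈ kgens, e < 288 := fun e he => kgens_lt he
  have uvx : ∀ t : G, t * x = x * t → ∀ m < 288, ι f₁ f₂ (kconj 25 m) = x * ι f₁ f₂ m * x⁻¹ := fun t _ m hm => by
    rw [h.ι_conj (by norm_num) hm, hxdef]
  have hu : uOK Pu = true := by
    simp only [uOK, Bool.and_eq_true, List.all_eq_true, beq_iff_eq, List.contains_iff_mem]
    refine ⟨⟨⟨hou, fun e he => ?_⟩, hsym⟩, comE 50 Pu hPu m50 u hAu huz huQ'⟩
    have he' := hgens e he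
    refine h.ι_inj (kapp_lt' hPu (kapp_lt' hPu he')) (kconj_lt (by norm_num) he') ?_
    rw [← hAu _ (kapp_lt' hPu he'), ← hAu e he', uvx u hux e he', ← huu]
    group
  have hv : vOK Pv = true := by
    simp only [vOK, Bool.and_eq_true, List.all_eq_true, beq_iff_eq, List.contains_iff_mem]
    refine ⟨⟨⟨hov, fun e he => ?_⟩, comE 24 Pv hPv m24 v hAv hvz hvQ'⟩, comE 50 Pv hPv m50 v hAv hvz hvQ'⟩
    have he' := hgens e he
    refine h.ι_inj (kapp_lt' hPv (kapp_lt' hPv he')) he' ?_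
    rw [← hAv _ (kapp_lt' hPv he'), ← hAv e he',
      show v * (v * ι f₁ f₂ e * v⁻¹) * v⁻¹ = (v * v) * ι f₁ f₂ e * (v * v)⁻¹ by group, hvv]
    group
  have hAuv : ∀ m < 288, u * v * ι f₁ f₂ m * (u * v)⁻¹ = ι f₁ f₂ (kapp Pu (kapp Pv m)) := fun m hm => by
    rw [← hAu _ (kapp_lt' hPv hm), ← hAv m hm]; group
  have hpair : pairOK Pu Pv = true := by
    simp only [pairOK, Bool.and_eq_true, List.all_eq_true, List.any_eq_true, beq_iff_eq, bne_iff_ne, ne_eq,
      Bool.not_eq_true', Bool.and_eq_false_iff]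
    refine ⟨⟨fun e he => ?_, fun k hk => ?_⟩, fun p hp => ?_⟩
    · have he' := hgens e he
      refine h.ι_inj (kapp_lt' hPu (kapp_lt' hPv he'))
        (kconj_lt (by norm_num) (kapp_lt' hPv (kapp_lt' hPu he'))) ?_
      rw [← hAuv e he', uvx u hux _ (kapp_lt' hPv (kapp_lt' hPu he')), ← hAv _ (kapp_lt' hPu he'), ← hAu e he', huv]
      group
    · obtain ⟨hkQ, -, hk'⟩ := mem_uList hk
      by_contra hall
      push Not at hall
      rcases F.cases_of_gens (w := (ι f₁ f₂ k)⁻¹ * (u * v)) fun e he => by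
        have he' := hgens e he
        rw [show (ι f₁ f₂ k)⁻¹ * (u * v) * ι f₁ f₂ e * ((ι f₁ f₂ k)⁻¹ * (u * v))⁻¹ =
          (ι f₁ f₂ k)⁻¹ * (u * v * ι f₁ f₂ e * (u * v)⁻¹) * ι f₁ f₂ k by group, hAuv e he', hall e he,
          h.ι_conj hk' he']
        group with e | e
      · exact huvQ ((inv_mul_eq_one.1 e) ▸ F.qmem hkQ)
      · exact huvQ ((inv_mul_eq_iff_eq_mul.1 e) ▸ mul_mem (F.qmem hkQ) hzQ)
    · by_contra hcon
      push Not at hcon
      simp only [ne_eq, Bool.not_eq_false, List.contains_iff_mem] at hcon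
      exact hnd p hp hcon
  have hmem : Pu ∈ (List.range 1152).filter uOK := List.mem_filter.2 ⟨List.mem_range.2 hPu, hu⟩
  have hmem' : Pv ∈ (List.range 1152).filter vOK := List.mem_filter.2 ⟨List.mem_range.2 hPv, hv⟩
  have hall := of_all (of_all enum_all hmem) hmem'
  simp only [hpair, Bool.not_true, Bool.false_or, Bool.or_eq_true] at hall
  obtain ⟨w, f, hwz, hww, huw, hfl, hwA, hn⟩ : ∃ (w : G) (f : ℕ → ℕ), w * z = z * w ∧ w * w = 1 ∧
      u * w = x * (w * u) ∧ (∀ m < 288, f m < 288) ∧ (∀ m < 288, w * ι f₁ f₂ m * w⁻¹ = ι f₁ f₂ (f m)) ∧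
      normalPair Pu f = true := by
    rcases hall with hn | hn
    · exact ⟨v, kapp Pv, hvz, hvv, huv, fun m hm => kapp_lt' hPv hm, hAv, hn⟩
    · refine ⟨u * v, fun m => kapp Pu (kapp Pv m), ?_, ?_, ?_, fun m hm => kapp_lt' hPu (kapp_lt' hPv hm), hAuv, hn⟩
      · exact (Commute.mul_left (show Commute u z from huz) (show Commute v z from hvz)).eq
      · calc u * v * (u * v) = x * (v * u) * (u * v) := by rw [← huv]
          _ = x * (v * (u * u) * v) := by group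
          _ = x * (x * (v * v)) := by rw [huu, hvx, mul_assoc x v v]
          _ = 1 := by rw [hvv, mul_one, hxx]
      · rw [huv]
        calc u * (x * (v * u)) = (u * x) * (v * u) := by group
          _ = x * (u * v) * u := by rw [hux]; group
          _ = x * (x * (v * u) * u) := by rw [huv]; group
  simp only [normalPair, List.any_eq_true, List.mem_filter, List.mem_range, Bool.and_eq_true, List.all_eq_true,
    beq_iff_eq] at hn
  obtain ⟨q₁, ⟨hq₁, -⟩, ⟨hg1, hs1⟩, q₂, ⟨hq₂, -⟩, ⟨hg2, hs2⟩, hc⟩ := hn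
  obtain ⟨Q₁, hQ₁⟩ : ∃ t, ι f₁ f₂ q₁ = t := ⟨_, rfl⟩
  obtain ⟨Q₂, hQ₂⟩ : ∃ t, ι f₁ f₂ q₂ = t := ⟨_, rfl⟩
  have hσ : ∀ m < 288, w * Q₁ * ι f₁ f₂ m * (w * Q₁)⁻¹ = ι f₁ f₂ (f (kconj q₁ m)) := fun m hm => by
    rw [← hwA _ (kconj_lt hq₁ hm), h.ι_conj hq₁ hm, hQ₁]; group
  have hτ : ∀ m < 288, u * Q₂ * ι f₁ f₂ m * (u * Q₂)⁻¹ = ι f₁ f₂ (kapp Pu (kconj q₂ m)) := fun m hm => by
    rw [← hAu _ (kconj_lt hq₂ hm), h.ι_conj hq₂ hm, hQ₂]; group
  have l1 := hfl q₁ hq₁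
  have l2 := kapp_lt' hPu hq₂
  have L : Lifts z f₁ f₂ (w * Q₁) (u * Q₂) :=
    { two := h
      zσ := (Commute.mul_left (show Commute w z from hwz) (show Commute Q₁ z from hQ₁ ▸ zc q₁ hq₁)).eq
      zτ := (Commute.mul_left (show Commute u z from huz) (show Commute Q₂ z from hQ₂ ▸ zc q₂ hq₂)).eq
      actσ := acts_of_gens h (by decide)
        (by rw [hσ 24 (by norm_num), hg1 24 (by simp [kgens])])
        (by rw [hσ 96 (by norm_num), hg1 96 (by simp [kgens])])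
        (by rw [hσ 1 (by norm_num), hg1 1 (by simp [kgens])])
        (by rw [hσ 4 (by norm_num), hg1 4 (by simp [kgens])])
      actτ := acts_of_gens h (by decide)
        (by rw [hτ 24 (by norm_num), hg2 24 (by simp [kgens])])
        (by rw [hτ 96 (by norm_num), hg2 96 (by simp [kgens])])
        (by rw [hτ 1 (by norm_num), hg2 1 (by simp [kgens])])
        (by rw [hτ 4 (by norm_num), hg2 4 (by simp [kgens])])
      sqσ := by
        rw [show w * Q₁ * (w * Q₁) = (w * Q₁ * w⁻¹) * (w * w) * Q₁ by group, hww, mul_one, ← hQ₁, hwA q₁ hq₁,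
          ← mulQ _ _ l1 hq₁, hs1, h.ι_zero]
      sqτ := by
        rw [show u * Q₂ * (u * Q₂) = (u * Q₂ * u⁻¹) * (u * u) * Q₂ by group, huu, ← hQ₂, hAu q₂ hq₂, ← hxdef,
          ← mulQ _ _ l2 (by norm_num), ← mulQ _ _ (kmul_lt l2 (by norm_num)) hq₂, hs2, h.ι_twelve]
      comm := by
        have e1 : ι f₁ f₂ (kmul (f q₁) (f (kapp Pu q₂))) * (w * u) = w * Q₁ * (u * Q₂) := by
          rw [mulQ _ _ l1 (hfl _ l2), ← hwA q₁ hq₁, ← hwA _ l2, ← hAu q₂ hq₂, hQ₁, hQ₂]; group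
        rw [← e1, hc, mulQ _ _ (kmul_lt (kmul_lt l2 (kapp_lt' hPu l1)) (by norm_num)) (by norm_num),
          mulQ _ _ (kmul_lt l2 (kapp_lt' hPu l1)) (by norm_num), mulQ _ _ l2 (kapp_lt' hPu l1), h.ι_twelve, hxdef,
          ← hAu q₂ hq₂, ← hAu _ l1, ← hwA q₁ hq₁, hQ₁, hQ₂]
        have hzw : z * (w * u) = (w * u) * z :=
          ((Commute.mul_left (show Commute w z from hwz) (show Commute u z from huz)).eq).symm
        rw [mul_assoc _ z (w * u), hzw, ← mul_assoc, mul_assoc _ x (w * u), ← huw]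
        group }
  refine ⟨phi f₁ f₂ (w * Q₁) (u * Q₂), hz, fun p hp q hq => L.phi_mul hp hq, fun p hp q hq e => L.phi_inj hp hq e,
    ?_, ?_, g, ?_, ?_, ?_⟩
  · intro c
    have hcz : ∀ p < 1152, phi f₁ f₂ (w * Q₁) (u * Q₂) p * z = z * phi f₁ f₂ (w * Q₁) (u * Q₂) p := by
      intro p hp
      have hr : rep (w * Q₁) (u * Q₂) (p % 4) * z = z * rep (w * Q₁) (u * Q₂) (p % 4) := by
        obtain e | e | e | e : p % 4 = 0 ∨ p % 4 = 1 ∨ p % 4 = 2 ∨ p % 4 = 3 := by omega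
        all_goals rw [e]
        exacts [(one_mul z).trans (mul_one z).symm, L.zσ, L.zτ,
          (Commute.mul_left (show Commute _ z from L.zσ) (show Commute _ z from L.zτ)).eq]
      exact (Commute.mul_left (show Commute _ z from zc _ (by omega)) (show Commute _ z from hr)).eq
    refine ⟨fun hc' => ?_, fun ⟨p, hp, e⟩ => e ▸ hcz p hp⟩
    let F' : Fin 1152 → ↥(Subgroup.centralizer ({z} : Set G)) := fun i =>
      ⟨phi f₁ f₂ (w * Q₁) (u * Q₂) i, Subgroup.mem_centralizer_singleton_iff.2 (hcz i i.2)⟩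
    have hbij : Function.Bijective F' := by
      haveI := Fintype.ofFinite ↥(Subgroup.centralizer ({z} : Set G))
      refine (Fintype.bijective_iff_injective_and_card F').2 ⟨fun i j e =>
        Fin.ext (L.phi_inj i.2 j.2 (congrArg Subtype.val e)), ?_⟩
      rw [Fintype.card_fin, ← Nat.card_eq_fintype_card, F.card]
    obtain ⟨i, hi⟩ := hbij.2 ⟨c, Subgroup.mem_centralizer_singleton_iff.2 hc'⟩
    exact ⟨i, i.2, congrArg Subtype.val hi⟩
  · show ι f₁ f₂ 12 * 1 = z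
    rw [mul_one, h.ι_twelve]
  · show _ = ι f₁ f₂ 25 * 1
    rw [mul_one, hxdef, hgz]
  · show g * (ι f₁ f₂ 25 * 1) * g⁻¹ = z
    rw [mul_one, hxdef, hgx]
  · intro p hp q hq' hpQ hqQ e
    simp only [inQm, Bool.and_eq_true, beq_iff_eq] at hpQ hqQ
    have hpe : phi f₁ f₂ (w * Q₁) (u * Q₂) p = ι f₁ f₂ (p / 4) := by
      unfold phi; rw [hpQ.1]; exact mul_one _
    have hqe : phi f₁ f₂ (w * Q₁) (u * Q₂) q = ι f₁ f₂ (q / 4) := by
      unfold phi; rw [hqQ.1]; exact mul_one _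
    have := hinter' (q / 4) (by omega) (F.qmem hqQ.2) (by rw [← hqe, ← e, hpe]; exact conj_mem_cj (F.qmem hpQ.2))
    simp only [List.mem_cons, List.not_mem_nil, or_false] at this ⊢
    omega

end CfsgU43Type
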