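import Cfsg.Agent.Lib.U43Type.AChecks

/-!
Groups of U₄(3) type: the normaliser of an elementary abelian group of order sixteen fuses its involutions, and there
is one class of involutions.
-/

set_option autoImplicit false
set_option maxRecDepth 100000
set_option linter.unusedSectionVars false

namespace CfsgU43Type

variable {G : Type*} [Group G] {z : G} {φ : ℕ → G}

/-- Conjugation by `g` maps the elements coded in `L` among those coded in `M`. -/
def Sends (φ : ℕ → G) (g : G) (L M : List ℕ) : Prop :=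
  ∀ p ∈ L, ∃ q ∈ M, g * φ p * g⁻¹ = φ q

/-- Conjugation by `g` fixes the first group of order sixteen. -/
def FixA (φ : ℕ → G) (g : G) : Prop := Sends φ g aList aList

theorem aList_lt {p : ℕ} (hp : p ∈ aList) : p < 1152 := by
  have := of_all aList_group.1 hp
  simp only [Bool.and_eq_true, decide_eq_true_eq] at this
  exact this.1.1

theorem aList'_lt {p : ℕ} (hp : p ∈ aList') : p < 1152 := by
  simpa using of_all aList_group.2.2.2.1 hp

theorem Sends.trans {g h : G} {L M N : List ℕ} (hg : Sends φ g M N) (hh : Sends φ h L M) :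
    Sends φ (g * h) L N := fun p hp => by
  obtain ⟨q, hq, e⟩ := hh p hp
  obtain ⟨r, hr, e'⟩ := hg q hq
  exact ⟨r, hr, by rw [← e', ← e]; group⟩

theorem FixA.mul {g h : G} (hg : FixA φ g) (hh : FixA φ h) : FixA φ (g * h) := Sends.trans hg hh

/-- An injective map between lists of the same length without repetition is surjective. -/
theorem Data.sends_surj (D : Data z φ) {g : G} {L M : List ℕ} (hLn : L.Nodup) (hMn : M.Nodup)
    (hlen : M.length ≤ L.length) (hL : ∀ p ∈ L, p < 1152) (h : Sends φ g L M) :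
    ∀ q ∈ M, ∃ p ∈ L, g * φ p * g⁻¹ = φ q := by
  classical
  choose f hf hfe using h
  have hinj : ∀ a ha b hb, f a ha = f b hb → a = b := fun a ha b hb e => by
    refine D.inj a (hL a ha) b (hL b hb) (mul_left_cancel (a := g) (mul_right_cancel (b := g⁻¹) ?_))
    rw [hfe a ha, hfe b hb, e]
  intro q hq
  have hs := Finset.surj_on_of_inj_on_of_card_le (s := L.toFinset) (t := M.toFinset)
    (fun a ha => f a (List.mem_toFinset.1 ha)) (fun a ha => List.mem_toFinset.2 (hf _ _))
    (fun a b ha hb e => hinj _ _ _ _ e)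
    (by rw [List.toFinset_card_of_nodup hMn, List.toFinset_card_of_nodup hLn]; exact hlen) q (List.mem_toFinset.2 hq)
  obtain ⟨a, ha, hae⟩ := hs
  exact ⟨a, List.mem_toFinset.1 ha, by rw [hfe a (List.mem_toFinset.1 ha), ← hae]⟩

theorem FixA.inv (D : Data z φ) {g : G} (hg : FixA φ g) : FixA φ g⁻¹ := fun p hp => by
  obtain ⟨q, hq, e⟩ := D.sends_surj aList_group.2.1 aList_group.2.1 le_rfl (fun _ => aList_lt) hg p hp
  exact ⟨q, hq, by rw [← e]; group⟩

theorem Data.fixA_of_code (D : Data z φ) {h : ℕ} (hh : h < 1152) (hf : fixes aList h = true) : FixA φ (φ h) :=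
  fun p hp => ⟨mconj h p, by simpa [fixes] using of_all hf hp, (D.conj hh (aList_lt hp)).symm⟩

theorem Data.fixes_of_fixA (D : Data z φ) {h : ℕ} (hh : h < 1152) (hf : FixA φ (φ h)) : fixes aList h = true := by
  simp only [fixes, List.all_eq_true, List.contains_iff_mem]
  intro p hp
  obtain ⟨q, hq, e⟩ := hf p hp
  rw [← D.conj hh (aList_lt hp)] at e
  exact D.inj _ (mconj_lt hh (aList_lt hp)) _ (aList_lt hq) e ▸ hq

theorem eList_sub {p : ℕ} (hp : p ∈ eList) : p ∈ aList ∧ p ∈ aList' ∧ p < 1152 := by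
  simp only [eList, List.mem_cons, List.not_mem_nil, or_false] at hp
  rcases hp with rfl | rfl | rfl | rfl <;> simp [aList, aList']

/-- An element permuting the four-group maps each of the two groups of order sixteen to one of them. -/
theorem Data.dichotomy (D : Data z φ) {g : G} (hE : Sends φ g eList eList) {L : List ℕ}
    (hL : L = aList ∨ L = aList') :
    Sends φ g L aList ∨ Sends φ g L aList' := by
  have hLlt : ∀ p ∈ L, p < 1152 := by rcases hL with rfl | rfl; exacts [fun _ => aList_lt, fun _ => aList'_lt]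
  have hLprop : (L.all fun p => mmul p p == 0 && mmul p 100 == mmul 100 p && mmul p 48 == mmul 48 p &&
      L.all fun q => mmul p q == mmul q p) = true ∧ (∀ p ∈ eList, p ∈ L) ∧ (∀ p ∈ eList, p < 1152) := by
    rcases hL with rfl | rfl <;> decide +kernel
  obtain ⟨hLall, hEL, hElt⟩ := hLprop
  have hp : ∀ p ∈ L, mmul p p = 0 ∧ mmul p 100 = mmul 100 p ∧ mmul p 48 = mmul 48 p ∧
      ∀ q ∈ L, mmul p q = mmul q p := fun p hp => by
    have := of_all hLall hp
    simp only [Bool.and_eq_true, beq_iff_eq, List.all_eq_true] at this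
    exact ⟨this.1.1.1, this.1.1.2, this.1.2, this.2⟩
  have key : ∀ p ∈ L, ∃ q, q < 1152 ∧ g * φ p * g⁻¹ = φ q ∧ (q ∈ aList ∨ q ∈ aList') := by
    intro p hpL
    obtain ⟨e48, he48, eq48⟩ : ∃ p₀ ∈ L, p₀ < 1152 ∧ g * φ p₀ * g⁻¹ = φ 48 := by
      obtain ⟨p₀, hp₀, e⟩ := D.sends_surj (g := g) (L := eList) (M := eList) (by decide) (by decide) le_rfl hElt hE 48
        (by decide)
      exact ⟨p₀, hEL p₀ hp₀, hElt p₀ hp₀, e⟩
    obtain ⟨e100, he100, eq100⟩ : ∃ p₀ ∈ L, p₀ < 1152 ∧ g * φ p₀ * g⁻¹ = φ 100 := by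
      obtain ⟨p₀, hp₀, e⟩ := D.sends_surj (g := g) (L := eList) (M := eList) (by decide) (by decide) le_rfl hElt hE
        100 (by decide)
      exact ⟨p₀, hEL p₀ hp₀, hElt p₀ hp₀, e⟩
    obtain ⟨hsq, -, -, hcom⟩ := hp p hpL
    have hl := hLlt p hpL
    have hcomm : ∀ p₀ ∈ L, p₀ < 1152 → ∀ w, g * φ p₀ * g⁻¹ = w → g * φ p * g⁻¹ * w = w * (g * φ p * g⁻¹) := by
      intro p₀ hp₀ hl₀ w hw
      have e := (D.commute_iff hl hl₀).2 (hcom p₀ hp₀)
      rw [← hw, show g * φ p * g⁻¹ * (g * φ p₀ * g⁻¹) = g * (φ p * φ p₀) * g⁻¹ by group, e]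
      group
    obtain ⟨q, hq, hqe⟩ := (D.cent _).1 (D.zc ▸ hcomm e48 he48 eq48.1 _ eq48.2)
    refine ⟨q, hq, hqe.symm, ?_⟩
    have h2 : mmul q q = 0 := (D.sq_iff hq).1 (by
      rw [hqe, show g * φ p * g⁻¹ * (g * φ p * g⁻¹) = g * (φ p * φ p) * g⁻¹ by group, (D.sq_iff hl).2 hsq]
      group)
    have h3 : mmul q 100 = mmul 100 q :=
      (D.commute_iff hq (by norm_num)).1 (hqe ▸ hcomm e100 he100 eq100.1 _ eq100.2)
    simpa [h2, h3] using of_range_all cent_invol hq
  by_cases hA : ∃ p ∈ L, ∃ q, q < 1152 ∧ g * φ p * g⁻¹ = φ q ∧ q ∈ aList ∧ q ∉ eList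
  · left
    obtain ⟨p, hpL, q, hq, hqe, hqA, hqE⟩ := hA
    intro r hr
    obtain ⟨s, hs, hse, hs'⟩ := key r hr
    refine ⟨s, ?_, hse⟩
    by_contra hsA
    have hsA' := hs'.resolve_left hsA
    have hsE : s ∉ eList := fun h => hsA (eList_sub h).1
    have := of_all (of_all lists_noncommute hqA) hsA'
    simp only [List.contains_iff_mem, hqE, hsE, Bool.or_eq_true, false_or, bne_iff_ne, ne_eq] at this
    refine this ((D.commute_iff hq hs).1 ?_)
    rw [← hqe, ← hse, show g * φ p * g⁻¹ * (g * φ r * g⁻¹) = g * (φ p * φ r) * g⁻¹ by group,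
      (D.commute_iff (hLlt p hpL) (hLlt r hr)).2 ((hp p hpL).2.2.2 r hr)]
    group
  · right
    intro r hr
    obtain ⟨s, hs, hse, hs'⟩ := key r hr
    refine ⟨s, ?_, hse⟩
    rcases hs' with h | h
    · by_cases hsE : s ∈ eList
      · exact (eList_sub hsE).2.1
      · exact absurd ⟨r, hr, s, hs, hse, h, hsE⟩ hA
    · exact h

/-- An element fixing the first group and exchanging `z` with the standard involution. -/
theorem Data.exists_swap_fix (D : Data z φ) : ∃ g : G, g * z * g⁻¹ = φ 100 ∧ g * φ 100 * g⁻¹ = z ∧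
    (∀ x < 1152, ∀ y < 1152, inQm x = true → inQm y = true → g * φ x * g⁻¹ = φ y → y ∈ eList) ∧ FixA φ g := by
  obtain ⟨g, h1, h2, h3⟩ := D.swap
  refine ⟨g, h1, h2, h3, ?_⟩
  have h148 : φ 148 = z * φ 100 := by
    rw [← D.zc, ← D.mul _ (by norm_num) _ (by norm_num), show mmul 48 100 = 148 by decide +kernel]
  obtain ⟨s1, -, c100, c48, c148, -⟩ := shift_fixes
  have hq : ∀ p q, p < 1152 → mconj 192 p = q → φ 192 * φ p * (φ 192)⁻¹ = φ q := fun p q hp e => by
    rw [← D.conj (by norm_num) hp, e]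
  obtain ⟨e, he⟩ : ∃ e, g * φ 192 = e := ⟨_, rfl⟩
  have hconj : ∀ p, e * p * e⁻¹ = g * (φ 192 * p * (φ 192)⁻¹) * g⁻¹ := fun p => by rw [← he]; group
  have z148 : g * φ 148 * g⁻¹ = φ 148 := by
    rw [h148, show g * (z * φ 100) * g⁻¹ = (g * z * g⁻¹) * (g * φ 100 * g⁻¹) by group, h1, h2,
      D.comm_z (by norm_num)]
  have e1 : e * φ 48 * e⁻¹ = φ 100 := by rw [hconj, hq _ _ (by norm_num) c48, D.zc, h1]
  have e2 : e * φ 100 * e⁻¹ = φ 148 := by rw [hconj, hq _ _ (by norm_num) c100, z148]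
  have e3 : e * φ 148 * e⁻¹ = φ 48 := by rw [hconj, hq _ _ (by norm_num) c148, h2, D.zc]
  have hE : Sends φ e eList eList := by
    intro p hp
    simp only [eList, List.mem_cons, List.not_mem_nil, or_false] at hp
    rcases hp with rfl | rfl | rfl | rfl
    · exact ⟨0, by simp [eList], by rw [D.one]; group⟩
    · exact ⟨100, by simp [eList], e1⟩
    · exact ⟨148, by simp [eList], e2⟩
    · exact ⟨48, by simp [eList], e3⟩
  obtain ⟨h, hh, hhe⟩ : ∃ h, h < 1152 ∧ φ h = e * e * e := by
    refine (D.cent _).1 (mul_inv_eq_iff_eq_mul.1 ?_) |>.imp fun x hx => hx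
    rw [← D.zc, show e * e * e * φ 48 * (e * e * e)⁻¹ = e * (e * (e * φ 48 * e⁻¹) * e⁻¹) * e⁻¹ by group, e1, e2, e3]
  have hfix : fixes aList h = true ∧ fixes aList' h = true := by
    have hc : mmul h 100 = mmul 100 h := (D.commute_iff hh (by norm_num)).1 (mul_inv_eq_iff_eq_mul.1 (by
      rw [hhe, show e * e * e * φ 100 * (e * e * e)⁻¹ = e * (e * (e * φ 100 * e⁻¹) * e⁻¹) * e⁻¹ by group, e2, e3,
        e1]))
    simpa [hc] using of_range_all cent_fixes hh
  -- the group is fixed
  have hA : FixA φ e := by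
    rcases D.dichotomy hE (Or.inl rfl) with h1' | h1'
    · exact h1'
    exfalso
    have hsep : ∀ L M : List ℕ, Sends φ (e * e * e) L M → (∀ p ∈ L, p < 1152 ∧ mconj h p ∈ L) →
        (∀ p ∈ M, p < 1152) → ∀ p ∈ L, mconj h p ∈ M := by
      intro L M hs hL hM p hp
      obtain ⟨q, hq, he'⟩ := hs p hp
      rw [← hhe, ← D.conj hh (hL p hp).1] at he'
      exact D.inj _ (mconj_lt hh (hL p hp).1) _ (hM q hq) he' ▸ hq
    rcases D.dichotomy hE (Or.inr rfl) with h2' | h2'
    · -- the two groups are exchanged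
      have hs := Sends.trans (Sends.trans h1' h2') h1'
      have hall := hsep aList aList' hs (fun p hp => ⟨aList_lt hp, by simpa [fixes] using of_all hfix.1 hp⟩)
        (fun _ => aList'_lt)
      obtain ⟨p, hp, hpe⟩ := D.sends_surj aList_group.2.1 aList_group.2.1 le_rfl (fun _ => aList_lt)
        (D.fixA_of_code hh hfix.1) 1 (by simp [aList])
      rw [← D.conj hh (aList_lt hp)] at hpe
      have := hall p hp
      rw [D.inj _ (mconj_lt hh (aList_lt hp)) 1 (by norm_num) hpe] at this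
      simp [aList'] at this
    · -- both groups are sent to the second
      obtain ⟨p, hp, hpe⟩ := h1' 1 (by simp [aList])
      obtain ⟨q, hq, hqe⟩ := D.sends_surj aList_group.2.2.1 aList_group.2.2.1 le_rfl (fun _ => aList'_lt) h2' p hp
      have := D.inj q (aList'_lt hq) 1 (by norm_num)
        (mul_left_cancel (a := e) (mul_right_cancel (b := e⁻¹) (hqe.trans hpe.symm)))
      rw [this] at hq
      simp [aList'] at hq
  have hg : g = e * (φ 192)⁻¹ := by rw [← he]; group
  rw [hg]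
  exact hA.mul ((D.fixA_of_code (by norm_num) s1).inv D)

/-- The normaliser of the first group is transitive on its involutions. -/
theorem Data.trans_A (D : Data z φ) {p : ℕ} (hp : p ∈ aList) (hp0 : p ≠ 0) :
    ∃ g : G, FixA φ g ∧ g * z * g⁻¹ = φ p := by
  obtain ⟨g, h1, h2, h3, hg⟩ := D.exists_swap_fix
  have hl := aList_lt hp
  have step : ∀ r, r < 1152 → (List.range 1152).any (fun h => mconj h r == p && fixes aList h) = true →
      ∀ g' : G, FixA φ g' → g' * z * g'⁻¹ = φ r → ∃ k : G, FixA φ k ∧ k * z * k⁻¹ = φ p := by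
    intro r hr hany g' hg' hz'
    simp only [List.any_eq_true, List.mem_range, Bool.and_eq_true, beq_iff_eq] at hany
    obtain ⟨h, hh, hhe, hf⟩ := hany
    refine ⟨φ h * g', (D.fixA_of_code hh hf).mul hg', ?_⟩
    rw [← hhe, D.conj hh hr, ← hz']; group
  have hsix : ∀ q ∈ sixList, ∃ k : G, FixA φ k ∧ k * z * k⁻¹ = φ q := by
    intro q hq
    have := of_all parts_trans.1 hq
    simp only [List.any_eq_true, List.mem_range, Bool.and_eq_true, beq_iff_eq] at this
    obtain ⟨h, hh, hhe, hf⟩ := this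
    exact ⟨φ h * g, (D.fixA_of_code hh hf).mul hg, by rw [← hhe, D.conj hh (by norm_num), ← h1]; group⟩
  have hsplit := of_all aList_split.1 hp
  simp only [Bool.or_eq_true, beq_iff_eq, List.contains_iff_mem, hp0, false_or] at hsplit
  rcases hsplit with (rfl | h) | h
  · exact ⟨1, fun q hq => ⟨q, hq, by group⟩, by rw [D.zc]; group⟩
  · exact hsix p h
  · -- some element inside goes outside
    obtain ⟨k, hk, hkz⟩ := hsix 200 (by decide)
    obtain ⟨q, hq, hqe⟩ := hg 200 (by simp [aList])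
    have hqout : q ∈ eightList := by
      have hs := of_all aList_split.1 hq
      simp only [Bool.or_eq_true, beq_iff_eq, List.contains_iff_mem] at hs
      by_contra hne
      have hqQ : inQm q = true := by
        have := of_all aList_split.2.2.2 hq
        simp only [beq_iff_eq] at this
        rw [this]
        simpa [hne] using hs
      have hqE := h3 200 (by norm_num) q (aList_lt hq) (by decide +kernel) hqQ hqe
      have hback : ∀ w ∈ eList, ∃ w' ∈ eList, g * φ w' * g⁻¹ = φ w := by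
        refine D.sends_surj (by decide) (by decide) le_rfl (by decide) fun w hw => ?_
        simp only [eList, List.mem_cons, List.not_mem_nil, or_false] at hw
        rcases hw with rfl | rfl | rfl | rfl
        · exact ⟨0, by simp [eList], by rw [D.one]; group⟩
        · exact ⟨100, by simp [eList], by rw [D.zc, h1]⟩
        · exact ⟨48, by simp [eList], by rw [h2, D.zc]⟩
        · refine ⟨148, by simp [eList], ?_⟩
          have e148 : φ 148 = z * φ 100 := by
            rw [← D.zc, ← D.mul _ (by norm_num) _ (by norm_num), show mmul 48 100 = 148 by decide +kernel]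
          rw [e148, show g * (z * φ 100) * g⁻¹ = (g * z * g⁻¹) * (g * φ 100 * g⁻¹) by group, h1]
          rw [h2, D.comm_z (by norm_num)]
      obtain ⟨w, hw, hwe⟩ := hback q hqE
      have hwl : w < 1152 := (eList_sub hw).2.2
      have := D.inj w hwl 200 (by norm_num) (mul_left_cancel (a := g) (mul_right_cancel (hwe.trans hqe.symm)))
      rw [this] at hw
      simp [eList] at hw
    have hp1 := of_all parts_trans.2 hqout
    simp only [List.any_eq_true, List.mem_range, Bool.and_eq_true, beq_iff_eq] at hp1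
    obtain ⟨h', hh', hhe', hf'⟩ := hp1
    refine step 1 (by norm_num) (of_all parts_trans.2 h) ((φ h')⁻¹ * (g * k))
      (((D.fixA_of_code hh' hf').inv D).mul (hg.mul hk)) ?_
    rw [show (φ h')⁻¹ * (g * k) * z * ((φ h')⁻¹ * (g * k))⁻¹ = (φ h')⁻¹ * (g * (k * z * k⁻¹) * g⁻¹) * φ h' by group,
      hkz, hqe, ← hhe', D.conj hh' (by norm_num)]
    group

variable [Finite G]

/-- Every involution of the centraliser is conjugate to `z`. -/
theorem Data.isConj_of_code (D : Data z φ) {p : ℕ} (hp : p < 1152) (h2 : mmul p p = 0) (hp0 : p ≠ 0) :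
    IsConj z (φ p) := by
  have := of_range_all invol_cases hp
  simp only [h2, bne_self_eq_false, Bool.false_or, Bool.or_eq_true, beq_iff_eq, hp0, false_or, List.any_eq_true,
    List.mem_range] at this
  obtain ⟨h, hh, hc⟩ := this
  have main : IsConj z (φ (mconj h p)) := by
    rcases hc with ((e | e) | e) | e <;> rw [e]
    · rw [D.zc]
    · obtain ⟨g, -, hg⟩ := D.trans_A (p := 100) (by simp [aList]) (by norm_num)
      exact isConj_iff.2 ⟨g, hg⟩
    · obtain ⟨g, -, hg⟩ := D.trans_A (p := 1) (by simp [aList]) (by norm_num)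
      exact isConj_iff.2 ⟨g, hg⟩
    · obtain ⟨g, -, hg⟩ := D.twisted.trans_A (p := 1) (by simp [aList]) (by norm_num)
      refine isConj_iff.2 ⟨g, hg.trans ?_⟩
      show φ (twist 1) = φ 3
      rw [show twist 1 = 3 by decide +kernel]
  exact main.trans (isConj_iff.2 ⟨(φ h)⁻¹, by rw [D.conj hh hp]; group⟩)

theorem Data.card_cent (D : Data z φ) : Nat.card ↥(Subgroup.centralizer ({z} : Set G)) = 1152 := by
  have e : Fin 1152 ≃ ↥(Subgroup.centralizer ({z} : Set G)) :=
    Equiv.ofBijective (fun i => ⟨φ i, Subgroup.mem_centralizer_singleton_iff.2 (D.comm_z i.2)⟩)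
      ⟨fun i j e => Fin.ext (D.inj _ i.2 _ j.2 (congrArg Subtype.val e)), fun ⟨c, hc⟩ => by
        obtain ⟨x, hx, rfl⟩ := (D.cent c).1 (Subgroup.mem_centralizer_singleton_iff.1 hc)
        exact ⟨⟨x, hx⟩, rfl⟩⟩
  rw [← Nat.card_congr e, Nat.card_eq_fintype_card, Fintype.card_fin]

/-- A Sylow 2-subgroup of the centraliser is one of the group. -/
theorem Data.exists_sylow (D : Data z φ) : ∃ P : Sylow 2 G,
    (P : Subgroup G) ≤ Subgroup.centralizer ({z} : Set G) := by
  haveI : Fact (Nat.Prime 2) := ⟨Nat.prime_two⟩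
  obtain ⟨C, hC⟩ : ∃ C, Subgroup.centralizer ({z} : Set G) = C := ⟨_, rfl⟩
  -- the quaternion product is a normal 2-subgroup of the centraliser
  have hQcl : ((List.range 1152).filter inQm).all (fun q => mmul q q == 0 || mmul (mmul q q) (mmul q q) == 0) = true ∧
      ((List.range 1152).filter inQm).all (fun q => ((List.range 1152).filter inQm).all
        fun r => inQm (mmul q r)) = true ∧
      ((List.range 1152).filter inQm).all (fun q => inQm (minv q)) = true ∧
      ([96, 384, 4, 16, 1, 2].all fun g => ((List.range 1152).filter inQm).all fun q => inQm (mconj g q)) = true := by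
    decide +kernel
  have hmemQ : ∀ q, q < 1152 → inQm q = true → q ∈ (List.range 1152).filter inQm := fun q hq h =>
    List.mem_filter.2 ⟨List.mem_range.2 hq, h⟩
  let Qz : Subgroup G :=
    { carrier := {g | ∃ q < 1152, inQm q = true ∧ φ q = g}
      one_mem' := ⟨0, by norm_num, by decide +kernel, D.one⟩
      mul_mem' := by
        rintro _ _ ⟨q, hq, hqQ, rfl⟩ ⟨r, hr, hrQ, rfl⟩
        exact ⟨mmul q r, mmul_lt hq hr, of_all (of_all hQcl.2.1 (hmemQ q hq hqQ)) (hmemQ r hr hrQ), D.mul q hq r hr⟩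
      inv_mem' := by
        rintro _ ⟨q, hq, hqQ, rfl⟩
        exact ⟨minv q, minv_lt hq, of_all hQcl.2.2.1 (hmemQ q hq hqQ), D.inv hq⟩ }
  have hQp : IsPGroup 2 Qz := by
    rintro ⟨_, q, hq, hqQ, rfl⟩
    refine ⟨2, Subtype.ext ?_⟩
    have := of_all hQcl.1 (hmemQ q hq hqQ)
    simp only [Bool.or_eq_true, beq_iff_eq] at this
    show φ q ^ (2 ^ 2) = 1
    rw [show (2 : ℕ) ^ 2 = 2 * 2 by norm_num, pow_mul, sq, sq, ← D.mul _ hq _ hq,
      ← D.mul _ (mmul_lt hq hq) _ (mmul_lt hq hq)]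
    rcases this with e | e
    · rw [e, show mmul 0 0 = 0 by decide +kernel, D.one]
    · rw [e, D.one]
  have hQn : ∀ c ∈ C, ∀ g ∈ Qz, c * g * c⁻¹ ∈ Qz := by
    intro c hc g hg
    rw [← hC, Subgroup.mem_centralizer_singleton_iff] at hc
    obtain ⟨h, hh, rfl⟩ := (D.cent c).1 hc
    obtain ⟨q, hq, hqQ, rfl⟩ := hg
    have hP : ∀ a < 1152, ∀ r < 1152, inQm r = true → inQm (mconj a r) = true := by
      refine mgen_induction ?_ ?_
      · intro g hg r hr hrQ
        exact of_all (of_all hQcl.2.2.2 hg) (hmemQ r hr hrQ)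
      · intro a ha b hb pa pb r hr hrQ
        rw [show mconj (mmul a b) r = mconj a (mconj b r) from D.inj _ (mconj_lt (mmul_lt ha hb) hr) _
          (mconj_lt ha (mconj_lt hb hr)) (by
            rw [D.conj (mmul_lt ha hb) hr, D.conj ha (mconj_lt hb hr), D.conj hb hr, D.mul _ ha _ hb]; group)]
        exact pa _ (mconj_lt hb hr) (pb r hr hrQ)
    exact ⟨mconj h q, mconj_lt hh hq, hP h hh q hq hqQ, D.conj hh hq⟩
  obtain ⟨P₀⟩ : Nonempty (Sylow 2 ↥C) := inferInstance
  have hQC : Qz ≤ C := by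
    rintro _ ⟨q, hq, -, rfl⟩
    rw [← hC, Subgroup.mem_centralizer_singleton_iff]
    exact D.comm_z hq
  have hQP : Qz ≤ (P₀ : Subgroup ↥C).map C.subtype := by
    haveI : (Qz.subgroupOf C).Normal := ⟨fun n hn c => hQn c c.2 n hn⟩
    have : Qz.subgroupOf C ≤ (P₀ : Subgroup ↥C) :=
      IsPGroup.le_sylow_of_normal (N := Qz.subgroupOf C) hQp.comap_subtype P₀
    intro g hg
    exact ⟨⟨g, hQC hg⟩, this hg, rfl⟩
  obtain ⟨P, hP⟩ := (P₀.2.map C.subtype).exists_le_sylow
  refine ⟨P, ?_⟩
  haveI : Nontrivial (P : Subgroup G) := ⟨⟨z, hP (hQP ⟨48, by norm_num, by decide +kernel, D.zc⟩)⟩, 1,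
    fun e => D.z_ne (congrArg Subtype.val e)⟩
  obtain ⟨y, hy⟩ := (nontrivial_iff_exists_ne (1 : Subgroup.center (P : Subgroup G))).1
    P.2.center_nontrivial
  have hyz : ((y : (P : Subgroup G)) : G) = z := by
    have hyc : ∀ g ∈ Qz, ((y : (P : Subgroup G)) : G) * g = g * (y : (P : Subgroup G)) := fun g hg =>
      (congrArg Subtype.val (Subgroup.mem_center_iff.1 y.2 ⟨g, hP (hQP hg)⟩)).symm
    obtain ⟨h, hh, hhe⟩ := (D.cent _).1 (hyc z ⟨48, by norm_num, by decide +kernel, D.zc⟩)
    obtain ⟨cq, i1, i2, i3, i4⟩ := cent_q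
    have := of_range_all cq hh
    simp only [Bool.or_eq_true, beq_iff_eq, List.any_eq_true, bne_iff_ne] at this
    rcases this with (rfl | rfl) | ⟨q, hq, hne⟩
    · rw [D.one] at hhe
      exact absurd (Subtype.ext (Subtype.ext hhe.symm)) hy
    · rw [← hhe, D.zc]
    · exfalso
      have hq' : q < 1152 ∧ inQm q = true := by
        simp only [List.mem_cons, List.not_mem_nil, or_false] at hq
        rcases hq with rfl | rfl | rfl | rfl <;> exact ⟨by norm_num, by assumption⟩
      exact hne ((D.commute_iff hh hq'.1).1 (hhe ▸ hyc _ ⟨q, hq'.1, hq'.2, rfl⟩))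
  intro g hg
  rw [Subgroup.mem_centralizer_singleton_iff, ← hyz]
  exact congrArg Subtype.val (Subgroup.mem_center_iff.1 y.2 ⟨g, hg⟩)

/-- There is one class of involutions. -/
theorem Data.one_class (D : Data z φ) {t : G} (ht : orderOf t = 2) : IsConj z t := by
  haveI : Fact (Nat.Prime 2) := ⟨Nat.prime_two⟩
  obtain ⟨P, hP⟩ := D.exists_sylow
  have htp : IsPGroup 2 (Subgroup.zpowers t) := IsPGroup.of_card (n := 1) (by rw [Nat.card_zpowers, ht, pow_one])
  obtain ⟨R, hR⟩ := htp.exists_le_sylow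
  obtain ⟨g, rfl⟩ := MulAction.exists_smul_eq G R P
  have hmem : g * t * g⁻¹ ∈ Subgroup.centralizer ({z} : Set G) := hP (by
    rw [Sylow.coe_subgroup_smul]
    exact ⟨t, hR (Subgroup.mem_zpowers t), rfl⟩)
  obtain ⟨p, hp, hpe⟩ := (D.cent _).1 (Subgroup.mem_centralizer_singleton_iff.1 hmem)
  have htt : t * t = 1 := by rw [← sq, ← ht, pow_orderOf_eq_one]
  have hp2 : mmul p p = 0 := (D.sq_iff hp).1 (by
    rw [hpe, show g * t * g⁻¹ * (g * t * g⁻¹) = g * (t * t) * g⁻¹ by group, htt]; group)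
  have hp0 : p ≠ 0 := fun e => by
    rw [e, D.one, eq_comm, conj_eq_one_iff] at hpe
    rw [hpe, orderOf_one] at ht
    omega
  exact (D.isConj_of_code hp hp2 hp0).trans (hpe ▸ isConj_iff.2 ⟨g⁻¹, by group⟩)

end CfsgU43Type
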