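import Cfsg.Agent.Lib.U43Type.Checks

/-!
Groups of U₄(3) type: kernel checks on the product of two copies of `SL₂(3)`.
-/

set_option autoImplicit false
set_option maxRecDepth 100000
set_option Elab.async false

namespace CfsgU43Type

theorem sneg : ∀ a < 24, (a < 12 → smul a 12 = a + 12) ∧ smul 12 a = (a + 12) % 24 ∧ smul a 12 = smul 12 a := by
  decide +kernel

theorem smul_gens : ∀ a < 24, ((List.range 24).any fun b =>
    (List.range 24).any fun c => a == smul (smul b b) (smul c c)) = true := by decide +kernel

theorem sinvol : ∀ a < 24, (smul a a != 0 || a == 0 || a == 12) = true := by decide +kernel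

theorem saut_fix : ∀ p < 24, saut p 0 = 0 ∧ saut p 12 = 12 := by decide +kernel

theorem kc_lt : ∀ a < 24, ∀ b < 24, kc a b < 288 := by decide +kernel

theorem kapp_lt : ((List.range 1152).all fun P =>
    [0, 1, 4, 24, 96, 12, 25, 50].all fun x => decide (kapp P x < 288)) = true := by decide +kernel

/-- The elements of the quaternion product. -/
def qList : List ℕ :=
  [0, 1, 2, 3, 12, 13, 14, 15, 24, 25, 26, 27, 36, 37, 38, 39, 48, 49, 50, 51, 60, 61, 62, 63, 72, 73, 74, 75, 84, 85, 86, 87]

theorem qList_eq : (List.range 288).filter inQ = qList := by decide +kernel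

theorem qList_closed : (qList.all fun x => qList.all fun y => inQ (kmul x y)) = true ∧
    (qList.all fun x => inQ (kinv x)) = true ∧ (qList.all fun x => kgens.all fun g => inQ (kconj g x)) = true ∧
    qList.length = 32 ∧ inQ 0 = true ∧ inQ 12 = true ∧ inQ 24 = true ∧ inQ 1 = true ∧ inQ 25 = true ∧
    inQ 50 = true := by
  decide +kernel

theorem kapp_inQ : ((List.range 1152).all fun P => qList.all fun x => inQ (kapp P x)) = true := by decide +kernel

theorem qList_center : (qList.all fun x => x == 0 || x == 12 || qList.any fun y => kmul x y != kmul y x) = true ∧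
    (qList.all fun x => kmul x x == 0 || kmul x x == 12) = true := by
  decide +kernel

theorem two_power_inQ : ((List.range 288).all fun x =>
    let y₁ := kmul x x; let y₂ := kmul y₁ y₁; let y₃ := kmul y₂ y₂; let y₄ := kmul y₃ y₃
    kmul y₄ y₄ != 0 || inQ x) = true := by
  decide +kernel

theorem q_power : (qList.all fun x => kmul (kmul x x) (kmul x x) == 0) = true := by decide +kernel

theorem sdecomp : ∀ a < 24, a = smul (smul (a % 4) (a % 12 - a % 4)) (if a < 12 then 0 else 12) ∧
    smul 4 (smul 4 4) = 0 ∧ smul 4 4 = 8 ∧ smul 1 1 = 12 ∧ smul (smul 4 1) 8 = 2 ∧ smul 1 2 = 3 := by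
  decide +kernel

/-- The pairs of elements of `K` satisfying the relations of the generators of a factor. -/
def relPairs : List (ℕ × ℕ) :=
  [(1, 4), (1, 9), (1, 11), (1, 19), (1, 100), (1, 105), (1, 107), (1, 115), (1, 127), (1, 136), (1, 141), (1,
   143), (1, 151), (1, 160), (1, 165), (1, 167), (1, 175), (1, 184), (1, 189), (1, 191), (1, 196), (1, 201),
   (1, 203), (1, 211), (1, 220), (1, 225), (1, 227), (1, 235), (1, 244), (1, 249), (1, 251), (1, 259), (1,
   268), (1, 273), (1, 275), (1, 283), (2, 4), (2, 9), (2, 10), (2, 17), (2, 100), (2, 105), (2, 106), (2,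
   113), (2, 125), (2, 136), (2, 141), (2, 142), (2, 149), (2, 160), (2, 165), (2, 166), (2, 173), (2, 184),
   (2, 189), (2, 190), (2, 196), (2, 201), (2, 202), (2, 209), (2, 220), (2, 225), (2, 226), (2, 233), (2,
   244), (2, 249), (2, 250), (2, 257), (2, 268), (2, 273), (2, 274), (2, 281), (3, 4), (3, 10), (3, 11), (3,
   18), (3, 100), (3, 106), (3, 107), (3, 114), (3, 126), (3, 136), (3, 142), (3, 143), (3, 150), (3, 160),
   (3, 166), (3, 167), (3, 174), (3, 184), (3, 190), (3, 191), (3, 196), (3, 202), (3, 203), (3, 210), (3,
   220), (3, 226), (3, 227), (3, 234), (3, 244), (3, 250), (3, 251), (3, 258), (3, 268), (3, 274), (3, 275),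
   (3, 282), (13, 8), (13, 10), (13, 17), (13, 18), (13, 104), (13, 106), (13, 113), (13, 114), (13, 125),
   (13, 126), (13, 140), (13, 142), (13, 149), (13, 150), (13, 164), (13, 166), (13, 173), (13, 174), (13,
   188), (13, 190), (13, 200), (13, 202), (13, 209), (13, 210), (13, 224), (13, 226), (13, 233), (13, 234),
   (13, 248), (13, 250), (13, 257), (13, 258), (13, 272), (13, 274), (13, 281), (13, 282), (14, 8), (14, 11),
   (14, 18), (14, 19), (14, 104), (14, 107), (14, 114), (14, 115), (14, 126), (14, 127), (14, 140), (14, 143),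
   (14, 150), (14, 151), (14, 164), (14, 167), (14, 174), (14, 175), (14, 188), (14, 191), (14, 200), (14,
   203), (14, 210), (14, 211), (14, 224), (14, 227), (14, 234), (14, 235), (14, 248), (14, 251), (14, 258),
   (14, 259), (14, 272), (14, 275), (14, 282), (14, 283), (15, 8), (15, 9), (15, 17), (15, 19), (15, 104),
   (15, 105), (15, 113), (15, 115), (15, 125), (15, 127), (15, 140), (15, 141), (15, 149), (15, 151), (15,
   164), (15, 165), (15, 173), (15, 175), (15, 188), (15, 189), (15, 200), (15, 201), (15, 209), (15, 211),
   (15, 224), (15, 225), (15, 233), (15, 235), (15, 248), (15, 249), (15, 257), (15, 259), (15, 272), (15,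
   273), (15, 281), (15, 283), (24, 96), (24, 100), (24, 104), (24, 105), (24, 106), (24, 107), (24, 113),
   (24, 114), (24, 115), (24, 173), (24, 174), (24, 175), (24, 180), (24, 184), (24, 188), (24, 189), (24,
   190), (24, 191), (24, 216), (24, 220), (24, 224), (24, 225), (24, 226), (24, 227), (24, 233), (24, 234),
   (24, 235), (24, 264), (24, 268), (24, 272), (24, 273), (24, 274), (24, 275), (24, 281), (24, 282), (24,
   283), (36, 125), (36, 126), (36, 127), (36, 132), (36, 136), (36, 140), (36, 141), (36, 142), (36, 143),
   (36, 149), (36, 150), (36, 151), (36, 156), (36, 160), (36, 164), (36, 165), (36, 166), (36, 167), (36,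
   192), (36, 196), (36, 200), (36, 201), (36, 202), (36, 203), (36, 209), (36, 210), (36, 211), (36, 240),
   (36, 244), (36, 248), (36, 249), (36, 250), (36, 251), (36, 257), (36, 258), (36, 259), (48, 96), (48,
   100), (48, 104), (48, 105), (48, 106), (48, 107), (48, 113), (48, 114), (48, 115), (48, 125), (48, 126),
   (48, 127), (48, 132), (48, 136), (48, 140), (48, 141), (48, 142), (48, 143), (48, 216), (48, 220), (48,
   224), (48, 225), (48, 226), (48, 227), (48, 233), (48, 234), (48, 235), (48, 240), (48, 244), (48, 248),
   (48, 249), (48, 250), (48, 251), (48, 257), (48, 258), (48, 259), (60, 149), (60, 150), (60, 151), (60,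
   156), (60, 160), (60, 164), (60, 165), (60, 166), (60, 167), (60, 173), (60, 174), (60, 175), (60, 180),
   (60, 184), (60, 188), (60, 189), (60, 190), (60, 191), (60, 192), (60, 196), (60, 200), (60, 201), (60,
   202), (60, 203), (60, 209), (60, 210), (60, 211), (60, 264), (60, 268), (60, 272), (60, 273), (60, 274),
   (60, 275), (60, 281), (60, 282), (60, 283), (72, 96), (72, 100), (72, 104), (72, 105), (72, 106), (72,
   107), (72, 113), (72, 114), (72, 115), (72, 149), (72, 150), (72, 151), (72, 156), (72, 160), (72, 164),
   (72, 165), (72, 166), (72, 167), (72, 240), (72, 244), (72, 248), (72, 249), (72, 250), (72, 251), (72,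
   257), (72, 258), (72, 259), (72, 264), (72, 268), (72, 272), (72, 273), (72, 274), (72, 275), (72, 281),
   (72, 282), (72, 283), (84, 125), (84, 126), (84, 127), (84, 132), (84, 136), (84, 140), (84, 141), (84,
   142), (84, 143), (84, 173), (84, 174), (84, 175), (84, 180), (84, 184), (84, 188), (84, 189), (84, 190),
   (84, 191), (84, 192), (84, 196), (84, 200), (84, 201), (84, 202), (84, 203), (84, 209), (84, 210), (84,
   211), (84, 216), (84, 220), (84, 224), (84, 225), (84, 226), (84, 227), (84, 233), (84, 234), (84, 235)]

theorem relPairs_complete : ((((List.range 288).filter fun x => kmul x x == 12)).all fun x =>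
    ((List.range 288).filter fun y => y != 0 && kmul y (kmul y y) == 0).all fun y =>
      kmul (kmul x y) (kmul (kmul x y) (kmul x y)) != 12 || relPairs.contains (x, y)) = true := by
  decide +kernel

/-- The elements with square the central involution. -/
def kRoots : List ℕ :=
  [1, 2, 3, 13, 14, 15, 24, 36, 48, 60, 72, 84]

/-- The elements of order three. -/
def kThree : List ℕ :=
  [4, 8, 9, 10, 11, 17, 18, 19, 96, 100, 104, 105, 106, 107, 113, 114, 115, 125, 126, 127, 132, 136, 140, 141,
   142, 143, 149, 150, 151, 156, 160, 164, 165, 166, 167, 173, 174, 175, 180, 184, 188, 189, 190, 191, 192,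
   196, 200, 201, 202, 203, 209, 210, 211, 216, 220, 224, 225, 226, 227, 233, 234, 235, 240, 244, 248, 249,
   250, 251, 257, 258, 259, 264, 268, 272, 273, 274, 275, 281, 282, 283]

theorem kRoots_eq : (List.range 288).filter (fun x => kmul x x == 12) = kRoots := by decide +kernel

theorem kThree_eq : (List.range 288).filter (fun y => y != 0 && kmul y (kmul y y) == 0) = kThree := by decide +kernel

/-- Two commuting generating pairs come from an automorphism. -/
theorem pairs_cases : (relPairs.all fun p => kRoots.all fun x =>
    kmul p.1 x != kmul x p.1 || kmul p.2 x != kmul x p.2 || kThree.all fun y =>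
      kmul p.1 y != kmul y p.1 || kmul p.2 y != kmul y p.2 ||
        kmul (kmul x y) (kmul (kmul x y) (kmul x y)) != 12 ||
          (List.range 2).any fun s => (List.range 24).any fun i =>
            kapp (576 * s + 24 * i) 24 == p.1 && kapp (576 * s + 24 * i) 96 == p.2 &&
              (List.range 24).any fun j =>
                kapp (576 * s + 24 * i + j) 24 == p.1 && kapp (576 * s + 24 * i + j) 96 == p.2 &&
                  kapp (576 * s + 24 * i + j) 1 == x && kapp (576 * s + 24 * i + j) 4 == y) = true := by
  decide +kernel

end CfsgU43Type
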