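import Cfsg.Agent.Lib.U43Type.Coord

/-!
Groups of U₄(3) type: kernel checks on the linear group of order 360.
-/

set_option autoImplicit false
set_option maxRecDepth 100000
set_option Elab.async false

namespace CfsgU43Type

theorem lList_ok : lList.length = 360 ∧ lList.Nodup ∧ lList.getD 0 0 = lone ∧
    (lList.all fun L => L == lpack (lcol L 0) (lcol L 1) (lcol L 2) (lcol L 3) &&
      lmul L lone == L && lGens.all fun s => lList.contains (lmul s L)) = true := by
  decide +kernel

theorem lPred_ok : ((List.range 360).all fun i => i == 0 ||
    decide (lPred.getD i 0 / 5 < i) &&
      lList.getD i 0 == lmul (lGens.getD (lPred.getD i 0 % 5) 0) (lList.getD (lPred.getD i 0 / 5) 0)) = true := by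
  decide +kernel

theorem lInvol : (lList.all fun L => lmul L L != lone || L == lone ||
    lList.any fun P => lmul P lZ == lmul L P) = true := by
  decide +kernel

theorem lOrders : (lList.all fun L => lmul L (lmul L L) == lone || lmul (lmul L L) (lmul L L) == lone ||
    lmul L (lmul (lmul L L) (lmul L L)) == lone) = true := by
  decide +kernel

/-- The part of the centraliser of `z` normalising the group of order nine. -/
def nhList : List ℕ := [0, 1, 2, 3, 48, 49, 50, 51]

theorem nh_ok : ((List.range 1152).all fun h => !(tList.all fun p => tList.contains (mconj h p)) ||
    tList.any fun t => nhList.any fun m => mmul t m == h) = true := by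
  decide +kernel

end CfsgU43Type
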