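import Cfsg.Agent.Lib.U43Type.LChecks

/-!
Groups of U₄(3) type: kernel checks on the elements of order three of the linear group of order 360.
-/

set_option autoImplicit false
set_option maxRecDepth 100000
set_option Elab.async false

namespace CfsgU43Type

/-- The elements of order three. -/
def lThree : List ℕ := lList.filter fun L => lmul L (lmul L L) == lone && L != lone

/-- The vectors fixed by a map. -/
def fixVec (L : ℕ) : List ℕ := (List.range 81).filter fun v => lapp L v == v

theorem lThree_fix : (lThree.all fun L => (fixVec L).length == 9 &&
    decide ((lList.filter fun M => lmul M L == lmul L M && lmul M (lmul M M) == lone).length ≤ 9) &&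
    lThree.all fun M => fixVec M != fixVec L || M == L || M == lmul L L) = true := by
  decide +kernel

end CfsgU43Type
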