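import Cfsg.Agent.Lib.U43Type.Setting

/-!
Groups of U₄(3) type: the coordinates on the centraliser of the central involution.
-/

set_option autoImplicit false
set_option maxRecDepth 100000
set_option linter.unusedSectionVars false
set_option linter.unusedSimpArgs false

namespace CfsgU43Type

variable {G : Type*} [Group G] {z : G} {f₁ f₂ : ℕ → G} {σ τ : G}

/-- The representative `r`. -/
def rep (σ τ : G) (r : ℕ) : G :=
  match r with
  | 1 => σ
  | 2 => τ
  | 3 => σ * τ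
  | _ => 1

/-- The element with code `x`. -/
def phi (f₁ f₂ : ℕ → G) (σ τ : G) (x : ℕ) : G := ι f₁ f₂ (x / 4) * rep σ τ (x % 4)

/-- The representatives with their actions, squares and commutator. -/
structure Lifts (z : G) (f₁ f₂ : ℕ → G) (σ τ : G) : Prop where
  two : Two z f₁ f₂
  zσ : σ * z = z * σ
  zτ : τ * z = z * τ
  actσ : Acts f₁ f₂ σ swapCode
  actτ : Acts f₁ f₂ τ tauCode
  sqσ : σ * σ = 1
  sqτ : τ * τ = z
  comm : σ * τ = τ * σ * z

theorem ract_lt {r x : ℕ} (hx : x < 288) : ract r x < 288 := by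
  have hs : swapCode < 1152 ∧ tauCode < 1152 := by decide
  unfold ract
  split
  exacts [kapp_lt' hs.1 hx, kapp_lt' hs.2 hx, kapp_lt' hs.1 (kapp_lt' hs.2 hx), hx]

theorem mmul_lt {x y : ℕ} (hx : x < 1152) (hy : y < 1152) : mmul x y < 1152 := by
  have h1 : kmul (kmul (x / 4) (ract (x % 4) (y / 4))) (rcorr (x % 4) (y % 4)) < 288 :=
    kmul_lt (kmul_lt (by omega) (ract_lt (by omega))) (by unfold rcorr; split_ifs <;> norm_num)
  have h2 : (x % 4) ^^^ (y % 4) < 4 := Nat.xor_lt_two_pow (n := 2) (by omega) (by omega)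
  unfold mmul
  omega

theorem Lifts.rep_conj (L : Lifts z f₁ f₂ σ τ) {r : ℕ} (hr : r < 4) {k : ℕ} (hk : k < 288) :
    rep σ τ r * ι f₁ f₂ k = ι f₁ f₂ (ract r k) * rep σ τ r := by
  have hA : ∀ (c : G) (P : ℕ), Acts f₁ f₂ c P → ∀ m < 288, c * ι f₁ f₂ m = ι f₁ f₂ (kapp P m) * c :=
    fun c P h m hm => mul_inv_eq_iff_eq_mul.1 (h m hm)
  interval_cases r
  · simp [rep, ract]
  · exact hA σ _ L.actσ k hk
  · exact hA τ _ L.actτ k hk
  · show σ * τ * ι f₁ f₂ k = ι f₁ f₂ (kapp swapCode (kapp tauCode k)) * (σ * τ)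
    rw [mul_assoc, hA τ _ L.actτ k hk, ← mul_assoc, hA σ _ L.actσ _ (kapp_lt' (by decide) hk), mul_assoc]

theorem Lifts.rep_mul (L : Lifts z f₁ f₂ σ τ) {r r' : ℕ} (hr : r < 4) (hr' : r' < 4) :
    rep σ τ r * rep σ τ r' = ι f₁ f₂ (rcorr r r') * rep σ τ (r ^^^ r') := by
  have h0 := L.two.ι_zero
  have hz := L.two.ι_twelve
  have hzz : z * z = 1 := by
    rw [← hz, ← L.two.ι_mul (by norm_num) (by norm_num), show kmul 12 12 = 0 by decide +kernel, h0]
  have e1 : τ * σ = z * (σ * τ) := by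
    rw [L.comm, ← mul_assoc z, ← mul_assoc z, ← L.zτ, mul_assoc τ z σ, ← L.zσ, mul_assoc, mul_assoc, hzz, mul_one]
  have a1 : ∀ g, σ * (σ * g) = g := fun g => by rw [← mul_assoc, L.sqσ, one_mul]
  have a2 : ∀ g, τ * (τ * g) = z * g := fun g => by rw [← mul_assoc, L.sqτ]
  have a3 : ∀ g, τ * (σ * g) = z * (σ * (τ * g)) := fun g => by rw [← mul_assoc, e1, mul_assoc, mul_assoc]
  have a4 : ∀ g, σ * (z * g) = z * (σ * g) := fun g => by rw [← mul_assoc, L.zσ, mul_assoc]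
  have a5 : ∀ g, z * (z * g) = g := fun g => by rw [← mul_assoc, hzz, one_mul]
  have c0 : ∀ x, x < 4 → rcorr 0 x = 0 := by decide
  have c1 : ∀ x, x < 4 → rcorr 1 x = 0 := by decide
  interval_cases r <;> interval_cases r' <;>
    simp only [rep, rcorr, Nat.reduceXor, h0, hz, one_mul, mul_one, mul_assoc, a1, a2, a3, a4, a5, e1, L.sqσ, L.sqτ,
      L.zσ, L.zτ, hzz, if_true, if_false, and_true, true_and, and_false, false_and, or_true, or_false, false_or,
      true_or, le_refl, OfNat.ofNat_ne_zero, Nat.reduceEqDiff, Nat.reduceLeDiff] <;> norm_num [h0, hz, a1, a2, a3,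
      a4, a5, e1, L.sqσ, L.sqτ, L.zσ, L.zτ, hzz, mul_assoc]

theorem Lifts.phi_mul (L : Lifts z f₁ f₂ σ τ) {x y : ℕ} (hx : x < 1152) (hy : y < 1152) :
    phi f₁ f₂ σ τ (mmul x y) = phi f₁ f₂ σ τ x * phi f₁ f₂ σ τ y := by
  obtain ⟨r, hr, hre⟩ : ∃ r < 4, x % 4 = r := ⟨_, Nat.mod_lt _ (by norm_num), rfl⟩
  obtain ⟨r', hr', hre'⟩ : ∃ r < 4, y % 4 = r := ⟨_, Nat.mod_lt _ (by norm_num), rfl⟩
  have hk : x / 4 < 288 := by omega
  have hk' : y / 4 < 288 := by omega
  have hl : rcorr r r' < 288 := by unfold rcorr; split_ifs <;> norm_num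
  have hx2 : r ^^^ r' < 4 := Nat.xor_lt_two_pow (n := 2) hr hr'
  unfold phi mmul
  rw [hre, hre']
  obtain ⟨K, hK⟩ : ∃ K, kmul (kmul (x / 4) (ract r (y / 4))) (rcorr r r') = K := ⟨_, rfl⟩
  rw [hK, show (4 * K + (r ^^^ r')) / 4 = K by omega, show (4 * K + (r ^^^ r')) % 4 = r ^^^ r' by omega, ← hK,
    L.two.ι_mul (kmul_lt hk (ract_lt hk')) hl, L.two.ι_mul hk (ract_lt hk'), mul_assoc, ← L.rep_mul hr hr',
    mul_assoc, mul_assoc, ← mul_assoc (ι f₁ f₂ (ract r (y / 4))), ← L.rep_conj hr hk', mul_assoc]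

/-- The outer representatives do not act as elements of `K`. -/
theorem ract_not_inner : ([1, 2, 3].all fun r => (List.range 288).all fun k =>
    kgens.any fun g => kconj k g != ract r g) = true := by
  decide +kernel

theorem Lifts.phi_inj (L : Lifts z f₁ f₂ σ τ) {x y : ℕ} (hx : x < 1152) (hy : y < 1152)
    (e : phi f₁ f₂ σ τ x = phi f₁ f₂ σ τ y) : x = y := by
  have hk : x / 4 < 288 := by omega
  have hk' : y / 4 < 288 := by omega
  have main : ∀ r < 4, r ≠ 0 → ∀ k < 288, rep σ τ r ≠ ι f₁ f₂ k := by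
    intro r hr hr0 k hk he
    have h1 : r ∈ ([1, 2, 3] : List ℕ) := by
      simp only [List.mem_cons, List.not_mem_nil, or_false]; omega
    obtain ⟨g, hg, hne⟩ := List.any_eq_true.1 (of_range_all (of_all ract_not_inner h1) hk)
    have hg' : g < 288 := by
      simp only [kgens, List.mem_cons, List.not_mem_nil, or_false] at hg; omega
    simp only [bne_iff_ne, ne_eq] at hne
    refine hne (L.two.ι_inj (kconj_lt hk hg') (ract_lt hg') ?_)
    rw [L.two.ι_conj hk hg', ← he, L.rep_conj hr hg', mul_inv_cancel_right]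
  unfold phi at e
  by_cases hr : x % 4 = y % 4
  · rw [hr] at e
    have := L.two.ι_inj hk hk' (mul_right_cancel e)
    omega
  · exfalso
    have hx2 : (x % 4) ^^^ (y % 4) < 4 := Nat.xor_lt_two_pow (n := 2) (by omega) (by omega)
    have hne : (x % 4) ^^^ (y % 4) ≠ 0 := fun h => hr (Nat.xor_eq_zero_iff.1 h)
    have hl : ∀ a b : ℕ, rcorr a b < 288 := fun a b => by unfold rcorr; split_ifs <;> norm_num
    have e2 : rep σ τ (x % 4) * rep σ τ (y % 4) =
        (ι f₁ f₂ (x / 4))⁻¹ * ι f₁ f₂ (y / 4) * (rep σ τ (y % 4) * rep σ τ (y % 4)) := by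
      rw [mul_assoc, ← mul_assoc (ι f₁ f₂ (y / 4)), ← e, mul_assoc, inv_mul_cancel_left]
    rw [L.rep_mul (Nat.mod_lt _ (by norm_num)) (Nat.mod_lt _ (by norm_num)),
      L.rep_mul (Nat.mod_lt _ (by norm_num)) (Nat.mod_lt _ (by norm_num)), Nat.xor_self] at e2
    simp only [show rep σ τ 0 = 1 from rfl, mul_one] at e2
    rw [← L.two.ι_inv hk, ← L.two.ι_mul (kinv_lt hk) hk', ← L.two.ι_mul (kmul_lt (kinv_lt hk) hk') (hl _ _),
      eq_comm, ← inv_mul_eq_iff_eq_mul, ← L.two.ι_inv (hl _ _),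
      ← L.two.ι_mul (kinv_lt (hl _ _)) (kmul_lt (kmul_lt (kinv_lt hk) hk') (hl _ _))] at e2
    exact main _ hx2 hne _ (kmul_lt (kinv_lt (hl _ _)) (kmul_lt (kmul_lt (kinv_lt hk) hk') (hl _ _))) e2.symm

end CfsgU43Type
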