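import Cfsg.Agent.Lib.Basic
import Mathlib.GroupTheory.Sylow
import Mathlib.Tactic.Group

/-!
An elementary substitute for the theorem on strongly embedded subgroups: a coset with many involutions.
-/

set_option autoImplicit false
set_option linter.unusedSectionVars false

namespace CfsgU43Type

variable {X : Type*} [Group X]

open scoped Classical in
/-- A group of even order normalised by an involution has an involution commuting with it. -/
theorem exists_invol_comm [Finite X] (D : Subgroup X) {u : X} (hu : u * u = 1) (hun : ∀ x ∈ D, u * x * u⁻¹ ∈ D)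
    (he : Even (Nat.card D)) : ∃ t ∈ D, orderOf t = 2 ∧ u * t = t * u := by
  haveI := Fintype.ofFinite D
  let c : D → D := fun x => ⟨u * x * u⁻¹, hun x x.2⟩
  have hc2 : ∀ x, c (c x) = x := fun x => Subtype.ext (by
    show u * (u * (x : X) * u⁻¹) * u⁻¹ = x
    rw [show u * (u * (x : X) * u⁻¹) * u⁻¹ = (u * u) * x * (u * u)⁻¹ by group, hu]; group)
  haveI : Fact (Nat.Prime 2) := ⟨Nat.prime_two⟩
  -- the involutions are permuted, and there is an odd number of them
  let S : Finset D := Finset.univ.filter fun x => x * x = 1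
  have hinv : Even S.card := by
    have h2 : ∀ x ∈ (Finset.univ.filter fun x : D => ¬ x * x = 1), x⁻¹ ∈ (Finset.univ.filter fun x : D => ¬ x * x = 1) :=
      fun x hx => by
        simp only [Finset.mem_filter, Finset.mem_univ, true_and] at hx ⊢
        rwa [← mul_inv_rev, inv_eq_one]
    have hsum := Finset.card_filter_add_card_filter_not (s := (Finset.univ : Finset D)) (fun x => x * x = 1)
    have hodd : Even (Finset.univ.filter fun x : D => ¬ x * x = 1).card := by
      obtain ⟨k, hk⟩ : ∃ k, (Finset.univ.filter fun x : D => ¬ x * x = 1).card = k := ⟨_, rfl⟩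
      have : ((Finset.univ.filter fun x : D => ¬ x * x = 1).card : ZMod 2) = 0 := by
        rw [Finset.card_eq_sum_ones, Nat.cast_sum]
        refine Finset.sum_involution (fun x _ => x⁻¹) (fun x _ => CharTwo.add_self_eq_zero _) ?_ h2 (fun x _ => inv_inv x)
        intro x hx _ h
        simp only [Finset.mem_filter, Finset.mem_univ, true_and] at hx
        exact hx (mul_eq_one_iff_eq_inv.2 h.symm)
      exact even_iff_two_dvd.2 ((ZMod.natCast_eq_zero_iff_even.1 this).two_dvd)
    rw [Finset.card_univ, ← Nat.card_eq_fintype_card] at hsum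
    have : S.card + _ = Nat.card D := hsum
    exact (Nat.even_add.1 (this ▸ he)).2 hodd
  by_contra hno
  push Not at hno
  have hone : (1 : D) ∈ S := by simp [S]
  have hfix : ∀ x ∈ S.erase 1, c x ≠ x := fun x hx h => by
    simp only [S, Finset.mem_erase, Finset.mem_filter, Finset.mem_univ, true_and] at hx
    refine hno x x.2 (orderOf_eq_prime (by rw [pow_two]; exact congrArg Subtype.val hx.2)
      fun e => hx.1 (Subtype.ext e)) ?_
    exact mul_inv_eq_iff_eq_mul.1 (congrArg Subtype.val h)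
  have : ((S.erase 1).card : ZMod 2) = 0 := by
    rw [Finset.card_eq_sum_ones, Nat.cast_sum]
    refine Finset.sum_involution (fun x _ => c x) (fun x _ => CharTwo.add_self_eq_zero _) (fun x hx _ => hfix x hx) ?_
      (fun x _ => hc2 x)
    intro x hx
    simp only [S, Finset.mem_erase, Finset.mem_filter, Finset.mem_univ, true_and] at hx ⊢
    refine ⟨fun e => hx.1 ?_, ?_⟩
    · rw [← hc2 x, e]
      exact Subtype.ext (by show u * (1 : X) * u⁻¹ = 1; group)
    · refine Subtype.ext ?_
      show u * (x : X) * u⁻¹ * (u * (x : X) * u⁻¹) = 1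
      rw [show u * (x : X) * u⁻¹ * (u * (x : X) * u⁻¹) = u * ((x * x : D) : X) * u⁻¹ by simp [mul_assoc], hx.2]
      simp
  rw [ZMod.natCast_eq_zero_iff_even, Finset.card_erase_of_mem hone] at this
  obtain ⟨k, hk⟩ := hinv
  obtain ⟨l, hl⟩ := this
  have := Finset.card_pos.2 ⟨1, hone⟩
  omega

open scoped Classical in
/-- If a subgroup containing the centraliser of an involution `z`, all whose involutions are conjugate in it to `z`,
is proper, an involution outside inverts many elements of an odd subgroup that it normalises. -/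
theorem coset_many_inverted [Finite X] (M : Subgroup X) {z : X} (hz : orderOf z = 2) (hzM : z ∈ M)
    (hconj : ∀ t ∈ M, orderOf t = 2 → ∃ m ∈ M, m * z * m⁻¹ = t)
    (hC : Subgroup.centralizer ({z} : Set X) ≤ M) (hne : M ≠ ⊤) :
    ∃ u : X, u ∉ M ∧ orderOf u = 2 ∧ (∃ g : X, g * z * g⁻¹ = u) ∧ ∃ D : Subgroup X,
      (∀ x, x ∈ D ↔ x ∈ M ∧ u * x * u⁻¹ ∈ M) ∧ Odd (Nat.card D) ∧ (∀ x ∈ D, u * x * u⁻¹ ∈ D) ∧
      (Subgroup.centralizer ({z} : Set X)).relIndex M ≤ Nat.card {x // x ∈ D ∧ u * x * u⁻¹ = x⁻¹} := by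
  obtain ⟨C, hCdef⟩ : ∃ C, Subgroup.centralizer ({z} : Set X) = C := ⟨_, rfl⟩
  rw [hCdef] at hC ⊢
  obtain ⟨m, hm⟩ : ∃ m, C.relIndex M = m := ⟨_, rfl⟩
  rw [hm]
  haveI := Fintype.ofFinite X
  have mem_C : ∀ g, g ∈ C ↔ g * z = z * g := fun g => by rw [← hCdef]; exact Subgroup.mem_centralizer_singleton_iff
  let K : Finset X := Finset.univ.image fun g => g * z * g⁻¹
  have hKord : ∀ v ∈ K, orderOf v = 2 := fun v hv => by
    obtain ⟨g, -, rfl⟩ := Finset.mem_image.1 hv
    rwa [show orderOf (g * z * g⁻¹) = orderOf z from MulEquiv.orderOf_eq (MulAut.conj g) z]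
  have hconjC : ∀ a b : X, a * z * a⁻¹ = b * z * b⁻¹ → a⁻¹ * b ∈ C := fun a b e => (mem_C _).2 (by
    rw [show a⁻¹ * b * z = a⁻¹ * (b * z * b⁻¹) * b by group, ← e]; group)
  have hK : M.index * m ≤ K.card := by
    rw [← hm, mul_comm, Subgroup.relIndex_mul_index hC, Subgroup.index, Nat.card_eq_fintype_card]
    refine le_trans ?_ (Finset.card_le_card (Finset.image_subset_image (Finset.subset_univ
      (Finset.univ.image (Quotient.out : X ⧸ C → X)))))
    have hinj : Function.Injective ((fun g => g * z * g⁻¹) ∘ (Quotient.out : X ⧸ C → X)) := fun p q h => by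
      have := hconjC _ _ h
      rwa [← QuotientGroup.eq, QuotientGroup.out_eq', QuotientGroup.out_eq'] at this
    rw [Finset.image_image, Finset.card_image_of_injective _ hinj, Finset.card_univ]
    exact le_of_eq (Fintype.card_congr (Equiv.refl _))
  have hin : (K.filter fun v => v ∈ M).card ≤ m := by
    rw [← hm, Subgroup.relIndex, Subgroup.index, Nat.card_eq_fintype_card, ← Finset.card_univ]
    refine le_trans (Finset.card_le_card (t := Finset.univ.image fun q : M ⧸ C.subgroupOf M =>
      (q.out : X) * z * (q.out : X)⁻¹) ?_) Finset.card_image_le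
    intro v hv
    rw [Finset.mem_filter] at hv
    obtain ⟨g, hg, rfl⟩ := hconj v hv.2 (hKord v hv.1)
    refine Finset.mem_image.2 ⟨QuotientGroup.mk ⟨g, hg⟩, Finset.mem_univ _, ?_⟩
    obtain ⟨k, hk⟩ := QuotientGroup.mk_out_eq_mul (C.subgroupOf M) (⟨g, hg⟩ : M)
    rw [hk, Subgroup.coe_mul, show (g * (k : M) : X) * z * (g * (k : M))⁻¹ = g * (((k : M) : X) * z * ((k : M) : X)⁻¹) * g⁻¹
      by group, show ((k : M) : X) * z = z * ((k : M) : X) from (mem_C _).1 k.2, mul_inv_cancel_right]
  by_contra hno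
  push Not at hno
  have hidx : 2 ≤ M.index := by
    rcases Nat.lt_or_ge M.index 2 with h | h
    · have := M.index_ne_zero_of_finite
      exact absurd (Subgroup.index_eq_one.1 (by omega)) hne
    · exact h
  have hout : ∀ q : X ⧸ M, q ≠ QuotientGroup.mk 1 → (K.filter fun v => (QuotientGroup.mk v : X ⧸ M) = q).card + 1 ≤ m := by
    intro q hq
    rcases Finset.eq_empty_or_nonempty (K.filter fun v => (QuotientGroup.mk v : X ⧸ M) = q) with h | ⟨u, hu⟩
    · rw [h, Finset.card_empty]
      have : m ≠ 0 := hm ▸ (C.subgroupOf M).index_ne_zero_of_finite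
      omega
    rw [Finset.mem_filter] at hu
    have huM : u ∉ M := fun h => hq (by rw [← hu.2, QuotientGroup.eq]; simpa using M.inv_mem h)
    have huo := hKord u hu.1
    have huu : u * u = 1 := by rw [← pow_two, ← huo, pow_orderOf_eq_one]
    have hui : u⁻¹ = u := inv_eq_of_mul_eq_one_right huu
    let D : Subgroup X := M ⊓ M.comap (MulAut.conj u).toMonoidHom
    have hD : ∀ x, x ∈ D ↔ x ∈ M ∧ u * x * u⁻¹ ∈ M := fun x => Iff.rfl
    have hDn : ∀ x ∈ D, u * x * u⁻¹ ∈ D := fun x hx => (hD _).2 ⟨((hD x).1 hx).2, by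
      rw [show u * (u * x * u⁻¹) * u⁻¹ = (u * u) * x * (u * u)⁻¹ by group, huu, one_mul, inv_one, mul_one]
      exact ((hD x).1 hx).1⟩
    have hDo : Odd (Nat.card D) := Nat.not_even_iff_odd.1 fun he => by
      obtain ⟨t, ht, hto, htu⟩ := exists_invol_comm D huu hDn he
      obtain ⟨g, hg, hge⟩ := hconj t ((hD t).1 ht).1 hto
      refine huM ?_
      have hc : g⁻¹ * u * g ∈ C := (mem_C _).2 (by
        rw [show g⁻¹ * u * g * z = g⁻¹ * (u * (g * z * g⁻¹)) * g by group, hge, htu, ← hge]; group)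
      have := M.mul_mem (M.mul_mem hg (hC hc)) (M.inv_mem hg)
      rwa [show g * (g⁻¹ * u * g) * g⁻¹ = u by group] at this
    obtain ⟨g, -, hgu⟩ := Finset.mem_image.1 hu.1
    refine Nat.lt_of_le_of_lt ?_ (hno u huM huo ⟨g, hgu⟩ D hD hDo hDn)
    rw [Nat.card_eq_fintype_card, ← Finset.card_univ]
    refine le_trans ?_ (Finset.card_image_le (f := fun x : {x // x ∈ D ∧ u * x * u⁻¹ = x⁻¹} => u * (x : X)))
    refine Finset.card_le_card fun v hv => ?_
    rw [Finset.mem_filter] at hv
    have hvv : v * v = 1 := by rw [← pow_two, ← hKord v hv.1, pow_orderOf_eq_one]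
    have hvi : v⁻¹ = v := inv_eq_of_mul_eq_one_right hvv
    have huv : u * v ∈ M := by
      have := QuotientGroup.eq.1 (hu.2.trans hv.2.symm)
      rwa [hui] at this
    have hinv : u * (u * v) * u⁻¹ = (u * v)⁻¹ := by rw [mul_inv_rev, hui, hvi, ← mul_assoc u u, huu, one_mul]
    exact Finset.mem_image.2 ⟨⟨u * v, (hD _).2 ⟨huv, hinv ▸ M.inv_mem huv⟩, hinv⟩, Finset.mem_univ _, by
      rw [← mul_assoc, huu, one_mul]⟩
  have hsum : K.card ≤ m + (M.index - 1) * (m - 1) := by
    rw [Finset.card_eq_sum_card_fiberwise (f := fun v => (QuotientGroup.mk v : X ⧸ M)) (t := Finset.univ)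
      (fun v _ => Finset.mem_univ _), ← Finset.add_sum_erase _ _ (Finset.mem_univ (QuotientGroup.mk 1 : X ⧸ M))]
    refine Nat.add_le_add (le_trans (Finset.card_le_card fun v hv => ?_) hin) ?_
    · rw [Finset.mem_filter] at hv ⊢
      have h := QuotientGroup.eq.1 hv.2
      refine ⟨hv.1, ?_⟩
      simpa using M.inv_mem h
    · refine (Finset.sum_le_card_nsmul _ _ (m - 1) fun q hq => ?_).trans ?_
      · have := hout q (Finset.ne_of_mem_erase hq)
        omega
      · rw [smul_eq_mul, Finset.card_erase_of_mem (Finset.mem_univ _), Finset.card_univ, ← Nat.card_eq_fintype_card]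
        rfl
  obtain ⟨i, hi⟩ : ∃ i, M.index = i + 2 := ⟨M.index - 2, by omega⟩
  have hm0 : m ≠ 0 := hm ▸ (C.subgroupOf M).index_ne_zero_of_finite
  obtain ⟨j, rfl⟩ : ∃ j, m = j + 1 := ⟨m - 1, by omega⟩
  rw [hi] at hK hsum
  simp only [Nat.add_sub_cancel, show i + 2 - 1 = i + 1 by omega] at hsum
  nlinarith

end CfsgU43Type
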