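import Cfsg.Agent.Lib.U43Type.Base
import Cfsg.Agent.Lib.U43Type.LChecks
import Cfsg.Agent.Lib.U43Type.SE

/-!
Groups of U₄(3) type: the normaliser of the group of order eighty-one acts on it as the linear group of order 360.
-/

set_option autoImplicit false
set_option maxRecDepth 100000
set_option linter.unusedSectionVars false

namespace CfsgU43Type

variable {G : Type*} [Group G] {z : G} {φ : ℕ → G} {B : Subgroup G} {θ : ℕ → G} {e e' : G}

/-- Acting as one of the 360 maps. -/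
def InL (θ : ℕ → G) (g : G) : Prop := ∃ L ∈ lList, VAct θ g L

theorem lone_mem : lone ∈ lList := by decide +kernel

theorem lapp_one {v : ℕ} (hv : v < 81) : lapp lone v = v := by
  have : ((List.range 81).all fun v => lapp lone v == v) = true := by decide +kernel
  simpa using of_range_all this hv

theorem lList_mem {L : ℕ} (hL : L ∈ lList) : lpack (lcol L 0) (lcol L 1) (lcol L 2) (lcol L 3) = L ∧
    lmul L lone = L ∧ ∀ s ∈ lGens, lmul s L ∈ lList := by
  have := of_all lList_ok.2.2.2 hL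
  simp only [Bool.and_eq_true, beq_iff_eq, List.all_eq_true, List.contains_iff_mem] at this
  exact ⟨this.1.1.symm, this.1.2, this.2⟩

theorem VecCoord.act_self (C : VecCoord B θ) {b : G} (hb : b ∈ B) : VAct θ b lone := fun v hv => by
  rw [lapp_one hv, C.comm hb ((C.mem _).2 ⟨v, hv, rfl⟩), mul_inv_cancel_right]

theorem VecCoord.act_unique (C : VecCoord B θ) {g : G} {L L' : ℕ} (h : VAct θ g L) (h' : VAct θ g L')
    (hL : L ∈ lList) (hL' : L' ∈ lList) : L = L' := by
  have key : ∀ u < 81, lapp L u = lapp L' u := fun u hu =>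
    C.inj _ (lapp_lt _ _) _ (lapp_lt _ _) ((h u hu).symm.trans (h' u hu))
  rw [← (lList_mem hL).1, ← (lList_mem hL').1, ← (lapp_unit L).1, ← (lapp_unit L).2.1, ← (lapp_unit L).2.2.1,
    ← (lapp_unit L).2.2.2, key 1 (by norm_num), key 3 (by norm_num), key 9 (by norm_num), key 27 (by norm_num),
    (lapp_unit L').1, (lapp_unit L').2.1, (lapp_unit L').2.2.1, (lapp_unit L').2.2.2]

theorem VecCoord.act_normalize [Finite G] (C : VecCoord B θ) {g : G} {L : ℕ} (h : VAct θ g L) :
    g ∈ Subgroup.normalizer (B : Set G) := by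
  rw [Subgroup.mem_normalizer_iff]
  have hmap : B.map (MulAut.conj g).toMonoidHom ≤ B := by
    rintro _ ⟨x, hx, rfl⟩
    obtain ⟨v, hv, rfl⟩ := (C.mem x).1 hx
    exact (C.mem _).2 ⟨lapp L v, lapp_lt _ _, (h v hv).symm⟩
  have heq : B.map (MulAut.conj g).toMonoidHom = B := Subgroup.eq_of_le_of_card_ge hmap (by
    rw [Subgroup.card_map_of_injective (MulAut.conj g).injective])
  intro x
  refine ⟨fun hx => hmap ⟨x, hx, rfl⟩, fun hx => ?_⟩
  obtain ⟨y, hy, hye⟩ := heq.ge hx
  rwa [show x = y from mul_left_cancel (a := g) (mul_right_cancel (b := g⁻¹) hye.symm)]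

theorem Base.gens (D : Base z φ B θ e e') : ∀ s ∈ lGens, ∃ g : G, VAct θ g s := by
  intro s hs
  simp only [lGens, List.mem_cons, List.not_mem_nil, or_false] at hs
  rcases hs with rfl | rfl | rfl | rfl | rfl
  exacts [⟨_, D.az⟩, ⟨_, D.as⟩, ⟨_, D.at'⟩, ⟨_, D.ae⟩, ⟨_, D.ae'⟩]

/-- Every map is realised. -/
theorem Base.exists_act (D : Base z φ B θ e e') {L : ℕ} (hL : L ∈ lList) : ∃ g : G, VAct θ g L := by
  obtain ⟨i, hi, rfl⟩ := List.mem_iff_getElem.1 hL
  rw [← List.getD_eq_getElem _ 0 hi]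
  replace hi : i < 360 := hi.trans_eq lList_ok.1
  clear hL
  induction i using Nat.strong_induction_on with
  | _ i ih =>
    by_cases h0 : i = 0
    · subst h0
      exact ⟨1, lList_ok.2.2.1.symm ▸ D.coord.act_self B.one_mem⟩
    have := of_range_all lPred_ok hi
    simp only [Bool.or_eq_true, Bool.and_eq_true, decide_eq_true_eq, beq_iff_eq, h0, false_or] at this
    obtain ⟨g, hg⟩ := ih _ this.1 (by rw [lList_ok.1]; omega) (by omega)
    obtain ⟨s, hs⟩ := D.gens (lGens.getD (lPred.getD i 0 % 5) 0) (by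
      have : lPred.getD i 0 % 5 < lGens.length := Nat.mod_lt _ (by norm_num)
      rw [List.getD_eq_getElem _ _ this]
      exact List.getElem_mem _)
    exact ⟨s * g, this.2 ▸ D.coord.act_mul hs hg⟩

/-- An element acting trivially lies in the group. -/
theorem Base.mem_of_act_one (D : Base z φ B θ e e') [Finite G] {c : G} (h : VAct θ c lone) : c ∈ B := by
  have hcom : ∀ x ∈ B, c * x = x * c := fun x hx => by
    obtain ⟨v, hv, rfl⟩ := (D.coord.mem x).1 hx
    exact mul_inv_eq_iff_eq_mul.1 (by rw [h v hv, lapp_one hv])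
  have hT : CommT φ c := ⟨hcom _ (D.data.t_mem_B D.odd (by simp [tList])),
    hcom _ (D.data.t_mem_B D.odd (by simp [tList]))⟩
  refine (D.split c hT).resolve_right fun hcz => ?_
  have h1 : VAct θ (c * z) (lmul lone lZ) := D.coord.act_mul h D.az
  have h2 := h1 9 (by norm_num)
  rw [D.coord.comm hcz ((D.coord.mem _).2 ⟨9, by norm_num, rfl⟩), mul_inv_cancel_right] at h2
  exact absurd (D.coord.inj _ (by norm_num) _ (lapp_lt _ _) h2) (by decide +kernel)

variable [Finite G]

theorem Base.inL_mul (D : Base z φ B θ e e') {g h : G} (hg : InL θ g) (hh : InL θ h) : InL θ (g * h) := by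
  obtain ⟨L, hL, hgL⟩ := hg
  suffices ∀ L ∈ lList, ∃ w : G, VAct θ w L ∧ ∀ x, InL θ x → InL θ (w * x) by
    obtain ⟨w, hw, hwx⟩ := this L hL
    obtain ⟨winv, hwinv⟩ : ∃ b, b ∈ B ∧ g = w * b := by
      refine ⟨w⁻¹ * g, D.mem_of_act_one fun v hv => ?_, by group⟩
      rw [show w⁻¹ * g * θ v * (w⁻¹ * g)⁻¹ = w⁻¹ * (g * θ v * g⁻¹) * w by group, hgL v hv, ← hw v hv, lapp_one hv]
      group
    obtain ⟨M, hM, hhM⟩ := hh
    rw [hwinv.2, mul_assoc]
    refine hwx _ ⟨M, hM, fun v hv => ?_⟩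
    rw [show winv * h * θ v * (winv * h)⁻¹ = winv * (h * θ v * h⁻¹) * winv⁻¹ by group, hhM v hv,
      D.coord.comm hwinv.1 ((D.coord.mem _).2 ⟨_, lapp_lt _ _, rfl⟩), mul_inv_cancel_right]
  clear hgL hh hL
  intro L hL
  obtain ⟨i, hi, rfl⟩ := List.mem_iff_getElem.1 hL
  rw [← List.getD_eq_getElem _ 0 hi]
  replace hi : i < 360 := hi.trans_eq lList_ok.1
  clear hL
  induction i using Nat.strong_induction_on with
  | _ i ih =>
    by_cases h0 : i = 0
    · subst h0
      exact ⟨1, lList_ok.2.2.1.symm ▸ D.coord.act_self B.one_mem, fun x hx => by rwa [one_mul]⟩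
    have := of_range_all lPred_ok hi
    simp only [Bool.or_eq_true, Bool.and_eq_true, decide_eq_true_eq, beq_iff_eq, h0, false_or] at this
    obtain ⟨w, hw, hwx⟩ := ih _ this.1 (by rw [lList_ok.1]; omega) (by omega)
    have hs' : lGens.getD (lPred.getD i 0 % 5) 0 ∈ lGens := by
      have : lPred.getD i 0 % 5 < lGens.length := Nat.mod_lt _ (by norm_num)
      rw [List.getD_eq_getElem _ _ this]
      exact List.getElem_mem _
    obtain ⟨s, hs⟩ := D.gens _ hs'
    refine ⟨s * w, this.2 ▸ D.coord.act_mul hs hw, fun x hx => ?_⟩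
    obtain ⟨M, hM, hxM⟩ := hwx x hx
    exact ⟨lmul _ M, (lList_mem hM).2.2 _ hs', (mul_assoc s w x).symm ▸ D.coord.act_mul hs hxM⟩

/-- The elements acting as one of the 360 maps. -/
def Base.lSub (D : Base z φ B θ e e') : Subgroup G :=
  { carrier := {g | InL θ g}
    one_mem' := ⟨lone, lone_mem, D.coord.act_self B.one_mem⟩
    mul_mem' := fun hg hh => D.inL_mul hg hh
    inv_mem' := fun {g} hg => by
      have key : ∀ n : ℕ, InL θ (g ^ n) := fun n => by
        induction n with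
        | zero => rw [pow_zero]; exact ⟨lone, lone_mem, D.coord.act_self B.one_mem⟩
        | succ n ih => rw [pow_succ]; exact D.inL_mul ih hg
      have e : g⁻¹ = g ^ (orderOf g - 1) := by
        refine inv_eq_of_mul_eq_one_left ?_
        rw [← pow_succ, Nat.sub_add_cancel (orderOf_pos g), pow_orderOf_eq_one]
      show InL θ g⁻¹
      rw [e]; exact key _ }

theorem Base.mem_lSub (D : Base z φ B θ e e') {g : G} : g ∈ D.lSub ↔ InL θ g := Iff.rfl

theorem Base.le_lSub (D : Base z φ B θ e e') : B ≤ D.lSub := fun _ hb => ⟨lone, lone_mem, D.coord.act_self hb⟩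

theorem Base.code_mem (D : Base z φ B θ e e') {m : ℕ} (hm : m ∈ nhList) : φ m ∈ D.lSub := by
  have hg : ∀ p L, VAct θ (φ p) L → L ∈ lGens → φ p ∈ D.lSub := fun p L h hL =>
    ⟨L, by simpa [(lList_mem lone_mem)] using (show L ∈ lList from
      (by decide +kernel : ∀ L ∈ lGens, L ∈ lList) L hL), h⟩
  have h1 := hg 1 lS D.as (by simp [lGens])
  have h2 := hg 2 lT D.at' (by simp [lGens])
  have h48 : φ 48 ∈ D.lSub := hg 48 lZ (D.data.zc.symm ▸ D.az) (by simp [lGens])
  have h3 : φ 3 ∈ D.lSub := by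
    rw [← D.data.code_prod (show 1 < 1152 by norm_num) (show 2 < 1152 by norm_num) (show mmul 1 2 = 3 by decide +kernel)]
    exact D.lSub.mul_mem h1 h2
  have hz : ∀ p q, p < 1152 → φ p ∈ D.lSub → mmul 48 p = q → φ q ∈ D.lSub := fun p q hp h e => by
    rw [← D.data.code_prod (by norm_num) hp e]
    exact D.lSub.mul_mem h48 h
  simp only [nhList, List.mem_cons, List.not_mem_nil, or_false] at hm
  rcases hm with rfl | rfl | rfl | rfl | rfl | rfl | rfl | rfl
  exacts [by rw [D.data.one]; exact D.lSub.one_mem, h1, h2, h3, h48, hz 1 49 (by norm_num) h1 (by decide +kernel),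
    hz 2 50 (by norm_num) h2 (by decide +kernel), hz 3 51 (by norm_num) h3 (by decide +kernel)]

/-- An element normalising the group and centralising `z` modulo it. -/
theorem Base.cent_cases (D : Base z φ B θ e e') {g : G} (hn : g ∈ Subgroup.normalizer (B : Set G))
    (hgz : z⁻¹ * (g * z * g⁻¹) ∈ B) : g ∈ D.lSub ∧ ∃ m ∈ nhList, g * (φ m)⁻¹ ∈ B := by
  have hzn : ∀ x ∈ B, z * x * z⁻¹ ∈ B := fun x hx => by
    obtain ⟨v, hv, rfl⟩ := (D.coord.mem x).1 hx
    exact (D.coord.mem _).2 ⟨_, lapp_lt _ _, (D.az v hv).symm⟩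
  obtain ⟨v, hv, hve⟩ := (D.coord.mem _).1 hgz
  have hzz := D.data.zz
  have hzi : z⁻¹ = z := inv_eq_of_mul_eq_one_right hzz
  -- `z` inverts the correction
  have hinv : z * θ v * z⁻¹ = (θ v)⁻¹ := by
    rw [hve, hzi, show (z * (g * z * g⁻¹))⁻¹ = g * z⁻¹ * g⁻¹ * z⁻¹ by group, hzi,
      show z * (z * (g * z * g⁻¹)) * z = z * z * (g * z * g⁻¹ * z) by group, hzz, one_mul]
  obtain ⟨b, hbdef⟩ : ∃ b, θ v * θ v = b := ⟨_, rfl⟩
  have hbB : b ∈ B := hbdef ▸ B.mul_mem ((D.coord.mem _).2 ⟨v, hv, rfl⟩) ((D.coord.mem _).2 ⟨v, hv, rfl⟩)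
  have h3 : θ v * θ v * θ v = 1 := by
    have : ((List.range 81).all fun v => vadd (vadd v v) v == 0) = true := by decide +kernel
    have := of_range_all this hv
    simp only [beq_iff_eq] at this
    rw [← D.coord.add v hv v hv, ← D.coord.add _ (vadd_lt hv hv) v hv, this, D.coord.zero]
  have hgz' : g * z * g⁻¹ = z * θ v := by rw [hve]; group
  obtain ⟨w, hw⟩ : ∃ w, b * g = w := ⟨_, rfl⟩
  have hzv : z * (θ v)⁻¹ = θ v * z := mul_inv_eq_iff_eq_mul.1 (by rw [← conj_inv, hinv, inv_inv])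
  have hwz : w * z = z * w := by
    rw [← mul_inv_eq_iff_eq_mul, ← hw, show b * g * z * (b * g)⁻¹ = b * (g * z * g⁻¹) * b⁻¹ by group, hgz', ← hbdef]
    calc θ v * θ v * (z * θ v) * (θ v * θ v)⁻¹ = θ v * θ v * (z * (θ v)⁻¹) := by group
      _ = θ v * θ v * θ v * z := by rw [hzv]; group
      _ = z := by rw [h3, one_mul]
  obtain ⟨p, hp, hpe⟩ := (D.data.cent _).1 hwz
  have hwn : ∀ x ∈ B, w * x * w⁻¹ ∈ B := fun x hx =>
    (Subgroup.mem_normalizer_iff.1 (Subgroup.mul_mem _ (Subgroup.le_normalizer hbB) hn |> (hw ▸ ·)) x).1 hx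
  have hfix : (tList.all fun q => tList.contains (mconj p q)) = true := by
    simp only [List.all_eq_true, List.contains_iff_mem]
    intro q hq
    have hl := (tList_facts hq).1
    have hmem : φ (mconj p q) ∈ B := by
      rw [D.data.conj hp hl, hpe]
      exact hwn _ (D.data.t_mem_B D.odd hq)
    obtain ⟨hc, ho⟩ := (D.odd.mem_iff _).1 hmem
    have hc' := hc.all D.data (show 400 ∈ tList by simp [tList])
    have := of_range_all cent_d (mconj_lt hp hl)
    simpa [D.data.nine_of_odd (mconj_lt hp hl) ho,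
      (D.data.commute_iff (mconj_lt hp hl) (by norm_num)).1 hc'] using this
  have := of_range_all nh_ok hp
  simp only [hfix, Bool.not_true, Bool.false_or, List.any_eq_true, beq_iff_eq] at this
  obtain ⟨t, ht, m, hm, htm⟩ := this
  have hml : m < 1152 := by
    have : (nhList.all fun m => decide (m < 1152)) = true := by decide +kernel
    simpa using of_all this hm
  have hg : g = b⁻¹ * φ t * φ m := by
    rw [mul_assoc, D.data.code_prod (tList_facts ht).1 hml htm, hpe, ← hw]; group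
  refine ⟨?_, m, hm, ?_⟩
  · rw [hg]
    exact D.lSub.mul_mem (D.lSub.mul_mem (D.lSub.inv_mem (D.le_lSub hbB))
      (D.le_lSub (D.data.t_mem_B D.odd ht))) (D.code_mem hm)
  · rw [hg, mul_inv_cancel_right]
    exact B.mul_mem (B.inv_mem hbB) (D.data.t_mem_B D.odd ht)

/-- The normaliser acts as the group of order 360. -/
theorem Base.normalizer_eq (D : Base z φ B θ e e') : Subgroup.normalizer (B : Set G) = D.lSub := by
  classical
  refine le_antisymm ?_ fun g ⟨L, _, hL⟩ => D.coord.act_normalize hL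
  obtain ⟨N, hN⟩ : ∃ N, Subgroup.normalizer (B : Set G) = N := ⟨_, rfl⟩
  rw [hN]
  have hln : ∀ g, g ∈ D.lSub → g ∈ N := fun g ⟨L, _, hL⟩ => hN ▸ D.coord.act_normalize hL
  haveI : (B.subgroupOf N).Normal := ⟨fun n hn g =>
    (Subgroup.mem_normalizer_iff.1 (show (g : G) ∈ Subgroup.normalizer (B : Set G) from hN ▸ g.2) _).1 hn⟩
  obtain ⟨π, hπ⟩ : ∃ π : N →* N ⧸ B.subgroupOf N, QuotientGroup.mk' (B.subgroupOf N) = π := ⟨_, rfl⟩
  have hsurj : Function.Surjective π := hπ ▸ QuotientGroup.mk'_surjective _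
  have hker : ∀ g : N, π g = 1 ↔ (g : G) ∈ B := fun g => by
    rw [← hπ]; exact QuotientGroup.eq_one_iff g
  obtain ⟨M, hM⟩ : ∃ M, (D.lSub.subgroupOf N).map π = M := ⟨_, rfl⟩
  have hmemM : ∀ g : N, π g ∈ M ↔ (g : G) ∈ D.lSub := fun g => by
    rw [← hM]
    refine ⟨fun ⟨k, hk, he⟩ => ?_, fun h => ⟨g, h, rfl⟩⟩
    have hk1 : ((k⁻¹ * g : N) : G) ∈ B := (hker _).1 (by rw [map_mul, map_inv, he, inv_mul_cancel])
    have := D.lSub.mul_mem (show (k : G) ∈ D.lSub from hk) (D.le_lSub hk1)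
    rwa [show (k : G) * ((k⁻¹ * g : N) : G) = g by simp] at this
  suffices hMtop : M = ⊤ from fun g hg => (hmemM ⟨g, hg⟩).1 (hMtop ▸ Subgroup.mem_top _)
  by_contra hne
  have hzl : z ∈ D.lSub := ⟨lZ, by decide +kernel, D.az⟩
  have hzN : z ∈ N := hln z hzl
  let zb := π ⟨z, hzN⟩
  have hnot : ∀ (g : N) L, VAct θ (g : G) L → L ∈ lList → L ≠ lone → π g ≠ 1 := fun g L hg hL hne h =>
    hne (D.coord.act_unique hg (D.coord.act_self ((hker g).1 h)) hL lone_mem)
  have hzb : orderOf zb = 2 := orderOf_eq_prime (by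
      rw [pow_two, ← map_mul, show (⟨z, hzN⟩ * ⟨z, hzN⟩ : N) = 1 from Subtype.ext D.data.zz, map_one])
    (hnot ⟨z, hzN⟩ lZ D.az (by decide +kernel) (by decide +kernel))
  have hact : ∀ g : N, π g ∈ M → ∃ L ∈ lList, VAct θ (g : G) L := fun g h => (hmemM g).1 h
  have hpowM : ∀ (g : N) L, L ∈ lList → VAct θ (g : G) L → lmul L L = lone → π g * π g = 1 := fun g L _ h e => by
    rw [← map_mul, hker]
    exact D.mem_of_act_one (e ▸ D.coord.act_mul h h)
  have hC : ∀ x, x * zb = zb * x → x ∈ M ∧ ∃ m ∈ nhList, ∃ h : φ m ∈ N, x = π ⟨φ m, h⟩ := by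
    intro x hx
    obtain ⟨g, rfl⟩ := hsurj x
    have h1 : ((⟨z, hzN⟩⁻¹ * (g * ⟨z, hzN⟩ * g⁻¹) : N) : G) ∈ B := (hker _).1 (by
      rw [map_mul, map_inv, map_mul, map_mul, map_inv, hx, mul_inv_cancel_right, inv_mul_cancel])
    obtain ⟨hgl, m, hm, hgm⟩ := D.cent_cases (hN ▸ g.2) h1
    refine ⟨(hmemM g).2 hgl, m, hm, hln _ (D.code_mem hm), ?_⟩
    rw [← mul_inv_eq_one, ← map_inv, ← map_mul, hker]
    exact hgm
  have hconj : ∀ t ∈ M, orderOf t = 2 → ∃ m ∈ M, m * zb * m⁻¹ = t := by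
    intro t ht hto
    obtain ⟨g, rfl⟩ := hsurj t
    obtain ⟨L, hL, hgL⟩ := hact g ht
    have hLL : lmul L L = lone := by
      have h2 : ((g * g : N) : G) ∈ B := (hker _).1 (by rw [map_mul, ← pow_two, ← hto, pow_orderOf_eq_one])
      have hmem : lmul L L ∈ lList := by
        obtain ⟨M', hM', hh⟩ := D.inL_mul ⟨L, hL, hgL⟩ ⟨L, hL, hgL⟩
        have : ∀ u < 81, lapp (lmul L L) u = lapp M' u := fun u hu =>
          D.coord.inj _ (lapp_lt _ _) _ (lapp_lt _ _) ((D.coord.act_mul hgL hgL u hu).symm.trans (hh u hu))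
        obtain ⟨e0, e1, e2, e3⟩ := lcol_lpack (lapp_lt L (lcol L 0)) (lapp_lt L (lcol L 1)) (lapp_lt L (lcol L 2))
          (lapp_lt L (lcol L 3))
        have hEq : lmul L L = M' := by
          rw [← (lList_mem hM').1, ← (lapp_unit M').1, ← (lapp_unit M').2.1, ← (lapp_unit M').2.2.1,
            ← (lapp_unit M').2.2.2, ← this 1 (by norm_num), ← this 3 (by norm_num), ← this 9 (by norm_num),
            ← this 27 (by norm_num), (lapp_unit _).1, (lapp_unit _).2.1, (lapp_unit _).2.2.1, (lapp_unit _).2.2.2]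
          rw [show lcol (lmul L L) 0 = _ from e0, show lcol (lmul L L) 1 = _ from e1,
            show lcol (lmul L L) 2 = _ from e2, show lcol (lmul L L) 3 = _ from e3]
          rfl
        exact hEq ▸ hM'
      exact D.coord.act_unique (D.coord.act_mul hgL hgL) (D.coord.act_self h2) hmem lone_mem
    have hL1 : L ≠ lone := fun e => by
      rw [(hker g).2 (D.mem_of_act_one (e ▸ hgL)), orderOf_one] at hto
      omega
    have := of_all lInvol hL
    simp only [hLL, bne_self_eq_false, Bool.false_or, Bool.or_eq_true, List.any_eq_true, beq_iff_eq, hL1,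
      false_or] at this
    obtain ⟨P, hP, hPe⟩ := this
    obtain ⟨k, hk⟩ := D.exists_act hP
    have hkN : k ∈ N := hln k ⟨P, hP, hk⟩
    refine ⟨π ⟨k, hkN⟩, (hmemM _).2 ⟨P, hP, hk⟩, ?_⟩
    rw [mul_inv_eq_iff_eq_mul, ← map_mul, ← map_mul, ← inv_mul_eq_one, ← map_inv, ← map_mul, hker]
    refine D.mem_of_act_one fun v hv => ?_
    show (k * z)⁻¹ * ((g : G) * k) * θ v * ((k * z)⁻¹ * ((g : G) * k))⁻¹ = _
    have e1 := D.coord.act_mul hk D.az v hv
    have e2 := D.coord.act_mul hgL hk v hv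
    rw [← hPe] at e2
    rw [show (k * z)⁻¹ * ((g : G) * k) * θ v * ((k * z)⁻¹ * ((g : G) * k))⁻¹ =
      (k * z)⁻¹ * (((g : G) * k) * θ v * ((g : G) * k)⁻¹) * (k * z) by group, e2, ← e1, lapp_one hv]
    group
  obtain ⟨u, -, huo, -, S, hSmem, hSodd, hSn, hScard⟩ :=
    coset_many_inverted M hzb ((hmemM ⟨z, hzN⟩).2 hzl) hconj
      (fun x hx => (hC x (Subgroup.mem_centralizer_singleton_iff.1 hx)).1) hne
  obtain ⟨C, hCdef⟩ : ∃ C, Subgroup.centralizer ({zb} : Set (N ⧸ B.subgroupOf N)) = C := ⟨_, rfl⟩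
  rw [hCdef] at hScard
  have memC : ∀ x, x ∈ C ↔ x * zb = zb * x := fun x => by
    rw [← hCdef]; exact Subgroup.mem_centralizer_singleton_iff
  have hCM : C ≤ M := fun x hx => (hC x ((memC x).1 hx)).1
  -- the order of the image
  have hw : ∀ i : Fin 360, ∃ g : N, VAct θ (g : G) (lList.getD i 0) := fun i => by
    have hi : (i : ℕ) < lList.length := lList_ok.1.symm ▸ i.2
    have hL : lList.getD i 0 ∈ lList := by rw [List.getD_eq_getElem _ _ hi]; exact List.getElem_mem _
    obtain ⟨g, hg⟩ := D.exists_act hL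
    exact ⟨⟨g, hln g ⟨_, hL, hg⟩⟩, hg⟩
  choose w hw using hw
  have hLi : ∀ i : Fin 360, lList.getD i 0 ∈ lList := fun i => by
    have hi : (i : ℕ) < lList.length := lList_ok.1.symm ▸ i.2
    rw [List.getD_eq_getElem _ _ hi]; exact List.getElem_mem _
  let F : Fin 360 → M := fun i => ⟨π (w i), (hmemM _).2 ⟨_, hLi i, hw i⟩⟩
  have hF : Function.Bijective F := by
    refine ⟨fun i j h => ?_, fun ⟨x, hx⟩ => ?_⟩
    · have h1 : ((( w i)⁻¹ * w j : N) : G) ∈ B := (hker _).1 (by
        rw [map_mul, map_inv, show π (w i) = π (w j) from congrArg Subtype.val h, inv_mul_cancel])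
      have h2 : VAct θ ((w j : N) : G) (lList.getD i 0) := fun v hv => by
        have hw' := hw i v hv
        obtain ⟨u, hu, hue⟩ : ∃ u, u ∈ B ∧ ((w j : N) : G) = (w i : G) * u :=
          ⟨_, h1, by simp⟩
        rw [hue, show (w i : G) * u * θ v * ((w i : G) * u)⁻¹ = (w i : G) * (u * θ v * u⁻¹) * (w i : G)⁻¹ by group,
          D.coord.comm hu ((D.coord.mem _).2 ⟨v, hv, rfl⟩), mul_inv_cancel_right, hw']
      have e := D.coord.act_unique h2 (hw j) (hLi i) (hLi j)
      have hi : (i : ℕ) < lList.length := lList_ok.1.symm ▸ i.2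
      have hj : (j : ℕ) < lList.length := lList_ok.1.symm ▸ j.2
      rw [List.getD_eq_getElem _ _ hi, List.getD_eq_getElem _ _ hj] at e
      exact Fin.ext ((List.Nodup.getElem_inj_iff lList_ok.2.1).1 e)
    · obtain ⟨g, rfl⟩ := hsurj x
      obtain ⟨L, hL, hgL⟩ := hact g hx
      obtain ⟨i, hi, rfl⟩ := List.mem_iff_getElem.1 hL
      refine ⟨⟨i, lList_ok.1 ▸ hi⟩, Subtype.ext ?_⟩
      show π (w ⟨i, _⟩) = π g
      rw [← inv_mul_eq_one, ← map_inv, ← map_mul, hker]
      refine D.mem_of_act_one fun v hv => ?_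
      have h' := hw ⟨i, lList_ok.1 ▸ hi⟩ v hv
      simp only [List.getD_eq_getElem _ 0 hi] at h'
      rw [lapp_one hv, Subgroup.coe_mul, Subgroup.coe_inv,
        show ((w ⟨i, lList_ok.1 ▸ hi⟩ : N) : G)⁻¹ * (g : G) * θ v * (((w ⟨i, lList_ok.1 ▸ hi⟩ : N) : G)⁻¹ * (g : G))⁻¹
          = ((w ⟨i, lList_ok.1 ▸ hi⟩ : N) : G)⁻¹ * ((g : G) * θ v * (g : G)⁻¹) * (w ⟨i, lList_ok.1 ▸ hi⟩ : N) by group,
        hgL v hv, ← h']
      group
  have hMcard : Nat.card M = 360 := by rw [← Nat.card_eq_of_bijective F hF, Nat.card_fin]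
  haveI := Fintype.ofFinite (N ⧸ B.subgroupOf N)
  have hCcard : Nat.card C ≤ 8 := by
    rw [Nat.card_eq_fintype_card, ← Finset.card_univ]
    let T : Finset (N ⧸ B.subgroupOf N) := nhList.toFinset.image fun m => if h : φ m ∈ N then π ⟨φ m, h⟩ else 1
    refine le_trans (Finset.card_le_card_of_injOn (t := T) (fun x : C => (x : N ⧸ B.subgroupOf N)) (fun x _ => ?_)
      fun a _ b _ e => Subtype.ext e) (le_trans Finset.card_image_le (le_trans (List.toFinset_card_le _) le_rfl))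
    obtain ⟨-, m, hm, h, hx⟩ := hC x ((memC x).1 x.2)
    exact Finset.mem_image.2 ⟨m, List.mem_toFinset.2 hm, by rw [dif_pos h]; exact hx.symm⟩
  have hrel : C.relIndex M * Nat.card C = 360 := by
    have h1 := (C.subgroupOf M).card_mul_index
    rw [Nat.card_congr (Subgroup.subgroupOfEquivOfLe hCM).toEquiv, hMcard] at h1
    rw [Subgroup.relIndex, mul_comm]
    exact h1
  have h45 : 45 ≤ C.relIndex M := by
    by_contra h
    nlinarith
  have hSM : S ≤ M := fun x hx => ((hSmem x).1 hx).1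
  have hS45 : Nat.card S ∣ 45 := by
    have h1 : Nat.card S ∣ 2 ^ 3 * 45 := by
      have := Subgroup.card_dvd_of_le hSM
      rw [hMcard] at this
      simpa using this
    exact (Nat.Coprime.pow_right _ (Nat.coprime_two_right.2 hSodd)).dvd_of_dvd_mul_left h1
  have hinjS : Function.Injective fun x : {x // x ∈ S ∧ u * x * u⁻¹ = x⁻¹} => (⟨x, x.2.1⟩ : S) :=
    fun a b e => Subtype.ext (congrArg Subtype.val e :)
  have hle := Nat.card_le_card_of_injective _ hinjS
  have hS : Nat.card S = 45 := by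
    have := Nat.le_of_dvd (by norm_num) hS45
    omega
  have hall : ∀ x : S, u * (x : N ⧸ B.subgroupOf N) * u⁻¹ = (x : N ⧸ B.subgroupOf N)⁻¹ := by
    have hb := hinjS.bijective_of_nat_card_le (by omega)
    intro x
    obtain ⟨y, hy⟩ := hb.2 x
    rw [← hy]
    exact y.2.2
  have hcomm : ∀ a b : S, a * b = b * a := fun a b => inv_injective (Subtype.ext (by
    simp only [Subgroup.coe_inv, Subgroup.coe_mul]
    calc ((a : N ⧸ B.subgroupOf N) * b)⁻¹ = u * ((a : N ⧸ B.subgroupOf N) * b) * u⁻¹ := (hall (a * b)).symm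
      _ = (u * a * u⁻¹) * (u * b * u⁻¹) := by group
      _ = ((b : N ⧸ B.subgroupOf N) * a)⁻¹ := by rw [hall, hall, mul_inv_rev]))
  haveI : Fact (Nat.Prime 5) := ⟨by norm_num⟩
  haveI : Fact (Nat.Prime 3) := ⟨by norm_num⟩
  obtain ⟨a, ha⟩ := exists_prime_orderOf_dvd_card' (G := S) 5 (by rw [hS]; norm_num)
  obtain ⟨b, hb⟩ := exists_prime_orderOf_dvd_card' (G := S) 3 (by rw [hS]; norm_num)
  have h15 : orderOf (a * b) = 15 := by
    rw [(show Commute a b from hcomm a b).orderOf_mul_eq_mul_orderOf_of_coprime (by rw [ha, hb]; norm_num), ha, hb]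
  obtain ⟨g, hg⟩ := hsurj ((a * b : S) : N ⧸ B.subgroupOf N)
  obtain ⟨L, hL, hgL⟩ := hact g (hg ▸ hSM (a * b).2)
  have hone : ∀ k : ℕ, VAct θ ((g : G) ^ k) lone → (a * b) ^ k = 1 := fun k h => by
    apply Subtype.ext
    rw [Subgroup.coe_pow, ← hg, ← map_pow, Subgroup.coe_one, hker]
    exact D.mem_of_act_one (by rwa [Subgroup.coe_pow])
  have p2 := D.coord.act_mul hgL hgL
  have := of_all lOrders hL
  simp only [Bool.or_eq_true, beq_iff_eq] at this
  rcases this with (h | h) | h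
  · have := hone 3 (h ▸ (by rw [pow_succ', pow_two]; exact D.coord.act_mul hgL p2))
    rw [← orderOf_dvd_iff_pow_eq_one, h15] at this; norm_num at this
  · have := hone 4 (h ▸ (by
      rw [show (g : G) ^ 4 = (g : G) * g * ((g : G) * g) by simp [pow_succ, mul_assoc]]; exact D.coord.act_mul p2 p2))
    rw [← orderOf_dvd_iff_pow_eq_one, h15] at this; norm_num at this
  · have := hone 5 (h ▸ (by
      rw [show (g : G) ^ 5 = (g : G) * ((g : G) * g * ((g : G) * g)) by simp [pow_succ, mul_assoc]]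
      exact D.coord.act_mul hgL (D.coord.act_mul p2 p2)))
    rw [← orderOf_dvd_iff_pow_eq_one, h15] at this; norm_num at this

end CfsgU43Type
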