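import Cfsg.Agent.Lib.U43Type.Two
import Cfsg.Agent.Lib.LargeExtra.Sections
import Cfsg.Agent.Lib.LargeExtra.Odd
import Cfsg.Agent.Lib.Basic

/-!
Groups of U₄(3) type: coordinates on the odd-order generated subgroup of the centraliser and on its 2-core.
-/

set_option autoImplicit false
set_option maxRecDepth 100000
set_option linter.unusedSectionVars false

namespace CfsgU43Type

open Cfsg CfsgLargeExtra

variable {G : Type*} [Group G] {z : G} {f₁ f₂ : ℕ → G}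

/-- A property closed under the product and true at the two generators holds everywhere. -/
theorem sgen_induction {P : ℕ → Prop} (h1 : P 1) (h4 : P 4)
    (hmul : ∀ a < 24, ∀ b < 24, P a → P b → P (smul a b)) : ∀ a < 24, P a := by
  intro a ha
  obtain ⟨e, e0, e8, e12, e2, e3⟩ := sdecomp a ha
  have h8 : P 8 := e8 ▸ hmul 4 (by norm_num) 4 (by norm_num) h4 h4
  have h0 : P 0 := e0 ▸ hmul 4 (by norm_num) _ (smul_lt 4 (by norm_num) 4 (by norm_num)) h4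
    (hmul 4 (by norm_num) 4 (by norm_num) h4 h4)
  have h12 : P 12 := e12 ▸ hmul 1 (by norm_num) 1 (by norm_num) h1 h1
  have h2 : P 2 := e2 ▸ hmul _ (smul_lt 4 (by norm_num) 1 (by norm_num)) 8 (by norm_num)
    (hmul 4 (by norm_num) 1 (by norm_num) h4 h1) h8
  have h3 : P 3 := e3 ▸ hmul 1 (by norm_num) 2 (by norm_num) h1 h2
  have hq : P (a % 4) := by
    obtain e | e | e | e : a % 4 = 0 ∨ a % 4 = 1 ∨ a % 4 = 2 ∨ a % 4 = 3 := by omega
    all_goals rw [e]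
    all_goals assumption
  have hc : P (a % 12 - a % 4) := by
    obtain e | e | e : a % 12 - a % 4 = 0 ∨ a % 12 - a % 4 = 4 ∨ a % 12 - a % 4 = 8 := by omega
    all_goals rw [e]
    all_goals assumption
  rw [e]
  refine hmul _ (smul_lt _ (by omega) _ (by omega)) _ (by split_ifs <;> norm_num)
    (hmul _ (by omega) _ (by omega) hq hc) ?_
  split_ifs <;> assumption

/-- The two factors of isomorphism type `SL₂(3)` give coordinates. -/
theorem exists_two (A B : Subgroup G) (e₁ : A ≃* Matrix.SpecialLinearGroup (Fin 2) (ZMod 3))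
    (e₂ : B ≃* Matrix.SpecialLinearGroup (Fin 2) (ZMod 3)) (hz : orderOf z = 2)
    (hzA : ∀ a ∈ A, a * z = z * a) (hmeet : A ⊓ B = Subgroup.zpowers z)
    (hAB : ∀ a ∈ A, ∀ b ∈ B, a * b * a⁻¹ ∈ B ∧ b * a * b⁻¹ ∈ A) :
    ∃ f₁ f₂ : ℕ → G, Two z f₁ f₂ ∧ (∀ g, g ∈ A ↔ ∃ a < 24, f₁ a = g) ∧ (∀ g, g ∈ B ↔ ∃ b < 24, f₂ b = g) := by
  have hzz : z * z = 1 := by rw [← sq, ← hz, pow_orderOf_eq_one]
  have hz1 : z ≠ 1 := fun e => by rw [e, orderOf_one] at hz; omega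
  have hzmem : z ∈ A ⊓ B := hmeet ▸ Subgroup.mem_zpowers z
  have hpw : ∀ g, g ∈ A ⊓ B → g = 1 ∨ g = z := by
    intro g hg
    rw [hmeet, Subgroup.mem_zpowers_iff] at hg
    obtain ⟨k, rfl⟩ := hg
    rcases Int.even_or_odd' k with ⟨m, rfl | rfl⟩
    · left; rw [zpow_mul, zpow_two, hzz, one_zpow]
    · right; rw [zpow_add_one, zpow_mul, zpow_two, hzz, one_zpow, one_mul]
  let emb : ∀ (S : Subgroup G), (S ≃* Matrix.SpecialLinearGroup (Fin 2) (ZMod 3)) → ℕ → G := fun S e a =>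
    if h : a < 24 then ((e.symm (slEl ⟨a, h⟩) : S) : G) else 1
  have hhom : ∀ (S : Subgroup G) (e : S ≃* Matrix.SpecialLinearGroup (Fin 2) (ZMod 3)),
      (∀ a < 24, ∀ b < 24, emb S e (smul a b) = emb S e a * emb S e b) ∧
      (∀ a < 24, ∀ b < 24, emb S e a = emb S e b → a = b) ∧ (∀ g, g ∈ S ↔ ∃ a < 24, emb S e a = g) ∧
      (z ∈ S → emb S e 12 = z) := by
    intro S e
    have h1 : ∀ a < 24, ∀ b < 24, emb S e (smul a b) = emb S e a * emb S e b := fun a ha b hb => by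
      simp only [emb, dif_pos ha, dif_pos hb, dif_pos (smul_lt a ha b hb)]
      rw [← Subgroup.coe_mul, ← map_mul, ← slEl_mul]
    have h2 : ∀ a < 24, ∀ b < 24, emb S e a = emb S e b → a = b := fun a ha b hb he => by
      simp only [emb, dif_pos ha, dif_pos hb] at he
      exact congrArg Fin.val (slEl_bijective.1 (e.symm.injective (Subtype.ext he)))
    have h3 : ∀ g, g ∈ S ↔ ∃ a < 24, emb S e a = g := fun g => by
      refine ⟨fun hg => ?_, ?_⟩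
      · obtain ⟨a, ha⟩ := slEl_bijective.2 (e ⟨g, hg⟩)
        exact ⟨a, a.2, by simp only [emb, dif_pos a.2, Fin.eta, ha, MulEquiv.symm_apply_apply]⟩
      · rintro ⟨a, ha, rfl⟩
        simp only [emb, dif_pos ha]
        exact (e.symm _).2
    refine ⟨h1, h2, h3, fun hzS => ?_⟩
    obtain ⟨a, ha, hae⟩ := (h3 z).1 hzS
    have h00 : emb S e 0 = 1 := by
      have := h1 0 (by norm_num) 0 (by norm_num)
      rw [(sone_mul 0 (by norm_num)).1] at this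
      exact mul_eq_left.1 this.symm
    have haa : smul a a = 0 := h2 _ (smul_lt a ha a ha) 0 (by norm_num) (by rw [h1 a ha a ha, hae, hzz, h00])
    have hs := sinvol a ha
    rw [haa] at hs
    rcases (show a = 0 ∨ a = 12 by simpa using hs) with rfl | rfl
    · exact absurd (hae.symm.trans h00) hz1
    · exact hae
  obtain ⟨m1, i1, r1, z1⟩ := hhom A e₁
  obtain ⟨m2, i2, r2, z2⟩ := hhom B e₂
  refine ⟨emb A e₁, emb B e₂, ⟨m1, m2, i1, ?_, z1 hzmem.1, z2 hzmem.2, i2, ?_⟩, r1, r2⟩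
  · intro a ha b hb
    have hbB : emb B e₂ b ∈ B := (r2 _).2 ⟨b, hb, rfl⟩
    have hc : ∀ x ∈ A, x * emb B e₂ b * x⁻¹ * (emb B e₂ b)⁻¹ = 1 ∨
        x * emb B e₂ b * x⁻¹ * (emb B e₂ b)⁻¹ = z := fun x hx => hpw _ ⟨by
      rw [show x * emb B e₂ b * x⁻¹ * (emb B e₂ b)⁻¹ = x * (emb B e₂ b * x⁻¹ * (emb B e₂ b)⁻¹) by group]
      exact A.mul_mem hx (hAB _ (A.inv_mem hx) _ hbB).2, B.mul_mem (hAB _ hx _ hbB).1 (B.inv_mem hbB)⟩
    have hsq : ∀ x ∈ A, x * x * emb B e₂ b = emb B e₂ b * (x * x) := fun x hx => by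
      have hx' : x * emb B e₂ b = x * emb B e₂ b * x⁻¹ * (emb B e₂ b)⁻¹ * (emb B e₂ b * x) := by group
      rcases hc x hx with e | e <;> rw [e] at hx'
      · rw [one_mul] at hx'
        rw [mul_assoc, hx', ← mul_assoc, hx', mul_assoc]
      · rw [mul_assoc, hx', ← mul_assoc x, hzA x hx, mul_assoc z, ← mul_assoc x, hx', ← mul_assoc, ← mul_assoc,
          ← mul_assoc, hzz, one_mul, mul_assoc]
    obtain ⟨b', hb', c', hc', he⟩ : ∃ b' < 24, ∃ c' < 24, a = smul (smul b' b') (smul c' c') := by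
      simpa [List.any_eq_true] using smul_gens a ha
    rw [he, m1 _ (smul_lt _ hb' _ hb') _ (smul_lt _ hc' _ hc'), m1 _ hb' _ hb', m1 _ hc' _ hc', mul_assoc,
      hsq _ ((r1 _).2 ⟨c', hc', rfl⟩), ← mul_assoc, hsq _ ((r1 _).2 ⟨b', hb', rfl⟩), mul_assoc]
  · intro a ha b hb he
    rcases hpw (emb A e₁ a) ⟨(r1 _).2 ⟨a, ha, rfl⟩, he ▸ (r2 _).2 ⟨b, hb, rfl⟩⟩ with e | e
    · left
      refine i1 a ha 0 (by norm_num) (e.trans ?_)
      have := m1 0 (by norm_num) 0 (by norm_num)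
      rw [(sone_mul 0 (by norm_num)).1] at this
      exact (mul_eq_left.1 this.symm).symm
    · right; exact i1 a ha 12 (by norm_num) (e.trans (z1 hzmem.1).symm)

/-- The action of an element on `K` is given by the code `P`. -/
def Acts (f₁ f₂ : ℕ → G) (c : G) (P : ℕ) : Prop :=
  ∀ x < 288, c * ι f₁ f₂ x * c⁻¹ = ι f₁ f₂ (kapp P x)

/-- The subgroup with the given coordinates. -/
def kSub (h : Two z f₁ f₂) : Subgroup G where
  carrier := {g | ∃ x < 288, ι f₁ f₂ x = g}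
  one_mem' := ⟨0, by norm_num, h.ι_zero⟩
  mul_mem' := by
    rintro _ _ ⟨x, hx, rfl⟩ ⟨y, hy, rfl⟩
    exact ⟨kmul x y, kmul_lt hx hy, h.ι_mul hx hy⟩
  inv_mem' := by
    rintro _ ⟨x, hx, rfl⟩
    exact ⟨kinv x, kinv_lt hx, h.ι_inv hx⟩

/-- An action is determined on the four generators. -/
theorem acts_of_gens (h : Two z f₁ f₂) {c : G} {P : ℕ} (hPlt : P < 1152)
    (ex₁ : c * ι f₁ f₂ 24 * c⁻¹ = ι f₁ f₂ (kapp P 24)) (ey₁ : c * ι f₁ f₂ 96 * c⁻¹ = ι f₁ f₂ (kapp P 96))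
    (ex₂ : c * ι f₁ f₂ 1 * c⁻¹ = ι f₁ f₂ (kapp P 1)) (ey₂ : c * ι f₁ f₂ 4 * c⁻¹ = ι f₁ f₂ (kapp P 4)) :
    Acts f₁ f₂ c P := by
  intro x hx
  have key : ∀ a b c' d, a < 288 → b < 288 → c' < 288 → d < 288 →
      c * ι f₁ f₂ a * c⁻¹ = ι f₁ f₂ c' → c * ι f₁ f₂ b * c⁻¹ = ι f₁ f₂ d →
      c * ι f₁ f₂ (kmul a b) * c⁻¹ = ι f₁ f₂ (kmul c' d) := fun a b c' d ha hb hc hd ea eb => by
    rw [h.ι_mul ha hb, h.ι_mul hc hd, ← ea, ← eb]; group
  obtain ⟨x₁, k1⟩ : ∃ v, kapp P 24 = v := ⟨_, rfl⟩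
  obtain ⟨y₁, k2⟩ : ∃ v, kapp P 96 = v := ⟨_, rfl⟩
  obtain ⟨x₂, k3⟩ : ∃ v, kapp P 1 = v := ⟨_, rfl⟩
  obtain ⟨y₂, k4⟩ : ∃ v, kapp P 4 = v := ⟨_, rfl⟩
  rw [k1] at ex₁
  rw [k2] at ey₁
  rw [k3] at ex₂
  rw [k4] at ey₂
  -- each factor
  have side : ∀ (p : ℕ) (sd : ℕ → ℕ) (emb : ℕ → ℕ), p < 24 →
      (∀ a < 24, sd a < 288) → (∀ a < 24, ∀ b < 24, kmul (sd a) (sd b) = sd (smul a b)) →
      (∀ a < 24, emb a < 288) → (∀ a < 24, ∀ b < 24, kmul (emb a) (emb b) = emb (smul a b)) →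
      c * ι f₁ f₂ (sd 1) * c⁻¹ = ι f₁ f₂ (emb (saut p 1)) → c * ι f₁ f₂ (sd 4) * c⁻¹ = ι f₁ f₂ (emb (saut p 4)) →
      ∀ a < 24, c * ι f₁ f₂ (sd a) * c⁻¹ = ι f₁ f₂ (emb (saut p a)) := by
    intro p sd em hp hsd msd hem mem e1 e4
    refine sgen_induction e1 e4 fun a ha b hb ea eb => ?_
    have la := (saut_hom p hp a ha 0 (by norm_num)).2
    have lb := (saut_hom p hp b hb 0 (by norm_num)).2
    rw [← msd a ha b hb, (saut_hom p hp a ha b hb).1, ← mem _ la _ lb]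
    exact key _ _ _ _ (hsd a ha) (hsd b hb) (hem _ la) (hem _ lb) ea eb
  have L1 : ∀ a < 24, kc a 0 < 288 := fun a ha => kc_lt a ha 0 (by norm_num)
  have L2 : ∀ a < 24, kc 0 a < 288 := fun a ha => kc_lt 0 (by norm_num) a ha
  have M1 : ∀ a < 24, ∀ b < 24, kmul (kc a 0) (kc b 0) = kc (smul a b) 0 := by decide +kernel
  have M2 : ∀ a < 24, ∀ b < 24, kmul (kc 0 a) (kc 0 b) = kc 0 (smul a b) := by decide +kernel
  have gk : kc 1 0 = 24 ∧ kc 4 0 = 96 ∧ kc 0 1 = 1 ∧ kc 0 4 = 4 := by decide +kernel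
  obtain ⟨g1, g2, g3, g4⟩ := gk
  have ha : x / 24 < 24 := by omega
  have hb : x % 24 < 24 := by omega
  have hx' : ι f₁ f₂ x = ι f₁ f₂ (kc (x / 24) 0) * ι f₁ f₂ (kc 0 (x % 24)) := by
    rw [h.ι_kc ha (by norm_num), h.ι_kc (by norm_num) hb, h.f₂_zero, mul_one, h.f₁_zero, one_mul]; rfl
  have hz0 : ∀ q < 24, saut q 0 = 0 := fun q hq => (saut_fix q hq).1
  unfold kapp at k1 k2 k3 k4 ⊢
  by_cases hs0 : P < 576
  · simp only [if_pos hs0] at k1 k2 k3 k4 ⊢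
    norm_num [hz0 _ (show P / 24 < 24 by omega), hz0 _ (show P % 24 < 24 by omega)] at k1 k2 k3 k4
    have A1 := side (P / 24) (fun a => kc a 0) (fun a => kc a 0) (by omega) L1 M1 L1 M1
      (by show _ = _; rw [g1, k1]; exact ex₁) (by show _ = _; rw [g2, k2]; exact ey₁) _ ha
    have A2 := side (P % 24) (fun a => kc 0 a) (fun a => kc 0 a) (by omega) L2 M2 L2 M2
      (by show _ = _; rw [g3, k3]; exact ex₂) (by show _ = _; rw [g4, k4]; exact ey₂) _ hb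
    have la := (saut_hom (P / 24) (by omega) _ ha 0 (by norm_num)).2
    have lb := (saut_hom (P % 24) (by omega) _ hb 0 (by norm_num)).2
    rw [hx', h.ι_kc la lb, show f₁ (saut (P / 24) (x / 24)) * f₂ (saut (P % 24) (x % 24)) =
        ι f₁ f₂ (kc (saut (P / 24) (x / 24)) 0) * ι f₁ f₂ (kc 0 (saut (P % 24) (x % 24))) by
      rw [h.ι_kc la (by norm_num), h.ι_kc (by norm_num) lb, h.f₂_zero, mul_one, h.f₁_zero, one_mul],
      ← A1, ← A2]
    group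
  · simp only [if_neg hs0] at k1 k2 k3 k4 ⊢
    norm_num [hz0 _ (show (P - 576) / 24 < 24 by omega), hz0 _ (show P % 24 < 24 by omega)] at k1 k2 k3 k4
    have A1 := side ((P - 576) / 24) (fun a => kc a 0) (fun a => kc 0 a) (by omega) L1 M1 L2 M2
      (by show _ = _; rw [g1, k1]; exact ex₁) (by show _ = _; rw [g2, k2]; exact ey₁) _ ha
    have A2 := side (P % 24) (fun a => kc 0 a) (fun a => kc a 0) (by omega) L2 M2 L1 M1
      (by show _ = _; rw [g3, k3]; exact ex₂) (by show _ = _; rw [g4, k4]; exact ey₂) _ hb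
    have la := (saut_hom ((P - 576) / 24) (by omega) _ ha 0 (by norm_num)).2
    have lb := (saut_hom (P % 24) (by omega) _ hb 0 (by norm_num)).2
    rw [hx', h.ι_kc lb la, show f₁ (saut (P % 24) (x % 24)) * f₂ (saut ((P - 576) / 24) (x / 24)) =
        ι f₁ f₂ (kc 0 (saut ((P - 576) / 24) (x / 24))) * ι f₁ f₂ (kc (saut (P % 24) (x % 24)) 0) by
      rw [h.ι_kc lb (by norm_num), h.ι_kc (by norm_num) la, h.f₂_zero, mul_one, h.f₁_zero, one_mul,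
        h.comm _ lb _ la],
      ← A1, ← A2]
    group

/-- An element normalising `K` acts through a code. -/
theorem exists_acts (h : Two z f₁ f₂) {c : G} (hcz : c * z = z * c)
    (hn : ∀ x < 288, ∃ y < 288, c * ι f₁ f₂ x * c⁻¹ = ι f₁ f₂ y) : ∃ P < 1152, Acts f₁ f₂ c P := by
  obtain ⟨x₁, hx₁, ex₁⟩ := hn 24 (by norm_num)
  obtain ⟨y₁, hy₁, ey₁⟩ := hn 96 (by norm_num)
  obtain ⟨x₂, hx₂, ex₂⟩ := hn 1 (by norm_num)
  obtain ⟨y₂, hy₂, ey₂⟩ := hn 4 (by norm_num)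
  have key : ∀ a b c' d, a < 288 → b < 288 → c' < 288 → d < 288 →
      c * ι f₁ f₂ a * c⁻¹ = ι f₁ f₂ c' → c * ι f₁ f₂ b * c⁻¹ = ι f₁ f₂ d →
      c * ι f₁ f₂ (kmul a b) * c⁻¹ = ι f₁ f₂ (kmul c' d) := fun a b c' d ha hb hc hd ea eb => by
    rw [h.ι_mul ha hb, h.ι_mul hc hd, ← ea, ← eb]; group
  have hc0 : c * ι f₁ f₂ 0 * c⁻¹ = ι f₁ f₂ 0 := by rw [h.ι_zero, mul_one, mul_inv_cancel]
  have hc12 : c * ι f₁ f₂ 12 * c⁻¹ = ι f₁ f₂ 12 := by rw [h.ι_twelve, hcz, mul_inv_cancel_right]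
  have tr : ∀ a b c' d e, a < 288 → b < 288 → c' < 288 → d < 288 → e < 288 →
      c * ι f₁ f₂ a * c⁻¹ = ι f₁ f₂ c' → c * ι f₁ f₂ b * c⁻¹ = ι f₁ f₂ d →
      c * ι f₁ f₂ (kmul a b) * c⁻¹ = ι f₁ f₂ e → kmul c' d = e := fun a b c' d e ha hb hc hd he ea eb ee =>
    h.ι_inj (kmul_lt hc hd) he ((key a b c' d ha hb hc hd ea eb).symm.trans ee)
  have htab : kmul 24 24 = 12 ∧ kmul 96 (kmul 96 96) = 0 ∧ kmul (kmul 24 96) (kmul (kmul 24 96) (kmul 24 96)) = 12 ∧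
      kmul 1 1 = 12 ∧ kmul 4 (kmul 4 4) = 0 ∧ kmul (kmul 1 4) (kmul (kmul 1 4) (kmul 1 4)) = 12 ∧
      kmul 24 1 = kmul 1 24 ∧ kmul 24 4 = kmul 4 24 ∧ kmul 96 1 = kmul 1 96 ∧ kmul 96 4 = kmul 4 96 := by
    decide +kernel
  obtain ⟨t1, t2, t3, t4, t5, t6, t7, t8, t9, t10⟩ := htab
  have rels : ∀ a b a' b', a < 288 → b < 288 → a' < 288 → b' < 288 →
      c * ι f₁ f₂ a * c⁻¹ = ι f₁ f₂ a' → c * ι f₁ f₂ b * c⁻¹ = ι f₁ f₂ b' →
      kmul a a = 12 → kmul b (kmul b b) = 0 → kmul (kmul a b) (kmul (kmul a b) (kmul a b)) = 12 →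
      kmul a' a' = 12 ∧ kmul b' (kmul b' b') = 0 ∧ kmul (kmul a' b') (kmul (kmul a' b') (kmul a' b')) = 12 := by
    intro a b a' b' ha hb ha' hb' ea eb r1 r2 r3
    have hab := kmul_lt ha hb
    have hab' := kmul_lt ha' hb'
    have eab := key a b a' b' ha hb ha' hb' ea eb
    exact ⟨tr a a a' a' 12 ha ha ha' ha' (by norm_num) ea ea (r1 ▸ hc12),
      tr b _ b' _ 0 hb (kmul_lt hb hb) hb' (kmul_lt hb' hb') (by norm_num) eb (key b b b' b' hb hb hb' hb' eb eb)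
        (r2 ▸ hc0),
      tr _ _ _ _ 12 hab (kmul_lt hab hab) hab' (kmul_lt hab' hab') (by norm_num) eab
        (key _ _ _ _ hab hab hab' hab' eab eab) (r3 ▸ hc12)⟩
  obtain ⟨r1, r2, r3⟩ := rels 24 96 x₁ y₁ (by norm_num) (by norm_num) hx₁ hy₁ ex₁ ey₁ t1 t2 t3
  obtain ⟨s1, s2, s3⟩ := rels 1 4 x₂ y₂ (by norm_num) (by norm_num) hx₂ hy₂ ex₂ ey₂ t4 t5 t6
  have com : ∀ a b a' b', a < 288 → b < 288 → a' < 288 → b' < 288 →
      c * ι f₁ f₂ a * c⁻¹ = ι f₁ f₂ a' → c * ι f₁ f₂ b * c⁻¹ = ι f₁ f₂ b' →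
      kmul a b = kmul b a → kmul a' b' = kmul b' a' := fun a b a' b' ha hb ha' hb' ea eb e =>
    h.ι_inj (kmul_lt ha' hb') (kmul_lt hb' ha')
      ((key a b a' b' ha hb ha' hb' ea eb).symm.trans (e ▸ key b a b' a' hb ha hb' ha' eb ea))
  have c7 := com 24 1 x₁ x₂ (by norm_num) (by norm_num) hx₁ hx₂ ex₁ ex₂ t7
  have c8 := com 24 4 x₁ y₂ (by norm_num) (by norm_num) hx₁ hy₂ ex₁ ey₂ t8
  have c9 := com 96 1 y₁ x₂ (by norm_num) (by norm_num) hy₁ hx₂ ey₁ ex₂ t9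
  have c10 := com 96 4 y₁ y₂ (by norm_num) (by norm_num) hy₁ hy₂ ey₁ ey₂ t10
  have ne0 : ∀ a b, a < 288 → b < 288 → c * ι f₁ f₂ a * c⁻¹ = ι f₁ f₂ b → b = 0 → a = 0 := by
    intro a b ha hb e hb0
    rw [hb0, h.ι_zero, conj_eq_one_iff] at e
    exact h.ι_inj ha (by norm_num) (e.trans h.ι_zero.symm)
  have n1 : y₁ ≠ 0 := fun e => absurd (ne0 96 y₁ (by norm_num) hy₁ ey₁ e) (by norm_num)
  have n2 : y₂ ≠ 0 := fun e => absurd (ne0 4 y₂ (by norm_num) hy₂ ey₂ e) (by norm_num)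
  have mroot : ∀ x, x < 288 → kmul x x = 12 → x ∈ kRoots := fun x hx e => by
    rw [← kRoots_eq, List.mem_filter]
    exact ⟨List.mem_range.2 hx, by simp [e]⟩
  have mthree : ∀ y, y < 288 → y ≠ 0 → kmul y (kmul y y) = 0 → y ∈ kThree := fun y hy hn e => by
    rw [← kThree_eq, List.mem_filter]
    exact ⟨List.mem_range.2 hy, by simp [e, hn]⟩
  have hp : (x₁, y₁) ∈ relPairs := by
    have h1 := of_all (of_all relPairs_complete (kRoots_eq.symm ▸ mroot x₁ hx₁ r1))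
      (kThree_eq.symm ▸ mthree y₁ hy₁ n1 r2)
    simpa [r3] using h1
  have hP1 := of_all (List.all_eq_true.1 pairs_cases (x₁, y₁) hp) (mroot x₂ hx₂ s1)
  simp only [c7, c9, bne_self_eq_false, Bool.false_or] at hP1
  have hP2 := of_all hP1 (mthree y₂ hy₂ n2 s2)
  simp only [c8, c10, s3, bne_self_eq_false, Bool.false_or, List.any_eq_true, List.mem_range,
    Bool.and_eq_true, beq_iff_eq] at hP2
  obtain ⟨s, hs, i, hi, -, j, hj, ⟨⟨p1, p2⟩, p3⟩, p4⟩ := hP2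
  refine ⟨576 * s + 24 * i + j, by omega, ?_⟩
  exact acts_of_gens h (by omega) (p1.symm ▸ ex₁) (p2.symm ▸ ey₁) (p3.symm ▸ ex₂) (p4.symm ▸ ey₂)

end CfsgU43Type
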