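import Cfsg.Agent.Lib.U43Type.Normal
import Cfsg.Agent.Lib.U43Type.LThree

/-!
Groups of U₄(3) type: the group of order eighty-one is the only abelian subgroup of its order in its normaliser, and
the Sylow 3-subgroups have order 729.
-/

set_option autoImplicit false
set_option maxRecDepth 100000
set_option linter.unusedSectionVars false

namespace CfsgU43Type

variable {G : Type*} [Group G] {z : G} {φ : ℕ → G} {B : Subgroup G} {θ : ℕ → G} {e e' : G} [Finite G]

theorem Base.card_B (D : Base z φ B θ e e') : Nat.card B = 81 := by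
  let F : Fin 81 → B := fun v => ⟨θ v, (D.coord.mem _).2 ⟨v, v.2, rfl⟩⟩
  have hF : Function.Bijective F := ⟨fun a b h => Fin.ext (D.coord.inj _ a.2 _ b.2 (congrArg Subtype.val h)),
    fun ⟨x, hx⟩ => by
      obtain ⟨v, hv, rfl⟩ := (D.coord.mem x).1 hx
      exact ⟨⟨v, hv⟩, rfl⟩⟩
  rw [← Nat.card_eq_of_bijective F hF, Nat.card_fin]

theorem Base.normal_act (D : Base z φ B θ e e') {g : G} (hg : g ∈ Subgroup.normalizer (B : Set G)) :
    ∃ L ∈ lList, VAct θ g L := by
  rw [D.normalizer_eq] at hg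
  exact hg

theorem Base.lmul_mem (D : Base z φ B θ e e') {L M : ℕ} (hL : L ∈ lList) (hM : M ∈ lList) : lmul L M ∈ lList := by
  obtain ⟨g, hg⟩ := D.exists_act hL
  obtain ⟨h, hh⟩ := D.exists_act hM
  obtain ⟨K, hK, hgh⟩ := D.inL_mul ⟨L, hL, hg⟩ ⟨M, hM, hh⟩
  have key : ∀ u < 81, lapp (lmul L M) u = lapp K u := fun u hu =>
    D.coord.inj _ (lapp_lt _ _) _ (lapp_lt _ _) ((D.coord.act_mul hg hh u hu).symm.trans (hgh u hu))
  obtain ⟨e0, e1, e2, e3⟩ := lcol_lpack (lapp_lt L (lcol M 0)) (lapp_lt L (lcol M 1)) (lapp_lt L (lcol M 2))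
    (lapp_lt L (lcol M 3))
  have hEq : lmul L M = K := by
    rw [← (lList_mem hK).1, ← (lapp_unit K).1, ← (lapp_unit K).2.1, ← (lapp_unit K).2.2.1, ← (lapp_unit K).2.2.2,
      ← key 1 (by norm_num), ← key 3 (by norm_num), ← key 9 (by norm_num), ← key 27 (by norm_num), (lapp_unit _).1,
      (lapp_unit _).2.1, (lapp_unit _).2.2.1, (lapp_unit _).2.2.2,
      show lcol (lmul L M) 0 = _ from e0, show lcol (lmul L M) 1 = _ from e1, show lcol (lmul L M) 2 = _ from e2,
      show lcol (lmul L M) 3 = _ from e3]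
    rfl
  exact hEq ▸ hK

theorem Base.code_eq (D : Base z φ B θ e e') {g : G} {L M : ℕ} (hL : L ∈ lList) (hg : VAct θ g L)
    (hM : M ∈ lList) (hg' : VAct θ g M) : L = M := D.coord.act_unique hg hg' hL hM

/-- An element of 3-power order acts as a map whose cube is the identity. -/
theorem Base.cube_code (D : Base z φ B θ e e') {g : G} {L k : ℕ} (hL : L ∈ lList) (hg : VAct θ g L)
    (hk : g ^ 3 ^ k = 1) : lmul L (lmul L L) = lone := by
  have p2 := D.coord.act_mul hg hg
  have m2 := D.lmul_mem hL hL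
  have hord : ∀ n, g ^ n ∈ B → Nat.Coprime (3 ^ k) n → L = lone := fun n hn hc => by
    have h1 : g ∈ B := by
      have := B.mul_mem (B.zpow_mem hn ((Nat.gcdA n (3 ^ k) : ℤ))) (B.one_mem)
      rw [mul_one, ← zpow_natCast, ← zpow_mul] at this
      have e1 : g ^ ((n : ℤ) * Nat.gcdA n (3 ^ k)) = g := by
        have hbez := Nat.gcd_eq_gcd_ab n (3 ^ k)
        rw [hc.symm.gcd_eq_one] at hbez
        conv_rhs => rw [← zpow_one g, show (1 : ℤ) = ((1 : ℕ) : ℤ) from rfl, hbez, zpow_add, zpow_mul g ((3 ^ k : ℕ) : ℤ),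
          zpow_natCast g (3 ^ k), hk, one_zpow, mul_one]
      rwa [e1] at this
    exact D.code_eq hL hg lone_mem (D.coord.act_self h1)
  have := of_all lOrders hL
  simp only [Bool.or_eq_true, beq_iff_eq] at this
  rcases this with (h | h) | h
  · exact h
  · have e : L = lone := hord 4 (D.mem_of_act_one (h ▸ (by
      rw [show g ^ 4 = g * g * (g * g) by simp [pow_succ, mul_assoc]]; exact D.coord.act_mul p2 p2)))
      (Nat.Coprime.pow_left _ (by norm_num))
    rw [e, (lList_mem lone_mem).2.1, (lList_mem lone_mem).2.1]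
  · have e : L = lone := hord 5 (D.mem_of_act_one (h ▸ (by
      rw [show g ^ 5 = g * (g * g * (g * g)) by simp [pow_succ, mul_assoc]]
      exact D.coord.act_mul hg (D.coord.act_mul p2 p2))))
      (Nat.Coprime.pow_left _ (by norm_num))
    rw [e, (lList_mem lone_mem).2.1, (lList_mem lone_mem).2.1]

/-- The only abelian subgroup of order eighty-one of the normaliser. -/
theorem Base.abelian_unique (D : Base z φ B θ e e') (A : Subgroup G) (hA : ∀ a ∈ A, ∀ b ∈ A, a * b = b * a)
    (hc : Nat.card A = 81) (hn : ∀ a ∈ A, a ∈ Subgroup.normalizer (B : Set G)) : A = B := by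
  classical
  haveI := Fintype.ofFinite A
  have hex : ∀ a : A, ∃ L ∈ lList, VAct θ (a : G) L ∧ lmul L (lmul L L) = lone := fun a => by
    obtain ⟨L, hL, ha⟩ := D.normal_act (hn a a.2)
    refine ⟨L, hL, ha, D.cube_code (k := 4) hL ha ?_⟩
    rw [← Subgroup.coe_pow, show (3 : ℕ) ^ 4 = Nat.card A by rw [hc]; norm_num, pow_card_eq_one', Subgroup.coe_one]
  choose c hcL hcA hc3 using hex
  by_contra hne
  obtain ⟨a, haB⟩ : ∃ a : A, (a : G) ∉ B := by
    by_contra hall
    push Not at hall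
    exact hne (Subgroup.eq_of_le_of_card_ge (fun x hx => hall ⟨x, hx⟩) (by rw [hc, D.card_B]))
  have hcne : c a ≠ lone := fun e => haB (D.mem_of_act_one (e ▸ hcA a))
  have hcT : c a ∈ lThree := List.mem_filter.2 ⟨hcL a, by simp [hc3 a, hcne]⟩
  -- the intersection is fixed by every element of the group
  let I : Finset ℕ := (Finset.range 81).filter fun v => θ v ∈ A
  have hIfix : ∀ b : A, ∀ v ∈ I, v ∈ fixVec (c b) := fun b v hv => by
    rw [Finset.mem_filter, Finset.mem_range] at hv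
    simp only [fixVec, List.mem_filter, List.mem_range, beq_iff_eq]
    refine ⟨hv.1, D.coord.inj _ (lapp_lt _ _) _ hv.1 ?_⟩
    rw [← hcA b v hv.1, hA _ b.2 _ hv.2, mul_inv_cancel_right]
  have hfl : ∀ L ∈ lThree, (fixVec L).length = 9 ∧
      (lList.filter fun M => lmul M L == lmul L M && lmul M (lmul M M) == lone).length ≤ 9 ∧
      ∀ M ∈ lThree, fixVec M = fixVec L → M = L ∨ M = lmul L L := fun L hL => by
    have := of_all lThree_fix hL
    simp only [Bool.and_eq_true, beq_iff_eq, decide_eq_true_eq, List.all_eq_true, Bool.or_eq_true, bne_iff_ne,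
      ne_eq] at this
    exact ⟨this.1.1, this.1.2, fun M hM e => ((this.2 M hM).imp_left fun h => h.resolve_left (not_not_intro e))⟩
  obtain ⟨h9, hcomm9, huniq⟩ := hfl _ hcT
  have hI9 : I.card ≤ 9 := by
    refine le_trans (Finset.card_le_card (t := (fixVec (c a)).toFinset) fun v hv => List.mem_toFinset.2 (hIfix a v hv)) ?_
    exact h9 ▸ List.toFinset_card_le _
  let S : Finset ℕ := (Finset.univ : Finset A).image c
  have hmul : ∀ b d : A, lmul (c b) (c d) = c (b * d) := fun b d =>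
    D.code_eq (D.lmul_mem (hcL b) (hcL d)) (D.coord.act_mul (hcA b) (hcA d)) (hcL _) (hcA (b * d))
  have hS9 : S.card ≤ 9 := by
    refine le_trans (Finset.card_le_card (t := (lList.filter fun M => lmul M (c a) == lmul (c a) M &&
      lmul M (lmul M M) == lone).toFinset) ?_) ((List.toFinset_card_le _).trans hcomm9)
    intro M hM
    obtain ⟨b, -, rfl⟩ := Finset.mem_image.1 hM
    rw [List.mem_toFinset, List.mem_filter]
    refine ⟨hcL b, ?_⟩
    rw [Bool.and_eq_true, beq_iff_eq, beq_iff_eq]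
    refine ⟨?_, hc3 b⟩
    rw [hmul, hmul, show b * a = a * b from Subtype.ext (hA _ b.2 _ a.2)]
  have hfib : (Finset.univ : Finset A).card ≤ I.card * S.card := by
    refine Finset.card_le_mul_card_image _ _ fun M hM => ?_
    obtain ⟨b, -, rfl⟩ := Finset.mem_image.1 hM
    have hdiff : ∀ x : A, c x = c b → ((b⁻¹ * x : A) : G) ∈ B := fun x hx => by
      refine D.mem_of_act_one fun v hv => ?_
      have e1 := hcA x v hv
      rw [hx, ← hcA b v hv] at e1
      rw [lapp_one hv, Subgroup.coe_mul, Subgroup.coe_inv,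
        show (b : G)⁻¹ * x * θ v * ((b : G)⁻¹ * x)⁻¹ = (b : G)⁻¹ * ((x : G) * θ v * (x : G)⁻¹) * b by group, e1]
      group
    choose v hv hve using fun (x : A) (hx : c x = c b) => (D.coord.mem _).1 (hdiff x hx)
    refine Finset.card_le_card_of_injOn (fun x => if hx : c x = c b then v x hx else 0) ?_ ?_
    · intro x hx
      rw [Finset.mem_coe, Finset.mem_filter] at hx
      simp only [dif_pos hx.2, Finset.mem_coe, I, Finset.mem_filter, Finset.mem_range]
      exact ⟨hv x hx.2, hve x hx.2 ▸ (b⁻¹ * x : A).2⟩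
    · intro x hx y hy e
      rw [Finset.mem_coe, Finset.mem_filter] at hx hy
      simp only [dif_pos hx.2, dif_pos hy.2] at e
      have := hve x hx.2
      rw [e, hve y hy.2] at this
      exact (mul_left_cancel (Subtype.ext this : (b⁻¹ * y : A) = b⁻¹ * x)).symm
  rw [Finset.card_univ, ← Nat.card_eq_fintype_card, hc] at hfib
  have hI : I.card = 9 := by nlinarith
  have hS : S.card = 9 := by nlinarith
  have hIset : ∀ M ∈ lThree, (∀ v ∈ I, v ∈ fixVec M) → (fixVec M).toFinset = I := fun M hM h =>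
    (Finset.eq_of_subset_of_card_le (fun v hv => List.mem_toFinset.2 (h v hv))
      ((List.toFinset_card_le _).trans (by rw [(hfl M hM).1, hI]))).symm
  have hsub : S ⊆ {lone, c a, lmul (c a) (c a)} := by
    intro M hM
    obtain ⟨b, -, rfl⟩ := Finset.mem_image.1 hM
    by_cases h1 : c b = lone
    · simp [h1]
    have hbT : c b ∈ lThree := List.mem_filter.2 ⟨hcL b, by simp [hc3 b, h1]⟩
    have e := (hIset _ hbT (hIfix b)).trans (hIset _ hcT (hIfix a)).symm
    have e' : fixVec (c b) = fixVec (c a) := by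
      refine List.filter_congr fun v hv => ?_
      have hm : v ∈ fixVec (c b) ↔ v ∈ fixVec (c a) := by rw [← List.mem_toFinset, e, List.mem_toFinset]
      simp only [fixVec, List.mem_filter, hv, true_and] at hm
      exact Bool.eq_iff_iff.2 hm
    rcases huniq _ hbT e' with h | h <;> simp [h]
  have := (Finset.card_le_card hsub).trans Finset.card_le_three
  omega

/-- Counting a subgroup of the normaliser containing the group by the maps it realises. -/
theorem Base.card_of_codes (D : Base z φ B θ e e') (K : Subgroup G) (l : List ℕ) (hl : l.Nodup)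
    (hsub : ∀ L ∈ l, L ∈ lList) (hK : ∀ g, g ∈ K ↔ ∃ L ∈ l, VAct θ g L) : Nat.card K = 81 * l.length := by
  choose w hw using fun i : Fin l.length => D.exists_act (hsub _ (List.getElem_mem i.2))
  have hact : ∀ (v : Fin 81) (i : Fin l.length), VAct θ (θ v * w i) l[i] := fun v i u hu => by
    rw [show θ v * w i * θ u * (θ v * w i)⁻¹ = θ v * (w i * θ u * (w i)⁻¹) * (θ v)⁻¹ by group, hw i u hu,
      D.coord.comm ((D.coord.mem _).2 ⟨v, v.2, rfl⟩) ((D.coord.mem _).2 ⟨_, lapp_lt _ _, rfl⟩), mul_inv_cancel_right]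
    rfl
  let F : Fin 81 × Fin l.length → K := fun p => ⟨θ p.1 * w p.2, (hK _).2 ⟨_, List.getElem_mem p.2.2, hact _ _⟩⟩
  have hF : Function.Bijective F := by
    refine ⟨fun ⟨v, i⟩ ⟨v', i'⟩ h => ?_, fun ⟨g, hg⟩ => ?_⟩
    · have h' : θ v * w i = θ v' * w i' := congrArg Subtype.val h
      have e := D.code_eq (hsub _ (List.getElem_mem i.2)) (hact v i) (hsub _ (List.getElem_mem i'.2))
        (h' ▸ hact v' i')
      obtain rfl := Fin.ext ((List.Nodup.getElem_inj_iff hl).1 e)
      exact Prod.ext (Fin.ext (D.coord.inj _ v.2 _ v'.2 (mul_right_cancel h'))) rfl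
    · obtain ⟨L, hL, hgL⟩ := (hK g).1 hg
      obtain ⟨i, hi, rfl⟩ := List.mem_iff_getElem.1 hL
      have hb : g * (w ⟨i, hi⟩)⁻¹ ∈ B := D.mem_of_act_one fun u hu => by
        obtain ⟨t, ht, hte⟩ := (D.coord.mem _).1 ((Subgroup.mem_normalizer_iff.1
          ((Subgroup.normalizer (B : Set G)).inv_mem (D.coord.act_normalize (hw ⟨i, hi⟩))) (θ u)).1
          ((D.coord.mem _).2 ⟨u, hu, rfl⟩))
        rw [lapp_one hu, show g * (w ⟨i, hi⟩)⁻¹ * θ u * (g * (w ⟨i, hi⟩)⁻¹)⁻¹ =
          g * ((w ⟨i, hi⟩)⁻¹ * θ u * ((w ⟨i, hi⟩)⁻¹)⁻¹) * g⁻¹ by group, ← hte, hgL t ht]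
        show θ (lapp (l[(⟨i, hi⟩ : Fin l.length)]) t) = _
        rw [show (l[(⟨i, hi⟩ : Fin l.length)]) = l[(⟨i, hi⟩ : Fin l.length).1] from rfl, ← hw ⟨i, hi⟩ t ht, hte]
        group
      obtain ⟨v, hv, hve⟩ := (D.coord.mem _).1 hb
      exact ⟨(⟨v, hv⟩, ⟨i, hi⟩), Subtype.ext (show θ v * w ⟨i, hi⟩ = g by rw [hve, inv_mul_cancel_right])⟩
  rw [← Nat.card_eq_of_bijective F hF, Nat.card_prod, Nat.card_fin, Nat.card_fin]

theorem Base.card_normalizer (D : Base z φ B θ e e') : Nat.card (Subgroup.normalizer (B : Set G)) = 29160 := by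
  rw [D.card_of_codes _ lList lList_ok.2.1 (fun _ h => h) (fun g => by rw [D.normalizer_eq]; rfl), lList_ok.1]

/-- The Sylow 3-subgroups have order 729. -/
theorem Base.three_part (D : Base z φ B θ e e') : 3 ^ 6 ∣ Nat.card G ∧ ¬ 3 ^ 7 ∣ Nat.card G := by
  haveI : Fact (Nat.Prime 3) := ⟨Nat.prime_three⟩
  obtain ⟨N, hN⟩ : ∃ N, Subgroup.normalizer (B : Set G) = N := ⟨_, rfl⟩
  have hNc : Nat.card N = 29160 := hN ▸ D.card_normalizer
  refine ⟨(show 3 ^ 6 ∣ Nat.card N by rw [hNc]; norm_num).trans (Subgroup.card_subgroup_dvd_card N), fun h7 => ?_⟩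
  have hBN : B ≤ N := hN ▸ Subgroup.le_normalizer
  -- a Sylow subgroup of the normaliser containing the group
  have hBp : IsPGroup 3 B := IsPGroup.of_card (n := 4) (by rw [D.card_B]; norm_num)
  obtain ⟨P₀, hP₀⟩ := (hBp.comap_subtype (H := B) (G := G) : IsPGroup 3 (B.subgroupOf N)).exists_le_sylow
  have hP₀c : Nat.card P₀ = 3 ^ 6 := by
    rw [P₀.card_eq_multiplicity, hNc, show Nat.factorization 29160 3 = 6 from ?_]
    rw [show 29160 = 3 ^ 6 * 40 by norm_num, Nat.factorization_mul (by norm_num) (by norm_num), Finsupp.add_apply,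
      Nat.Prime.factorization_pow Nat.prime_three, Finsupp.single_eq_same,
      Nat.factorization_eq_zero_of_not_dvd (by norm_num)]
  obtain ⟨P, hPdef⟩ : ∃ P, (P₀ : Subgroup N).map N.subtype = P := ⟨_, rfl⟩
  have hPN : P ≤ N := hPdef ▸ Subgroup.map_subtype_le _
  have hBP : B ≤ P := fun x hx => hPdef ▸ ⟨⟨x, hBN hx⟩, hP₀ hx, rfl⟩
  have hPc : Nat.card P = 3 ^ 6 := by
    rw [← hPdef, Subgroup.card_map_of_injective (Subgroup.subtype_injective _), hP₀c]
  -- a 3-subgroup of order 3^7 containing it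
  obtain ⟨R, hR, hPR⟩ := Sylow.exists_subgroup_card_pow_prime_le 3 h7 P hPc (by norm_num)
  haveI : (P.subgroupOf R).Normal := by
    refine Subgroup.normal_of_index_eq_minFac_card ?_
    have h1 := (P.subgroupOf R).card_mul_index
    rw [Nat.card_congr (Subgroup.subgroupOfEquivOfLe hPR).toEquiv, hPc, hR] at h1
    rw [hR, Nat.pow_minFac (by norm_num), Nat.Prime.minFac_eq Nat.prime_three]
    omega
  have hRN : R ≤ N := by
    intro g hg
    rw [← hN, Subgroup.mem_normalizer_iff]
    have hg' : ∀ x ∈ B, g * x * g⁻¹ ∈ P := fun x hx =>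
      this.conj_mem ⟨x, hPR (hBP hx)⟩ (hBP hx) ⟨g, hg⟩
    have hA : B.map (MulAut.conj g).toMonoidHom = B := by
      refine D.abelian_unique _ ?_ ?_ ?_
      · rintro _ ⟨a, ha, rfl⟩ _ ⟨b, hb, rfl⟩
        simp only [MulEquiv.coe_toMonoidHom, MulAut.conj_apply]
        rw [show g * a * g⁻¹ * (g * b * g⁻¹) = g * (a * b) * g⁻¹ by group, D.coord.comm ha hb]
        group
      · rw [Subgroup.card_map_of_injective (MulAut.conj g).injective, D.card_B]
      · rintro _ ⟨a, ha, rfl⟩
        exact hN.symm ▸ hPN (hg' a ha)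
    intro x
    refine ⟨fun hx => hA.le ⟨x, hx, rfl⟩, fun hx => ?_⟩
    obtain ⟨y, hy, hye⟩ := hA.ge hx
    rwa [show x = y from mul_left_cancel (a := g) (mul_right_cancel (b := g⁻¹) hye.symm)]
  have := Subgroup.card_dvd_of_le hRN
  rw [hR, hNc] at this
  norm_num at this

end CfsgU43Type
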