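import Cfsg.Agent.Lib.U43Type.CycleE
import Cfsg.Agent.Lib.U43Type.Util
import Cfsg.Agent.Lib.U43Type.TChecks

/-!
Groups of U₄(3) type: the Sylow 3-subgroup of the centraliser is centralised by more than itself and `z`.
-/

set_option autoImplicit false
set_option maxRecDepth 100000
set_option linter.unusedSectionVars false

namespace CfsgU43Type

variable {G : Type*} [Group G] {z : G} {φ : ℕ → G}

theorem tList_facts {p : ℕ} (hp : p ∈ tList) : p < 1152 ∧ mcube p = 0 ∧ minv p ∈ tList ∧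
    ∀ q ∈ tList, mmul p q ∈ tList ∧ mmul p q = mmul q p := by
  have := of_all tList_group.1 hp
  simp only [Bool.and_eq_true, decide_eq_true_eq, beq_iff_eq, List.contains_iff_mem, List.all_eq_true] at this
  exact ⟨this.1.1.1, this.1.1.2, this.1.2, this.2⟩

theorem Data.cube_eq (D : Data z φ) {h : ℕ} (hh : h < 1152) : φ (mcube h) = φ h ^ 3 := by
  rw [mcube, D.mul _ hh _ (mmul_lt hh hh), D.mul _ hh _ hh, pow_succ', pow_two]

theorem mcube_lt {h : ℕ} (hh : h < 1152) : mcube h < 1152 := mmul_lt hh (mmul_lt hh hh)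

/-- The Sylow 3-subgroup of the centraliser, as a subgroup. -/
def tSub (D : Data z φ) : Subgroup G where
  carrier := {g | ∃ p ∈ tList, φ p = g}
  one_mem' := ⟨0, by simp [tList], D.one⟩
  mul_mem' := by
    rintro _ _ ⟨p, hp, rfl⟩ ⟨q, hq, rfl⟩
    exact ⟨mmul p q, ((tList_facts hp).2.2.2 q hq).1, D.mul _ (tList_facts hp).1 _ (tList_facts hq).1⟩
  inv_mem' := by
    rintro _ ⟨p, hp, rfl⟩
    exact ⟨minv p, (tList_facts hp).2.2.1, D.inv (tList_facts hp).1⟩

theorem tSub_pow (D : Data z φ) {g : G} (hg : g ∈ tSub D) : g ^ 3 = 1 := by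
  obtain ⟨p, hp, rfl⟩ := hg
  rw [← D.cube_eq (tList_facts hp).1, (tList_facts hp).2.1, D.one]

theorem tSub_isPGroup (D : Data z φ) : IsPGroup 3 (tSub D) := fun g =>
  ⟨1, Subtype.ext (by rw [pow_one]; exact tSub_pow D g.2)⟩

/-- Otherwise the group of order nine would be a Sylow 3-subgroup, which it is not. -/
theorem Data.cent_T_big [Finite G] (D : Data z φ) : ∃ c : G, c * φ 384 = φ 384 * c ∧ c * φ 16 = φ 16 * c ∧
    ∀ p ∈ tList, c ≠ φ p ∧ c ≠ φ (mmul p 48) := by
  classical
  haveI : Fact (Nat.Prime 3) := ⟨Nat.prime_three⟩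
  by_contra hnone
  push Not at hnone
  have hsmall : ∀ c : G, (∀ p ∈ tList, c * φ p = φ p * c) → ∃ p ∈ tList, c = φ p ∨ c = φ (mmul p 48) := by
    intro c hc
    obtain ⟨p, hp, h⟩ := hnone c (hc 384 (by simp [tList])) (hc 16 (by simp [tList]))
    exact ⟨p, hp, or_iff_not_imp_left.2 h⟩
  -- an element normalising the subgroup fixes `z`
  have hnorm : ∀ n : G, (∀ x, x ∈ tSub D ↔ n * x * n⁻¹ ∈ tSub D) → ∃ h < 1152, φ h = n ∧
      (tList.all fun p => tList.contains (mconj h p)) = true := by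
    intro n hn
    have hz : n * z * n⁻¹ = z := by
      obtain ⟨p, hp, hpe⟩ := hsmall (n * z * n⁻¹) (fun q hq => by
        have hmem : n⁻¹ * φ q * n ∈ tSub D := (hn _).2 (by
          rw [show n * (n⁻¹ * φ q * n) * n⁻¹ = φ q by group]; exact ⟨q, hq, rfl⟩)
        obtain ⟨r, hr, hre⟩ := hmem
        calc n * z * n⁻¹ * φ q = n * (z * (n⁻¹ * φ q * n)) * n⁻¹ := by group
          _ = n * ((n⁻¹ * φ q * n) * z) * n⁻¹ := by rw [← hre, D.comm_z (tList_facts hr).1]
          _ = φ q * (n * z * n⁻¹) := by group)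
      have hsq : n * z * n⁻¹ * (n * z * n⁻¹) = 1 := by
        rw [show n * z * n⁻¹ * (n * z * n⁻¹) = n * (z * z) * n⁻¹ by group, D.zz]; group
      have hne : n * z * n⁻¹ ≠ 1 := fun e => D.z_ne (conj_eq_one_iff.1 e)
      have hl := (tList_facts hp).1
      rcases hpe with e | e <;> rw [e] at hsq hne ⊢
      · have h2 := of_all t_cent.2.2 hp
        simp only [(D.sq_iff hl).1 hsq, bne_self_eq_false, Bool.false_or, beq_iff_eq] at h2
        exact absurd (h2 ▸ D.one) hne
      · have h2 := of_all t_cent.2.1 hp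
        simp only [(D.sq_iff (mmul_lt hl (by norm_num))).1 hsq, bne_self_eq_false, Bool.false_or, beq_iff_eq] at h2
        rw [h2, show mmul 0 48 = 48 by decide +kernel, D.zc]
    obtain ⟨h, hh, rfl⟩ := (D.cent n).1 (mul_inv_eq_iff_eq_mul.1 hz)
    refine ⟨h, hh, rfl, ?_⟩
    simp only [List.all_eq_true, List.contains_iff_mem]
    intro p hp
    obtain ⟨q, hq, hqe⟩ := (hn (φ p)).1 ⟨p, hp, rfl⟩
    rw [← D.conj hh (tList_facts hp).1] at hqe
    exact D.inj _ (tList_facts hq).1 _ (mconj_lt hh (tList_facts hp).1) hqe ▸ hq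
  -- it is a Sylow subgroup
  obtain ⟨P, hP⟩ := (tSub_isPGroup D).exists_le_sylow
  have hPT : (P : Subgroup G) = tSub D := by
    by_contra hne
    obtain ⟨n, hnP, hnT, hn⟩ := exists_normalizing P.2 hP (Ne.symm hne)
    obtain ⟨h, hh, rfl, hfix⟩ := hnorm n hn
    obtain ⟨k, hk⟩ := IsPGroup.iff_orderOf.1 P.2 ⟨φ h, hnP⟩
    rw [Subgroup.orderOf_mk] at hk
    have hdvd : orderOf (φ h) ∣ 1152 := by
      rw [← D.card_cent]
      exact Subgroup.orderOf_dvd_natCard _ (Subgroup.mem_centralizer_singleton_iff.2 (D.comm_z hh))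
    rw [hk] at hdvd
    have hk2 : k ≤ 2 := by
      by_contra hk3
      have : 3 ^ 3 ∣ 1152 := (pow_dvd_pow 3 (by omega : 3 ≤ k)).trans hdvd
      norm_num at this
    have h9 : φ h ^ 9 = 1 := orderOf_dvd_iff_pow_eq_one.1 (hk ▸ (pow_dvd_pow 3 hk2))
    have hc : mcube (mcube h) = 0 := D.inj _ (mcube_lt (mcube_lt hh)) 0 (by norm_num) (by
      rw [D.cube_eq (mcube_lt hh), D.cube_eq hh, ← pow_mul, D.one]; exact h9)
    have := of_range_all t_norm hh
    simp only [hfix, hc, Bool.not_true, Bool.false_or, bne_self_eq_false, Bool.and_eq_true,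
      List.contains_iff_mem] at this
    exact hnT ⟨h, this.2, rfl⟩
  haveI : IsMulCommutative (P : Subgroup G) := ⟨⟨fun a b => Subtype.ext (by
    obtain ⟨p, hp, hpe⟩ := (SetLike.ext_iff.1 hPT _).1 a.2
    obtain ⟨q, hq, hqe⟩ := (SetLike.ext_iff.1 hPT _).1 b.2
    show (a : G) * b = b * a
    rw [← hpe, ← hqe, (D.commute_iff (tList_facts hp).1 (tList_facts hq).1).2 ((tList_facts hp).2.2.2 q hq).2])⟩⟩
  obtain ⟨e, hed, hez, -, -, he3, -, hU⟩ := D.exists_e
  obtain ⟨d, hd⟩ : ∃ d, φ 400 = d := ⟨_, rfl⟩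
  rw [hd] at hed
  have hd3 : d ^ 3 = 1 := hd ▸ tSub_pow D ⟨400, by simp [tList], rfl⟩
  -- the element of the second group of order nine centralising the commutator group
  obtain ⟨k, hk3, hkd, hk1, hk2, hknot⟩ : ∃ k : G, k ^ 3 = 1 ∧ k * d = d * k ∧ k * φ 100 * k⁻¹ = φ 100 ∧
      k * φ 200 * k⁻¹ = φ 200 ∧ k ≠ 1 := by
    obtain ⟨c1, c2⟩ : (([100, 200, 300] : List ℕ).all fun u =>
        u == 100 || u == mconj 400 100 || u == mconj 400 (mconj 400 100)) = true ∧
        mconj 400 100 = 200 := by decide +kernel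
    obtain ⟨u, hu, hue⟩ := hU 100 (by simp)
    have h' := of_all c1 hu
    simp only [Bool.or_eq_true, beq_iff_eq] at h'
    have l1 := mconj_lt (h := 400) (x := 100) (by norm_num) (by norm_num)
    obtain ⟨i, hi⟩ : ∃ i : ℕ, φ u = d ^ i * φ 100 * (d ^ i)⁻¹ := by
      rcases h' with (e1 | e1) | e1 <;> rw [e1]
      · exact ⟨0, by simp⟩
      · exact ⟨1, by rw [D.conj (by norm_num) (by norm_num), hd, pow_one]⟩
      · exact ⟨2, by rw [D.conj (by norm_num) l1, D.conj (by norm_num) (by norm_num), hd, pow_two]; group⟩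
    have hc : Commute e d := hed
    have hci : Commute e (d ^ i) := hc.pow_right i
    refine ⟨(d ^ i)⁻¹ * e, ?_, ?_, ?_, ?_, ?_⟩
    · rw [hci.symm.inv_left.mul_pow, inv_pow, ← pow_mul, mul_comm i 3, pow_mul, hd3, one_pow, inv_one, one_mul,
        pow_succ, pow_two, he3]
    · exact ((((Commute.refl d).pow_left i).inv_left).mul_left hc).eq
    · rw [show (d ^ i)⁻¹ * e * φ 100 * ((d ^ i)⁻¹ * e)⁻¹ = (d ^ i)⁻¹ * (e * φ 100 * e⁻¹) * d ^ i by group, hue,
        hi]
      group
    · have e200 : ∃ j : ℕ, φ 200 = d ^ j * φ 100 * (d ^ j)⁻¹ :=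
        ⟨1, by rw [← c2, D.conj (by norm_num) (by norm_num), hd, pow_one]⟩
      obtain ⟨j, hj⟩ := e200
      obtain ⟨w, hw⟩ : ∃ w, d ^ j = w := ⟨_, rfl⟩
      obtain ⟨v, hv⟩ : ∃ v, (d ^ i)⁻¹ * e = v := ⟨_, rfl⟩
      have hcv : Commute v w := by
        rw [← hv, ← hw]
        exact ((((Commute.refl d).pow_left i).inv_left).mul_left hc).pow_right j
      have h100 : v * φ 100 * v⁻¹ = φ 100 := by
        rw [← hv, show (d ^ i)⁻¹ * e * φ 100 * ((d ^ i)⁻¹ * e)⁻¹ = (d ^ i)⁻¹ * (e * φ 100 * e⁻¹) * d ^ i by group,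
          hue, hi]
        group
      rw [hj, hv, hw]
      calc v * (w * φ 100 * w⁻¹) * v⁻¹ = (v * w) * φ 100 * (v * w)⁻¹ := by group
        _ = (w * v) * φ 100 * (w * v)⁻¹ := by rw [hcv.eq]
        _ = w * (v * φ 100 * v⁻¹) * w⁻¹ := by group
        _ = w * φ 100 * w⁻¹ := by rw [h100]
    · intro h1
      have he' : e = d ^ i := (inv_mul_eq_one.1 h1).symm
      rw [he', show d ^ i * z * (d ^ i)⁻¹ = z by
        have : Commute (d ^ i) z := (show Commute d z from hd ▸ D.comm_z (by norm_num)).pow_left i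
        rw [this.eq, mul_inv_cancel_right], ← D.zc] at hez
      exact absurd (D.inj 48 (by norm_num) 1 (by norm_num) hez) (by norm_num)
  -- conjugate to the diagonal element
  obtain ⟨w, hw⟩ : ∃ w : G, w⁻¹ * k * w = d ∨ w⁻¹ * k * w = d * d := by
    obtain ⟨g, hg1, hg2, hg3, hgA⟩ := D.exists_swap_fix
    obtain ⟨q, hq, hqe⟩ := hgA.inv D 200 (by simp [aList])
    have hq8 : q ∈ eightList := by
      have hs := of_all aList_split.1 hq
      simp only [Bool.or_eq_true, beq_iff_eq, List.contains_iff_mem] at hs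
      by_contra hne
      have hqQ : inQm q = true := by
        have := of_all aList_split.2.2.2 hq
        simp only [beq_iff_eq] at this
        rw [this]; simpa [hne] using hs
      have := hg3 q (aList_lt hq) 200 (by norm_num) hqQ (by decide +kernel) (by rw [← hqe]; group)
      simp [eList] at this
    have := of_all parts_trans.2 hq8
    simp only [List.any_eq_true, List.mem_range, Bool.and_eq_true, beq_iff_eq] at this
    obtain ⟨h, hh, hhe, -⟩ := this
    obtain ⟨w, hw⟩ : ∃ w, g * φ h = w := ⟨_, rfl⟩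
    have wz : w⁻¹ * φ 100 * w = z := by
      rw [← hw, ← hg1, show (g * φ h)⁻¹ * (g * z * g⁻¹) * (g * φ h) = (φ h)⁻¹ * z * φ h by group, mul_assoc,
        ← D.comm_z hh, inv_mul_cancel_left]
    have w1 : w⁻¹ * φ 200 * w = φ 1 := by
      rw [← hw, show (g * φ h)⁻¹ * φ 200 * (g * φ h) = (φ h)⁻¹ * (g⁻¹ * φ 200 * g⁻¹⁻¹) * φ h by group, hqe, ← hhe,
        D.conj hh (by norm_num)]
      group
    obtain ⟨m, hm, hme⟩ := (D.cent (w⁻¹ * k * w)).1 (mul_inv_eq_iff_eq_mul.1 (by
      rw [← wz, show w⁻¹ * k * w * (w⁻¹ * φ 100 * w) * (w⁻¹ * k * w)⁻¹ = w⁻¹ * (k * φ 100 * k⁻¹) * w by group, hk1]))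
    have hm1 : mmul m 1 = mmul 1 m := (D.commute_iff hm (by norm_num)).1 (mul_inv_eq_iff_eq_mul.1 (by
      rw [hme, ← w1, show w⁻¹ * k * w * (w⁻¹ * φ 200 * w) * (w⁻¹ * k * w)⁻¹ = w⁻¹ * (k * φ 200 * k⁻¹) * w by group,
        hk2]))
    have hm3 : mmul m (mmul m m) = 0 := D.inj _ (mcube_lt hm) 0 (by norm_num) (by
      show φ (mcube m) = φ 0
      rw [D.cube_eq hm, hme, D.one, show w⁻¹ * k * w = w⁻¹ * k * w⁻¹⁻¹ by group, conj_pow, hk3]; group)
    have hm0 : m ≠ 0 := fun e => hknot (by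
      rw [e, D.one] at hme
      calc k = w * (w⁻¹ * k * w) * w⁻¹ := by group
        _ = 1 := by rw [← hme]; group)
    have := of_range_all centV.2 hm
    simp [hm1, hm3, hm0] at this
    obtain ⟨a, ha, hae⟩ := this.2
    refine ⟨w * (φ a)⁻¹, ?_⟩
    have e2 : (w * (φ a)⁻¹)⁻¹ * k * (w * (φ a)⁻¹) = φ (mconj a m) := by
      rw [D.conj (aList_lt ha) hm, hme]; group
    rw [e2]
    rcases hae with e1 | e1 <;> rw [e1]
    · exact Or.inl hd
    · right
      rw [← hd, ← D.mul _ (by norm_num) _ (by norm_num), show mmul 400 400 = 800 by decide +kernel]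
  -- the group they generate
  obtain ⟨S, hS⟩ : ∃ S, Subgroup.closure ({d, k} : Set G) = S := ⟨_, rfl⟩
  have hSp : IsPGroup 3 S := by
    intro x
    refine ⟨1, Subtype.ext ?_⟩
    show (x : G) ^ 3 ^ 1 = 1
    have hx : (x : G) ∈ Subgroup.closure ({d, k} : Set G) := hS ▸ x.2
    have key : ∀ y ∈ Subgroup.closure ({d, k} : Set G), y ^ 3 = 1 ∧ Commute y d ∧ Commute y k := by
      intro y hy
      induction hy using Subgroup.closure_induction with
      | mem y hy =>
        rcases hy with rfl | rfl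
        · exact ⟨hd3, Commute.refl _, Commute.symm hkd⟩
        · exact ⟨hk3, hkd, Commute.refl _⟩
      | one => exact ⟨one_pow _, Commute.one_left _, Commute.one_left _⟩
      | mul a b ha hb iha ihb =>
        have hab : Commute a b := by
          have hle : Subgroup.closure ({d, k} : Set G) ≤ Subgroup.centralizer ({a} : Set G) := by
            rw [Subgroup.closure_le]
            rintro y (rfl | rfl)
            · exact Subgroup.mem_centralizer_singleton_iff.2 iha.2.1.symm.eq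
            · exact Subgroup.mem_centralizer_singleton_iff.2 iha.2.2.symm.eq
          exact Commute.symm (Subgroup.mem_centralizer_singleton_iff.1 (hle hb))
        exact ⟨by rw [hab.mul_pow, iha.1, ihb.1, one_mul], iha.2.1.mul_left ihb.2.1, iha.2.2.mul_left ihb.2.2⟩
      | inv a _ iha => exact ⟨by rw [inv_pow, iha.1, inv_one], iha.2.1.inv_left, iha.2.2.inv_left⟩
    simpa using (key _ hx).1
  obtain ⟨R, hR⟩ := hSp.exists_le_sylow
  obtain ⟨g, hg⟩ := MulAction.exists_smul_eq G R P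
  have hmem : ∀ x ∈ ({d, k} : Set G), g * x * g⁻¹ ∈ (P : Subgroup G) := fun x hx => by
    rw [← hg, Sylow.coe_subgroup_smul]
    exact ⟨x, hR (hS ▸ Subgroup.subset_closure hx), rfl⟩
  have hdP : d ∈ (P : Subgroup G) := by rw [hPT]; exact ⟨400, by simp [tList], hd⟩
  -- Burnside
  have burn : ∀ (y : G) (c : G), c⁻¹ * d * c = y ∨ c⁻¹ * (d * d) * c = y → y ∈ (P : Subgroup G) →
      y = d ∨ y = d * d := by
    intro y c hc hy
    have e800 : d * d = φ 800 := by
      rw [← hd, ← D.mul _ (by norm_num) _ (by norm_num), show mmul 400 400 = 800 by decide +kernel]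
    have main : ∀ x : ℕ, x = 400 ∨ x = 800 → c⁻¹ * φ x * c = y → y = d ∨ y = d * d := by
      intro x hx he
      have hxP : φ x ∈ (P : Subgroup G) := by
        rw [hPT]
        exact ⟨x, by rcases hx with rfl | rfl <;> simp [tList], rfl⟩
      obtain ⟨n, hn, hne⟩ := P.conj_eq_normalizer_conj_of_mem (φ x) c hxP (he ▸ hy)
      rw [he] at hne
      have hn' : ∀ u, u ∈ tSub D ↔ n⁻¹ * u * n⁻¹⁻¹ ∈ tSub D := fun u => by
        rw [← hPT]; exact Subgroup.mem_normalizer_iff.1 (inv_mem hn) u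
      obtain ⟨h, hh, hhe, hfix⟩ := hnorm n⁻¹ hn'
      have hxl : x < 1152 := by rcases hx with rfl | rfl <;> norm_num
      have hy' : y = φ (mconj h x) := by rw [D.conj hh hxl, hhe, hne]; group
      have := of_range_all t_norm hh
      simp only [hfix, Bool.not_true, Bool.false_or, Bool.and_eq_true, Bool.or_eq_true, beq_iff_eq] at this
      rw [hy', e800, ← hd]
      rcases hx with rfl | rfl
      · rcases this.1 with e1 | e1 <;> rw [e1]
        · exact Or.inl rfl
        · exact Or.inr rfl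
      · have e8 : φ (mconj h 800) = φ (mconj h 400) * φ (mconj h 400) := by
          rw [D.conj hh (by norm_num), D.conj hh (by norm_num), ← e800, hd]; group
        rw [e8]
        rcases this.1 with e1 | e1 <;> rw [e1]
        · exact Or.inr (by rw [hd, e800])
        · left
          rw [← D.mul _ (by norm_num) _ (by norm_num), show mmul 800 800 = 400 by decide +kernel]
    rcases hc with hc | hc
    · exact main 400 (Or.inl rfl) (by rw [hd]; exact hc)
    · exact main 800 (Or.inr rfl) (by rw [← e800]; exact hc)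
  have t1 := burn (g * d * g⁻¹) g⁻¹ (Or.inl (by group)) (hmem d (Or.inl rfl))
  have t2 := burn (g * k * g⁻¹) (w⁻¹ * g⁻¹) (by
    rcases hw with e | e
    · exact Or.inl (by rw [← e]; group)
    · exact Or.inr (by rw [← e]; group)) (hmem k (Or.inr rfl))
  have hgd : g * k * g⁻¹ = g * d * g⁻¹ ∨ g * k * g⁻¹ = g * (d * d) * g⁻¹ := by
    have e2 : g * (d * d) * g⁻¹ = g * d * g⁻¹ * (g * d * g⁻¹) := by group
    have hdddd : d * d * (d * d) = d := by
      rw [show d * d * (d * d) = d ^ 3 * d by simp [pow_succ, mul_assoc], hd3, one_mul]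
    rcases t1 with e1 | e1 <;> rcases t2 with e3 | e3 <;> rw [e3, e2, e1]
    · exact Or.inl rfl
    · exact Or.inr rfl
    · exact Or.inr hdddd.symm
    · exact Or.inl rfl
  -- but `d` moves `φ 100`
  have hk' : k = d ∨ k = d * d := hgd.imp (fun e => mul_left_cancel (mul_right_cancel e))
    (fun e => mul_left_cancel (mul_right_cancel e))
  have h800 : mmul 400 400 = 800 := by decide +kernel
  rcases hk' with e1 | e1 <;> rw [e1, ← hd] at hk1
  · rw [← D.conj (by norm_num) (by norm_num)] at hk1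
    exact absurd (D.inj _ (mconj_lt (by norm_num) (by norm_num)) 100 (by norm_num) hk1) (by decide +kernel)
  · rw [← D.mul _ (by norm_num) _ (by norm_num), h800, ← D.conj (by norm_num) (by norm_num)] at hk1
    exact absurd (D.inj _ (mconj_lt (by norm_num) (by norm_num)) 100 (by norm_num) hk1) (by decide +kernel)

end CfsgU43Type
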