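import Cfsg.Agent.Lib.U43Type.UCent

/-!
Groups of U₄(3) type: the elements of order three and their centralisers.
-/

set_option autoImplicit false
set_option maxRecDepth 100000
set_option linter.unusedSectionVars false

namespace CfsgU43Type

theorem stab_lifts : ((lThree.filter fun L => lapp L 1 == 1).all fun L =>
    ([lone, lZ, lS, lmul lZ lS].any fun M => lmul M lE == lmul L M || lmul M (lmul lE lE) == lmul L M) &&
    (List.range 81).all fun v => vadd (vadd v (lapp L v)) (lapp L (lapp L v)) != 1 &&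
      vadd (vadd v (lapp L v)) (lapp L (lapp L v)) != 2) = true := by
  decide +kernel

variable {G : Type*} [Group G] {z : G} {φ : ℕ → G} {B : Subgroup G} {θ : ℕ → G} {e e' : G} {O : Subgroup G} {vw : ℕ}

theorem Base.B_cube (D : Base z φ B θ e e') {x : G} (hx : x ∈ B) : x ^ 3 = 1 := by
  obtain ⟨v, hv, rfl⟩ := (D.coord.mem x).1 hx
  have h0 : ((List.range 81).all fun v => vadd (vadd v v) v == 0) = true := by decide +kernel
  have := of_range_all h0 hv
  simp only [beq_iff_eq] at this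
  rw [pow_succ, pow_two, ← D.coord.add v hv v hv, ← D.coord.add _ (vadd_lt hv hv) v hv, this, D.coord.zero]

/-- The cube of a product with an element of order dividing three. -/
theorem Base.cube_prod (D : Base z φ B θ e e') {o : G} {L v : ℕ} (hv : v < 81) (ho : VAct θ o L) (h3 : o ^ 3 = 1) :
    (o * θ v) ^ 3 = θ (vadd (vadd v (lapp L v)) (lapp L (lapp L v))) := by
  have l1 := lapp_lt L v
  have l2 := lapp_lt L (lapp L v)
  rw [D.coord.add _ (vadd_lt hv l1) _ l2, D.coord.add _ hv _ l1, ← ho _ l1, ← ho v hv]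
  have hB : θ v ∈ B := (D.coord.mem _).2 ⟨v, hv, rfl⟩
  have hA : o * θ v * o⁻¹ ∈ B := (D.coord.mem _).2 ⟨_, l1, (ho v hv).symm⟩
  have hC : o * (o * θ v * o⁻¹) * o⁻¹ ∈ B := (D.coord.mem _).2 ⟨_, l2, by rw [ho v hv, ho _ l1]⟩
  obtain ⟨a, ha⟩ : ∃ a, θ v = a := ⟨_, rfl⟩
  rw [ha] at hB hA hC ⊢
  calc (o * a) ^ 3 = (o * a * o⁻¹) * (o * (o * a * o⁻¹) * o⁻¹) * (o ^ 3) * a := by
        simp only [pow_succ, pow_zero, one_mul]; group
    _ = a * ((o * a * o⁻¹) * (o * (o * a * o⁻¹) * o⁻¹)) := by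
        rw [h3, mul_one, D.coord.comm (B.mul_mem hA hC) hB]
    _ = _ := by group

variable [Finite G]

/-- Every element of order three is conjugate to an element of the elementary group or to an untyped element. -/
theorem WData.three_cases (W : WData z φ B θ O vw) (D : Base z φ B θ e e') {y : G} (h3 : y ^ 3 = 1) :
    ∃ g, g * y * g⁻¹ ∈ B ∨ Untyped z φ B O (g * y * g⁻¹) := by
  haveI : Fact (Nat.Prime 3) := ⟨Nat.prime_three⟩
  -- into the centraliser of `φ 384`
  obtain ⟨g, hg⟩ : ∃ g, g * y * g⁻¹ * φ 384 = φ 384 * (g * y * g⁻¹) := by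
    obtain ⟨X, hX⟩ : ∃ X, Subgroup.centralizer ({φ 384} : Set G) = X := ⟨_, rfl⟩
    obtain ⟨K, hK⟩ := Sylow.exists_subgroup_card_pow_prime (G := ↥X) 3 (n := 6) (by
      rw [← hX, W.cardX]; norm_num)
    have hKm : Nat.card (K.map X.subtype) = 3 ^ 6 := by
      rw [Subgroup.card_map_of_injective (Subgroup.subtype_injective _), hK]
    have hfac : (Nat.card G).factorization 3 = 6 := by
      refine le_antisymm ?_ ?_
      · by_contra h
        exact D.three_part.2 ((Nat.Prime.pow_dvd_iff_le_factorization Nat.prime_three Nat.card_pos.ne').2 (by omega))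
      · exact (Nat.Prime.pow_dvd_iff_le_factorization Nat.prime_three Nat.card_pos.ne').1 D.three_part.1
    let P : Sylow 3 G := Sylow.ofCard (K.map X.subtype) (by rw [hKm, hfac])
    obtain ⟨R, hR⟩ := (IsPGroup.iff_card.2 (by
      obtain ⟨j, -, hj⟩ := (Nat.dvd_prime_pow Nat.prime_three).1 (show orderOf y ∣ 3 ^ 1 by
        rw [pow_one]; exact orderOf_dvd_iff_pow_eq_one.2 h3)
      exact ⟨j, by rw [Nat.card_zpowers, hj]⟩) : IsPGroup 3 (Subgroup.zpowers y)).exists_le_sylow
    obtain ⟨g, hg⟩ := MulAction.exists_smul_eq G R P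
    refine ⟨g, ?_⟩
    have hmem : g * y * g⁻¹ ∈ (P : Subgroup G) := by
      rw [← hg, Sylow.coe_subgroup_smul]
      exact ⟨y, hR (Subgroup.mem_zpowers y), rfl⟩
    have hPX : (P : Subgroup G) ≤ X := Subgroup.map_subtype_le K
    exact Subgroup.mem_centralizer_singleton_iff.1 (hX ▸ hPX hmem)
  obtain ⟨x, hx⟩ : ∃ x, g * y * g⁻¹ = x := ⟨_, rfl⟩
  rw [hx] at hg
  have hx3 : x ^ 3 = 1 := by rw [← hx, conj_pow, h3, mul_one, mul_inv_cancel]
  have hconj : ∀ k : G, k * x * k⁻¹ = k * g * y * (k * g)⁻¹ := fun k => by rw [← hx]; group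
  -- elements of the core
  have hcore : ∀ k : G, k * x * k⁻¹ ∈ O →
      ∃ g, g * y * g⁻¹ ∈ B ∨ Untyped z φ B O (g * y * g⁻¹) := by
    intro k hk
    obtain ⟨i, s, hsO, hzs, hxe⟩ := W.core.split_inv D hk
    by_cases hu : Untyped z φ B O s
    · obtain ⟨o, ho, hoe⟩ := (W.u_index D hu).2 i
      refine ⟨o⁻¹ * k * g, Or.inr ?_⟩
      rw [show o⁻¹ * k * g * y * (o⁻¹ * k * g)⁻¹ = o⁻¹ * (k * (g * y * g⁻¹) * k⁻¹) * o by group, hx, hxe,
        show φ 384 ^ i * s = s * φ 384 ^ i from
          ((show Commute s (φ 384) from W.core.comm_w s hsO).pow_right i).eq.symm,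
        ← hoe]
      rwa [show o⁻¹ * (o * s * o⁻¹) * o = s by group]
    · obtain ⟨r, hr, b, hb, hse⟩ := W.typed_plane D hsO hzs hu
      have hrw := (D.data.commute_iff (rList_mem hr).1 (by norm_num)).2 (rList_mem hr).2.1
      refine ⟨(φ r)⁻¹ * k * g, Or.inl ?_⟩
      rw [show (φ r)⁻¹ * k * g * y * ((φ r)⁻¹ * k * g)⁻¹ = (φ r)⁻¹ * (k * (g * y * g⁻¹) * k⁻¹) * φ r by group, hx, hxe,
        hse, show (φ r)⁻¹ * (φ 384 ^ i * (φ r * θ b * (φ r)⁻¹)) * φ r = (φ r)⁻¹ * (φ 384 ^ i * φ r) * θ b by group,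
        ← ((show Commute (φ r) (φ 384) from hrw).pow_right i).eq, inv_mul_cancel_left]
      exact B.mul_mem (B.pow_mem (D.data.t_mem_B D.odd (by simp [tList])) i)
        ((D.coord.mem _).2 ⟨b, (wPlane_facts hb).1, rfl⟩)
  obtain ⟨o, ho, hoz⟩ := W.core.split x hg
  obtain ⟨h, hh, hhe⟩ := (D.data.cent _).1 hoz
  have how : (o * x) * φ 384 = φ 384 * (o * x) :=
    (Commute.mul_left (show Commute o (φ 384) from W.core.comm_w o ho) (show Commute x (φ 384) from hg)).eq
  have hc : mmul h 384 = mmul 384 h := (D.data.commute_iff hh (by norm_num)).1 (hhe ▸ how)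
  -- it has 3-power order
  have h9 : mcube (mcube h) = 0 := by
    refine D.data.nine_of_odd hh ?_
    have hmem : ∀ n : ℕ, (o * x) ^ n * (x ^ n)⁻¹ ∈ O := by
      intro n
      induction n with
      | zero => simp [O.one_mem]
      | succ n ih =>
        rw [pow_succ', pow_succ' x, show o * x * (o * x) ^ n * (x * x ^ n)⁻¹ =
          o * (x * ((o * x) ^ n * (x ^ n)⁻¹) * x⁻¹) by group]
        exact O.mul_mem ho (W.core.norm x hg _ ih)
    have h3' := hmem 3
    rw [hx3, inv_one, mul_one] at h3'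
    have := W.cube _ h3'
    rw [← pow_mul, ← hhe] at this
    exact Odd.of_dvd_nat (show Odd (3 * 3) by decide) (orderOf_dvd_iff_pow_eq_one.2 this)
  have hpow48 : ([h, mmul h h, mcube h, mmul (mcube h) (mcube h)].contains 48) = false := by
    have hz9 : ∀ n, (φ h) ^ n = z → False := fun n hn => by
      have h1 : (φ h) ^ 9 = 1 := by
        rw [show (9 : ℕ) = 3 * 3 from rfl, pow_mul, ← D.data.cube_eq hh, ← D.data.cube_eq (mcube_lt hh), h9, D.data.one]
      have h2 : z ^ 9 = 1 := by rw [← hn, ← pow_mul, mul_comm, pow_mul, h1, one_pow]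
      have h3 : orderOf z ∣ 9 := orderOf_dvd_iff_pow_eq_one.2 h2
      rw [D.data.z2] at h3
      norm_num at h3
    rw [← Bool.not_eq_true, List.contains_iff_mem]
    simp only [List.mem_cons, List.not_mem_nil, or_false]
    rintro (e | e | e | e) <;> have e' := congrArg φ e <;> rw [D.data.zc] at e'
    · exact hz9 1 (by rw [pow_one, ← e'])
    · exact hz9 2 (by rw [pow_two, ← D.data.mul _ hh _ hh, ← e'])
    · exact hz9 3 (by rw [← D.data.cube_eq hh, ← e'])
    · exact hz9 6 (by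
        rw [show (6 : ℕ) = 3 + 3 from rfl, pow_add, ← D.data.cube_eq hh, ← D.data.mul _ (mcube_lt hh) _ (mcube_lt hh),
          ← e'])
  by_cases hmem : h ∈ [0, 384, 768]
  · refine hcore 1 ?_
    have : φ h ∈ O := by
      simp only [List.mem_cons, List.not_mem_nil, or_false] at hmem
      rcases hmem with rfl | rfl | rfl
      · rw [D.data.one]; exact O.one_mem
      · exact W.core.w_mem
      · rw [show 768 = mmul 384 384 by decide +kernel, D.data.mul _ (by norm_num) _ (by norm_num)]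
        exact O.mul_mem W.core.w_mem W.core.w_mem
    rw [one_mul, inv_one, mul_one, show x = o⁻¹ * φ h by rw [hhe]; group]
    exact O.mul_mem (O.inv_mem ho) this
  have hb := of_range_all rList_ok.2.2 hh
  simp only [hc, bne_self_eq_false, Bool.false_or, hpow48, Bool.or_false, Bool.or_eq_true, List.contains_iff_mem, hmem,
    false_or, List.any_eq_true] at hb
  obtain ⟨r, hr, p, hp, hr16⟩ := hb
  obtain ⟨hrl, hrc, -⟩ := rList_mem hr
  have hrw := (D.data.commute_iff hrl (by norm_num)).2 hrc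
  -- the conjugate lies in the group of order nine
  obtain ⟨b, hbB, hbe⟩ : ∃ b ∈ B, b = (φ r)⁻¹ * φ h * φ r := by
    refine ⟨_, ?_, rfl⟩
    have hT16 : φ 16 ∈ B := D.data.t_mem_B D.odd (by simp [tList])
    have hTw : φ 384 ∈ B := D.data.t_mem_B D.odd (by simp [tList])
    have hpB : φ p ∈ B ∧ φ p * φ r = φ r * φ p ∧ p < 1152 := by
      simp only [List.mem_cons, List.not_mem_nil, or_false] at hp
      rcases hp with rfl | rfl | rfl
      · exact ⟨D.data.t_mem_B D.odd (by simp [tList]), by rw [D.data.one]; simp, by norm_num⟩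
      · exact ⟨hTw, hrw.symm, by norm_num⟩
      · refine ⟨D.data.t_mem_B D.odd (by simp [tList]), ?_, by norm_num⟩
        rw [show 768 = mmul 384 384 by decide +kernel, D.data.mul _ (by norm_num) _ (by norm_num)]
        exact (Commute.mul_left (show Commute (φ 384) (φ r) from hrw.symm) (show Commute (φ 384) (φ r) from hrw.symm)).eq
    obtain ⟨hpB, hpr, hpl⟩ := hpB
    have hml := mmul_lt hh hpl
    have key : (φ r)⁻¹ * φ (mmul h p) * φ r ∈ B := by
      simp only [List.mem_cons, List.not_mem_nil, or_false] at hr16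
      rcases hr16 with e | e
      · rw [← e, D.data.conj hrl (by norm_num),
          show (φ r)⁻¹ * (φ r * φ 16 * (φ r)⁻¹) * φ r = φ 16 by group]
        exact hT16
      · have e' : φ r * φ 16 * (φ r)⁻¹ = φ (mmul h p) * φ (mmul h p) := by
          rw [← D.data.conj hrl (by norm_num), e, D.data.mul _ hml _ hml]
        have h81 : φ (mmul h p) ^ 9 = 1 := by
          have c : Commute (φ h) (φ p) := by
            have hc' : φ h * φ 384 = φ 384 * φ h := (D.data.commute_iff hh (by norm_num)).2 hc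
            simp only [List.mem_cons, List.not_mem_nil, or_false] at hp
            rcases hp with rfl | rfl | rfl
            · rw [D.data.one]; exact Commute.one_right _
            · exact hc'
            · rw [show 768 = mmul 384 384 by decide +kernel, D.data.mul _ (by norm_num) _ (by norm_num)]
              exact Commute.mul_right hc' hc'
          rw [D.data.mul _ hh _ hpl, c.mul_pow, show (9 : ℕ) = 3 * 3 from rfl, pow_mul, pow_mul, D.B_cube hpB,
            ← D.data.cube_eq hh, ← D.data.cube_eq (mcube_lt hh), h9, D.data.one, one_pow, mul_one]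
        have e3 : (φ r)⁻¹ * φ (mmul h p) * φ r = ((φ r)⁻¹ * (φ r * φ 16 * (φ r)⁻¹) * φ r) ^ 5 := by
          rw [e', show (φ r)⁻¹ * (φ (mmul h p) * φ (mmul h p)) * φ r =
              (φ r)⁻¹ * (φ (mmul h p) * φ (mmul h p)) * (φ r)⁻¹⁻¹ by group, conj_pow, inv_inv, ← pow_two, ← pow_mul,
            show 2 * 5 = 9 + 1 from rfl, pow_succ, h81, one_mul]
        rw [e3, show (φ r)⁻¹ * (φ r * φ 16 * (φ r)⁻¹) * φ r = φ 16 by group]
        exact B.pow_mem hT16 5
    have e4 : (φ r)⁻¹ * φ h * φ r = (φ r)⁻¹ * φ (mmul h p) * φ r * (φ p)⁻¹ := by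
      rw [D.data.mul _ hh _ hpl, mul_assoc _ (φ h * φ p) (φ r), mul_assoc (φ h), hpr]
      group
    rw [e4]
    exact B.mul_mem key (B.inv_mem hpB)
  obtain ⟨u, hu⟩ : ∃ u, (φ r)⁻¹ * o⁻¹ * φ r = u := ⟨_, rfl⟩
  have huO : u ∈ O := by
    rw [← hu, show (φ r)⁻¹ * o⁻¹ * φ r = (φ r)⁻¹ * o⁻¹ * (φ r)⁻¹⁻¹ by group]
    exact W.core.norm _ (show Commute (φ r) (φ 384) from hrw).inv_left.eq _ (O.inv_mem ho)
  have hxu : (φ r)⁻¹ * x * (φ r)⁻¹⁻¹ = u * b := by
    rw [← hu, hbe, show x = o⁻¹ * φ h by rw [hhe]; group]; group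
  obtain ⟨L, hL, huL⟩ := D.normal_act (W.normB u huO)
  obtain ⟨v, hv, rfl⟩ := (D.coord.mem b).1 hbB
  by_cases hL1 : L = lone
  · refine ⟨(φ r)⁻¹ * g, Or.inl ?_⟩
    rw [← hconj, hxu]
    exact B.mul_mem (D.mem_of_act_one (hL1 ▸ huL)) hbB
  -- otherwise the product lies in the core
  refine hcore (φ r)⁻¹ ?_
  rw [hxu]
  have hL3 : lmul L (lmul L L) = lone := D.cube_code (k := 1) hL huL (by rw [pow_one, W.cube u huO])
  have hLv : lapp L vw = vw := D.coord.act_apply huL W.vw_lt W.vw_lt (by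
    rw [W.vw_eq, W.core.comm_w u huO, mul_inv_cancel_right])
  have hsum := D.cube_prod hv huL (W.cube u huO)
  rw [← hxu, conj_pow, hx3, mul_one, mul_inv_cancel, ← D.coord.zero] at hsum
  have hsum' := D.coord.inj 0 (by norm_num) _ (vadd_lt (vadd_lt hv (lapp_lt _ _)) (lapp_lt _ _)) hsum
  have hspan : v ∈ wSpan vw := by
    have := of_all wSpan_ok.1 W.vw_mem
    simp only [Bool.and_eq_true, beq_iff_eq, decide_eq_true_eq, List.all_eq_true] at this
    have h' := this.2 L (List.mem_filter.2 ⟨List.mem_filter.2 ⟨hL, by simp [hL3, hL1]⟩, by simp [hLv]⟩) v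
      (List.mem_range.2 hv)
    rw [← hsum'] at h'
    simpa using h'
  exact O.mul_mem huO (W.span_mem v hspan)

/-- The centraliser of an element of order three is a group of order divisible by two and three only. -/
theorem WData.three_cent (W : WData z φ B θ O vw) (D : Base z φ B θ e e') {y : G} (h3 : y ^ 3 = 1) (h1 : y ≠ 1) :
    Nat.card ↥(Subgroup.centralizer ({y} : Set G)) ∣ 2 ^ 3 * 3 ^ 6 := by
  obtain ⟨g, hg⟩ := W.three_cases D h3
  rw [← card_cent_conj g y]
  rcases hg with hg | hg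
  · rcases D.card_cent_mem W hg (fun h => h1 (conj_eq_one_iff.1 h)) with h | h <;> rw [h] <;> norm_num
  · rw [W.u_card D hg]; norm_num

/-- No element of order nine cubes to the first coordinate. -/
theorem Base.no_nine (D : Base z φ B θ e e') {y : G} (h : y ^ 3 = θ 1) : False := by
  have hθ : θ 1 ∈ B := (D.coord.mem _).2 ⟨1, by norm_num, rfl⟩
  have hc : y * θ 1 = θ 1 * y := by rw [← h, ← pow_succ', pow_succ]
  obtain ⟨L, hL, hyL⟩ := (D.cent_d y).1 hc
  have hLl : L ∈ lList := (List.mem_filter.1 hL).1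
  have h9 : y ^ 9 = 1 := by rw [show (9 : ℕ) = 3 * 3 from rfl, pow_mul, h, D.B_cube hθ]
  have hL3 : lmul L (lmul L L) = lone := D.cube_code (k := 2) hLl hyL (by norm_num; exact h9)
  have hL1 : L ≠ lone := fun e => by
    have := D.B_cube (D.mem_of_act_one (e ▸ hyL))
    rw [h, ← D.coord.zero] at this
    exact absurd (D.coord.inj 1 (by norm_num) 0 (by norm_num) this) (by norm_num)
  have hf : L ∈ lThree.filter fun L => lapp L 1 == 1 :=
    List.mem_filter.2 ⟨List.mem_filter.2 ⟨hLl, by simp [hL3, hL1]⟩, (List.mem_filter.1 hL).2⟩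
  have hs := of_all stab_lifts hf
  simp only [Bool.and_eq_true, List.any_eq_true, Bool.or_eq_true, beq_iff_eq, List.all_eq_true, List.mem_range] at hs
  obtain ⟨⟨M, hM, hMe⟩, hsum⟩ := hs
  have hzs : VAct θ (z * φ 1) (lmul lZ lS) := D.coord.act_mul D.az D.as
  obtain ⟨m, hm⟩ : ∃ m : G, VAct θ m M := by
    simp only [List.mem_cons, List.not_mem_nil, or_false] at hM
    rcases hM with rfl | rfl | rfl | rfl
    exacts [⟨1, D.coord.act_self B.one_mem⟩, ⟨z, D.az⟩, ⟨φ 1, D.as⟩, ⟨_, hzs⟩]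
  have he3 : e ^ 3 = 1 := by rw [pow_succ, pow_two, D.e_cube]
  -- conjugate of the coordinate cycle
  obtain ⟨o, ho3, hoL⟩ : ∃ o, o ^ 3 = 1 ∧ VAct θ o L := by
    obtain ⟨L', hL', hm'⟩ := D.normal_act (Subgroup.inv_mem _ (D.coord.act_normalize hm))
    have key : ∀ x E, x ^ 3 = 1 → VAct θ x E → lmul M E = lmul L M → ∃ o, o ^ 3 = 1 ∧ VAct θ o L := by
      intro x E hx3 hx hE
      refine ⟨m * x * m⁻¹, by rw [conj_pow, hx3, mul_one, mul_inv_cancel], ?_⟩
      intro v hv
      have hv' : lapp L' v < 81 := lapp_lt _ _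
      have h1 := D.coord.act_mul hm hx (lapp L' v) hv'
      have h2 : lapp (lmul M E) (lapp L' v) = lapp L v := by
        have hy := D.coord.act_mul (D.coord.act_mul (hyL) hm) hm'
        rw [hE]
        exact D.coord.inj _ (lapp_lt _ _) _ (lapp_lt _ _) (by
          rw [← hyL v hv, ← (D.coord.act_mul hyL hm) _ hv', ← hm' v hv]
          group)
      rw [← h2, ← h1, ← hm' v hv]
      group
    rcases hMe with h' | h'
    · exact key e lE he3 D.ae h'
    · exact key (e * e) _ (by rw [← pow_two, ← pow_mul, mul_comm, pow_mul, he3, one_pow])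
        (D.coord.act_mul D.ae D.ae) h'
  have hyb : o⁻¹ * y ∈ B := by
    refine D.mem_of_act_one ?_
    intro v hv
    rw [show o⁻¹ * y * θ v * (o⁻¹ * y)⁻¹ = o⁻¹ * (y * θ v * y⁻¹) * o by group, hyL v hv, ← hoL v hv,
      lapp_one hv]
    group
  obtain ⟨v, hv, hve⟩ := (D.coord.mem _).1 hyb
  have hy3 : y ^ 3 = θ (vadd (vadd v (lapp L v)) (lapp L (lapp L v))) := by
    rw [← D.cube_prod hv hoL ho3, hve]
    group
  rw [h] at hy3
  exact (bne_iff_ne.1 (hsum v hv).1) (D.coord.inj 1 (by norm_num) _ (vadd_lt (vadd_lt hv (lapp_lt _ _)) (lapp_lt _ _)) hy3).symm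

end CfsgU43Type
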