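import Cfsg.Agent.Lib.U43Type.CentD
import Cfsg.Agent.Lib.U43Type.WChecks

/-!
Groups of U₄(3) type: the elements of the group of order eighty-one whose centralisers lie in its normaliser.
-/

set_option autoImplicit false
set_option maxRecDepth 100000
set_option linter.unusedSectionVars false

namespace CfsgU43Type

variable {G : Type*} [Group G] {z : G} {φ : ℕ → G} {B : Subgroup G} {θ : ℕ → G} {e e' : G} [Finite G]

/-- The vectors conjugate to a multiple of one of the first two unit vectors. -/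
def IsDiag (v : ℕ) : Prop := ∃ L ∈ lList, lapp L v ∈ [1, 2, 3, 6]

/-- The group does not depend on the twist. -/
theorem Base.exists_twin (D : Base z φ B θ e e') :
    ∃ (θ' : ℕ → G) (e₁ e₂ : G), Base z (fun x => φ (twist x)) B θ' e₁ e₂ := by
  obtain ⟨B', θ', e₁, e₂, D'⟩ := D.data.twisted.exists_base
  have hBB : B' = B := by
    ext x
    rw [D'.odd.mem_iff, D.odd.mem_iff, CommT.twist_iff D.data]
  exact ⟨θ', e₁, e₂, hBB ▸ D'⟩

theorem Base.cent_three_normal (D : Base z φ B θ e e') {g : G} (hg : g * θ 3 = θ 3 * g) :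
    g ∈ Subgroup.normalizer (B : Set G) := by
  obtain ⟨θ', e₁, e₂, D'⟩ := D.exists_twin
  refine D'.cent_d_normal ((D'.t1_comm g).2 ?_)
  rw [D.t3] at hg
  show g * φ (twist 400) = φ (twist 400) * g
  rwa [show twist 400 = 416 by decide +kernel]

theorem Base.diag_comm (D : Base z φ B θ e e') {g : G} {v : ℕ} (hv : v < 81) (hvd : IsDiag v)
    (hg : g * θ v = θ v * g) : g ∈ Subgroup.normalizer (B : Set G) := by
  obtain ⟨L, hL, hu⟩ := hvd
  obtain ⟨k, hk⟩ := D.exists_act hL
  have hkn := D.coord.act_normalize hk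
  have hc : Commute (k * g * k⁻¹) (θ (lapp L v)) := by
    show k * g * k⁻¹ * θ (lapp L v) = θ (lapp L v) * (k * g * k⁻¹)
    rw [← hk v hv, show k * g * k⁻¹ * (k * θ v * k⁻¹) = k * (g * θ v) * k⁻¹ by group, hg]
    group
  have h2 : θ 2 = θ 1 * θ 1 := by
    rw [← D.coord.add 1 (by norm_num) 1 (by norm_num), show vadd 1 1 = 2 by decide +kernel]
  have h6 : θ 6 = θ 3 * θ 3 := by
    rw [← D.coord.add 3 (by norm_num) 3 (by norm_num), show vadd 3 3 = 6 by decide +kernel]
  have h11 : θ 1 = θ 2 * θ 2 := by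
    rw [← D.coord.add 2 (by norm_num) 2 (by norm_num), show vadd 2 2 = 1 by decide +kernel]
  have h33 : θ 3 = θ 6 * θ 6 := by
    rw [← D.coord.add 6 (by norm_num) 6 (by norm_num), show vadd 6 6 = 3 by decide +kernel]
  have hn : k * g * k⁻¹ ∈ Subgroup.normalizer (B : Set G) := by
    simp only [List.mem_cons, List.not_mem_nil, or_false] at hu
    rcases hu with h | h | h | h <;> rw [h] at hc
    · exact D.cent_d_normal hc
    · exact D.cent_d_normal (h11 ▸ hc.mul_right hc).eq
    · exact D.cent_three_normal hc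
    · exact D.cent_three_normal (h33 ▸ hc.mul_right hc).eq
  have := Subgroup.mul_mem _ (Subgroup.mul_mem _ (Subgroup.inv_mem _ hkn) hn) hkn
  rwa [show k⁻¹ * (k * g * k⁻¹) * k = g by group] at this

/-- The centraliser of a vector, by maps. -/
theorem Base.vec_cent (D : Base z φ B θ e e') {v : ℕ} (hv : v < 81) (g : G) :
    g ∈ Subgroup.normalizer (B : Set G) ⊓ Subgroup.centralizer ({θ v} : Set G) ↔
      ∃ L ∈ lList.filter (fun L => lapp L v == v), VAct θ g L := by
  constructor
  · rintro ⟨hn, hc⟩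
    obtain ⟨L, hL, hgL⟩ := D.normal_act hn
    refine ⟨L, List.mem_filter.2 ⟨hL, ?_⟩, hgL⟩
    replace hc := Subgroup.mem_centralizer_singleton_iff.1 hc
    rw [beq_iff_eq]
    exact D.coord.act_apply hgL hv hv (by rw [hc, mul_inv_cancel_right])
  · rintro ⟨L, hL, hgL⟩
    rw [List.mem_filter, beq_iff_eq] at hL
    refine ⟨D.coord.act_normalize hgL, Subgroup.mem_centralizer_singleton_iff.2 ?_⟩
    exact mul_inv_eq_iff_eq_mul.1 (by rw [hgL v hv, hL.2])

theorem Base.card_vec_cent (D : Base z φ B θ e e') {v : ℕ} (hv : v < 81) :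
    Nat.card ↥(Subgroup.normalizer (B : Set G) ⊓ Subgroup.centralizer ({θ v} : Set G)) =
      81 * (lList.filter fun L => lapp L v == v).length :=
  D.card_of_codes _ _ (lList_ok.2.1.filter _) (fun _ hL => (List.mem_filter.1 hL).1) (D.vec_cent hv)

theorem Base.card_diag_cent (D : Base z φ B θ e e') {v : ℕ} (hv : v < 81) (hvd : IsDiag v) :
    Nat.card ↥(Subgroup.centralizer ({θ v} : Set G)) = 972 := by
  obtain ⟨L, hL, hu⟩ := hvd
  obtain ⟨k, hk⟩ := D.exists_act hL
  have hu81 : ∀ x ∈ [1, 2, 3, 6], x < 81 := by decide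
  obtain ⟨u, hue⟩ : ∃ u, lapp L v = u := ⟨_, rfl⟩
  rw [hue] at hu
  have hmap : (Subgroup.centralizer ({θ v} : Set G)).map (MulAut.conj k).toMonoidHom =
      Subgroup.normalizer (B : Set G) ⊓ Subgroup.centralizer ({θ u} : Set G) := by
    ext g
    constructor
    · rintro ⟨x, hx, rfl⟩
      replace hx : x * θ v = θ v * x := Subgroup.mem_centralizer_singleton_iff.1 hx
      refine ⟨Subgroup.mul_mem _ (Subgroup.mul_mem _ (D.coord.act_normalize hk)
        (D.diag_comm hv ⟨L, hL, hue ▸ hu⟩ hx)) (Subgroup.inv_mem _ (D.coord.act_normalize hk)),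
        Subgroup.mem_centralizer_singleton_iff.2 ?_⟩
      show k * x * k⁻¹ * θ u = θ u * (k * x * k⁻¹)
      rw [← hue, ← hk v hv, show k * x * k⁻¹ * (k * θ v * k⁻¹) = k * (x * θ v) * k⁻¹ by group, hx]
      group
    · rintro ⟨-, hg⟩
      replace hg : g * θ u = θ u * g := Subgroup.mem_centralizer_singleton_iff.1 hg
      refine ⟨k⁻¹ * g * k, Subgroup.mem_centralizer_singleton_iff.2 ?_, ?_⟩
      · rw [show θ v = k⁻¹ * θ u * k by rw [← hue, ← hk v hv]; group,
          show k⁻¹ * g * k * (k⁻¹ * θ u * k) = k⁻¹ * (g * θ u) * k by group, hg]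
        group
      · simp only [MulEquiv.coe_toMonoidHom, MulAut.conj_apply]; group
  rw [← Subgroup.card_map_of_injective (K := Subgroup.centralizer ({θ v} : Set G))
    (f := (MulAut.conj k).toMonoidHom) (show Function.Injective (MulAut.conj k).toMonoidHom from (MulAut.conj k).injective),
    hmap, D.card_vec_cent (hu81 u hu)]
  have := of_all wSpan_ok.2 hu
  simp only [beq_iff_eq] at this
  rw [this]

end CfsgU43Type
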