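import Cfsg.Agent.Lib.U43Type.UGroup
import Cfsg.Agent.Lib.CoprimeGen
import Cfsg.Agent.Lib.PComplement
import Cfsg.Agent.Lib.HallWielandt

/-!
Groups of U₄(3) type: the centraliser of an untyped element has order eighty-one.
-/

set_option autoImplicit false
set_option maxRecDepth 100000
set_option linter.unusedSectionVars false

namespace CfsgU43Type

variable {G : Type*} [Group G] {z : G} {φ : ℕ → G} {B : Subgroup G} {θ : ℕ → G} {e e' : G} {O : Subgroup G} {vw : ℕ}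
  [Finite G]

/-- Every element of order three of the centraliser of `z` is conjugate into the elementary group. -/
theorem Base.three_code_B (D : Base z φ B θ e e') {x : G} (hx : x * z = z * x) (h3 : x ^ 3 = 1) :
    ∃ g, g * x * g⁻¹ ∈ B := by
  by_cases h1 : x = 1
  · exact ⟨1, by subst h1; simp⟩
  obtain ⟨h, hh, rfl⟩ := (D.data.cent x).1 hx
  have hm : mcube h = 0 := D.data.inj _ (mcube_lt hh) 0 (by norm_num) (by rw [D.data.cube_eq hh, h3, D.data.one])
  have hh0 : h ≠ 0 := fun e => h1 (by rw [e, D.data.one])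
  have := of_range_all not_real_check.2 hh
  simp only [hm, bne_self_eq_false, Bool.false_or, Bool.or_eq_true, beq_iff_eq, hh0, false_or, List.any_eq_true,
    List.mem_range, List.contains_iff_mem] at this
  obtain ⟨m, hm, ht⟩ := this
  exact ⟨φ m, D.data.conj hm hh ▸ D.data.t_mem_B D.odd ht⟩

theorem WData.u_odd (W : WData z φ B θ O vw) (D : Base z φ B θ e e') {s : G} (hs : Untyped z φ B O s) :
    Odd (Nat.card ↥(Subgroup.centralizer ({s} : Set G))) := by
  haveI : Fact (Nat.Prime 2) := ⟨Nat.prime_two⟩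
  refine Nat.not_even_iff_odd.1 fun he => ?_
  obtain ⟨j, hj⟩ := exists_prime_orderOf_dvd_card' (G := ↥(Subgroup.centralizer ({s} : Set G))) 2 (even_iff_two_dvd.1 he)
  have hjo : orderOf (j : G) = 2 := by rw [Subgroup.orderOf_coe, hj]
  obtain ⟨g, hg⟩ := isConj_iff.1 (D.data.one_class hjo)
  have hjs := Subgroup.mem_centralizer_singleton_iff.1 j.2
  have hc : g⁻¹ * s * g * z = z * (g⁻¹ * s * g) := by
    rw [show g⁻¹ * s * g * z = g⁻¹ * (s * (g * z * g⁻¹)) * g by group, hg, ← hjs, ← hg]; group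
  obtain ⟨k, hk⟩ := D.three_code_B hc (by
    rw [show g⁻¹ * s * g = g⁻¹ * s * g⁻¹⁻¹ by group, conj_pow, W.cube s hs.1]; group)
  exact W.u_not_B D hs (k * g⁻¹) (by
    rwa [show k * g⁻¹ * s * (k * g⁻¹)⁻¹ = k * (g⁻¹ * s * g) * k⁻¹ by group])

/-- Two elements of the part of the core commuting with `s` that do not commute. -/
theorem WData.u_noncomm (W : WData z φ B θ O vw) (D : Base z φ B θ e e') {s : G} (hs : Untyped z φ B O s) :
    ∃ a ∈ O ⊓ Subgroup.centralizer ({s} : Set G), ∃ b ∈ O ⊓ Subgroup.centralizer ({s} : Set G), a * b ≠ b * a := by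
  classical
  by_contra hno
  push Not at hno
  obtain ⟨P, hPdef⟩ : ∃ P, O ⊓ Subgroup.centralizer ({s} : Set G) = P := ⟨_, rfl⟩
  rw [hPdef] at hno
  have hP := hPdef ▸ (W.u_index D hs).1
  have hPO : P ≤ O := hPdef ▸ inf_le_left
  -- the elements commuting with one outside
  obtain ⟨g, hgO, hgP⟩ : ∃ g ∈ O, g ∉ P := by
    by_contra h
    push Not at h
    have := Subgroup.card_le_of_le (show O ≤ P from fun x hx => h x hx)
    rw [W.card, hP] at this
    norm_num at this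
  obtain ⟨R, hR⟩ : ∃ R, P ⊓ Subgroup.centralizer ({g} : Set G) = R := ⟨_, rfl⟩
  have hRc : Nat.card P ≤ 3 * Nat.card R := by
    haveI := Fintype.ofFinite P
    haveI := Fintype.ofFinite R
    have hw3 : orderOf (φ 384) = 3 := orderOf_eq_prime D.w_cube D.w_ne
    have hval : ∀ y : P, ∃ i : Fin 3, (y : G) * g * (y : G)⁻¹ = g * φ 384 ^ (i : ℕ) := fun y => by
      obtain ⟨k, hk⟩ := W.core.comm D (hPO y.2) hgO
      refine ⟨⟨k % 3, Nat.mod_lt _ (by norm_num)⟩, ?_⟩
      show (y : G) * g * (y : G)⁻¹ = g * φ 384 ^ (k % 3)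
      rw [← hw3, pow_mod_orderOf, hk, mul_assoc (g * (y : G)),
        ← ((show Commute (y : G)⁻¹ (φ 384) from (show Commute (y : G) (φ 384) from W.core.comm_w _ (hPO y.2)).inv_left).pow_right k).eq]
      group
    choose f hf using hval
    rw [Nat.card_eq_fintype_card, Nat.card_eq_fintype_card, ← Finset.card_univ, mul_comm]
    refine (Finset.card_le_mul_card_image (f := f) (Finset.univ : Finset P) (Fintype.card R) fun i _ => ?_).trans
      (Nat.mul_le_mul_left _ (Finset.card_le_univ _) |>.trans_eq (by rw [Fintype.card_fin]))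
    rcases (Finset.univ.filter fun y => f y = i).eq_empty_or_nonempty with h | ⟨b, hb⟩
    · rw [h]; exact Nat.zero_le _
    rw [Finset.mem_filter] at hb
    have hmem : ∀ y : P, f y = i → (b : G)⁻¹ * y ∈ R := fun y hy => by
      rw [← hR]
      refine ⟨P.mul_mem (P.inv_mem b.2) y.2, Subgroup.mem_centralizer_singleton_iff.2 ?_⟩
      have h' : (y : G) * g * (y : G)⁻¹ = (b : G) * g * (b : G)⁻¹ := by rw [hf, hf, hy, hb.2]
      calc (b : G)⁻¹ * y * g = (b : G)⁻¹ * ((y : G) * g * (y : G)⁻¹) * y := by group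
        _ = (b : G)⁻¹ * ((b : G) * g * (b : G)⁻¹) * y := by rw [h']
        _ = _ := by group
    rw [← Finset.card_univ (α := R)]
    refine Finset.card_le_card_of_injOn (fun y => if h : f y = i then (⟨_, hmem y h⟩ : R) else 1)
      (fun _ _ => Finset.mem_univ _) fun x hx y hy h => ?_
    rw [Finset.mem_coe, Finset.mem_filter] at hx hy
    simp only [dif_pos hx.2, dif_pos hy.2] at h
    exact Subtype.ext (mul_left_cancel (congrArg Subtype.val h : (b : G)⁻¹ * x = (b : G)⁻¹ * y))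
  -- they are central
  haveI := Fintype.ofFinite R
  have hsub : ∀ y : R, ∃ i : Fin 3, (y : G) = φ 384 ^ (i : ℕ) := by
    intro y
    have hy : (y : G) ∈ P ⊓ Subgroup.centralizer ({g} : Set G) := hR.symm ▸ y.2
    obtain ⟨C, hC⟩ : ∃ C, O ⊓ Subgroup.centralizer ({(y : G)} : Set G) = C := ⟨_, rfl⟩
    have hCP : P ≤ C := fun x hx => hC ▸ ⟨hPO hx, Subgroup.mem_centralizer_singleton_iff.2 (hno x hx _ hy.1)⟩
    have hgC : g ∈ C := hC ▸ ⟨hgO, Subgroup.mem_centralizer_singleton_iff.2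
      (Subgroup.mem_centralizer_singleton_iff.1 hy.2).symm⟩
    have hd : Nat.card C ∣ 243 := W.card ▸ Subgroup.card_dvd_of_le (hC ▸ inf_le_left)
    have hlt : 81 < Nat.card C := by
      refine lt_of_le_of_ne (hP ▸ Subgroup.card_le_of_le hCP) fun h => hgP ?_
      exact (Subgroup.eq_of_le_of_card_ge hCP (by rw [← h, hP])).ge hgC
    have h243 : Nat.card C = 243 := by
      obtain ⟨j, hj, he⟩ := (Nat.dvd_prime_pow Nat.prime_three).1 (show Nat.card C ∣ 3 ^ 5 by simpa using hd)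
      interval_cases j <;> simp only [Nat.reducePow] at he <;> omega
    have hCO : C = O := Subgroup.eq_of_le_of_card_ge (hC ▸ inf_le_left) (by rw [h243, W.card])
    obtain ⟨k, hk⟩ := W.center _ (hPO hy.1) fun x hx =>
      (Subgroup.mem_centralizer_singleton_iff.1 ((hC.symm ▸ hCO.ge hx : x ∈ O ⊓ _)).2).symm
    refine ⟨⟨k % 3, Nat.mod_lt _ (by norm_num)⟩, ?_⟩
    show (y : G) = φ 384 ^ (k % 3)
    rw [← orderOf_eq_prime D.w_cube D.w_ne, pow_mod_orderOf, hk]
  choose f hf using hsub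
  have := Nat.card_le_card_of_injective f fun a b h => Subtype.ext (by rw [hf a, hf b, h])
  rw [Nat.card_fin] at this
  omega

set_option maxHeartbeats 800000 in
/-- The centraliser of an untyped element lies in the core. -/
theorem WData.u_cent (W : WData z φ B θ O vw) (D : Base z φ B θ e e') {s : G} (hs : Untyped z φ B O s) :
    Subgroup.centralizer ({s} : Set G) = O ⊓ Subgroup.centralizer ({s} : Set G) := by
  classical
  haveI : Fact (Nat.Prime 3) := ⟨Nat.prime_three⟩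
  obtain ⟨R, hR⟩ : ∃ R, Subgroup.centralizer ({s} : Set G) = R := ⟨_, rfl⟩
  have hodd := hR ▸ W.u_odd D hs
  have hP81 := hR ▸ (W.u_index D hs).1
  obtain ⟨a, ha, b, hb, hab⟩ := hR ▸ W.u_noncomm D hs
  have heq := hR ▸ W.u_eq_centX D hs
  rw [hR]
  obtain ⟨P, hPdef⟩ : ∃ P, O ⊓ R = P := ⟨_, rfl⟩
  rw [hPdef] at hP81 ha hb heq ⊢
  have hPR : P ≤ R := hPdef ▸ inf_le_right
  have hPO : P ≤ O := hPdef ▸ inf_le_left
  have hw3 : orderOf (φ 384) = 3 := orderOf_eq_prime D.w_cube D.w_ne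
  have hwR : φ 384 ∈ R := hR ▸ Subgroup.mem_centralizer_singleton_iff.2 (W.core.comm_w s hs.1).symm
  have hwP : φ 384 ∈ P := hPdef ▸ ⟨W.core.w_mem, hwR⟩
  -- centralising `φ 384` inside means lying in `P`
  have hcent : ∀ x ∈ R, x * φ 384 = φ 384 * x → x ∈ P := fun x hx hc =>
    heq ▸ ⟨Subgroup.mem_centralizer_singleton_iff.2 hc, hx⟩
  have hnoinv : ∀ g ∈ R, ∀ k : ℕ, g * φ 384 * g⁻¹ = φ 384 ^ k → g * φ 384 = φ 384 * g := by
    intro g hg k hk
    obtain h | h | h : k % 3 = 0 ∨ k % 3 = 1 ∨ k % 3 = 2 := by omega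
    all_goals rw [← pow_mod_orderOf, hw3, h] at hk
    · rw [pow_zero, conj_eq_one_iff] at hk
      exact absurd hk D.w_ne
    · rw [pow_one] at hk; exact mul_inv_eq_iff_eq_mul.1 hk
    · exfalso
      have hinv : g * φ 384 * g⁻¹ = (φ 384)⁻¹ := by
        rw [hk, eq_inv_iff_mul_eq_one, ← pow_succ]
        exact D.w_cube
      have key : ∀ n : ℕ, g ^ (2 * n + 1) * φ 384 * (g ^ (2 * n + 1))⁻¹ = (φ 384)⁻¹ := by
        intro n
        induction n with
        | zero => simpa using hinv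
        | succ n ih =>
          rw [show 2 * (n + 1) + 1 = (2 * n + 1) + 1 + 1 by ring, pow_succ', pow_succ',
            show g * (g * g ^ (2 * n + 1)) * φ 384 * (g * (g * g ^ (2 * n + 1)))⁻¹ =
              g * (g * (g ^ (2 * n + 1) * φ 384 * (g ^ (2 * n + 1))⁻¹) * g⁻¹) * g⁻¹ by group, ih,
            show g * (φ 384)⁻¹ * g⁻¹ = (g * φ 384 * g⁻¹)⁻¹ by group, hinv, inv_inv, hinv]
      obtain ⟨n, hn⟩ := Odd.of_dvd_nat hodd (Subgroup.orderOf_dvd_natCard R hg)
      have := key n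
      rw [← hn, pow_orderOf_eq_one, one_mul, inv_one, mul_one, eq_inv_iff_mul_eq_one, ← pow_two] at this
      have h3 := orderOf_dvd_iff_pow_eq_one.2 this
      rw [hw3] at h3
      norm_num at h3
  -- the normaliser of `P`
  have hself : ∀ g ∈ R, (∀ y ∈ P, g * y * g⁻¹ ∈ P) → g ∈ P := by
    intro g hg hgn
    obtain ⟨k, hk⟩ := W.core.comm D (hPO ha) (hPO hb)
    obtain ⟨k', hk'⟩ := W.core.comm D (hPO (hgn a ha)) (hPO (hgn b hb))
    have hcom : g * φ 384 ^ k * g⁻¹ = φ 384 ^ k' := by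
      have e1 : φ 384 ^ k = (b * a)⁻¹ * (a * b) := by rw [hk]; group
      have e2 : φ 384 ^ k' = (g * b * g⁻¹ * (g * a * g⁻¹))⁻¹ * (g * a * g⁻¹ * (g * b * g⁻¹)) := by
        rw [hk']; group
      rw [e1, e2]; group
    have hk3 : k % 3 ≠ 0 := fun h => hab (by
      rw [hk, ← pow_mod_orderOf, hw3, h, pow_zero, mul_one])
    obtain ⟨j, hj⟩ : ∃ j, φ 384 = (φ 384 ^ k) ^ j := ⟨k, by
      rw [← pow_mul]
      conv_rhs => rw [← pow_mod_orderOf, hw3]
      obtain h | h : k % 3 = 1 ∨ k % 3 = 2 := by omega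
      all_goals rw [Nat.mul_mod, h]; norm_num⟩
    have hgw : g * φ 384 * g⁻¹ = φ 384 ^ (k' * j) := by
      rw [pow_mul, ← hcom, conj_pow, ← hj]
    exact hcent g hg (hnoinv g hg _ hgw)
  -- the Sylow subgroup and the transfer
  obtain ⟨Q, hQ⟩ : ∃ Q, P.subgroupOf R = Q := ⟨_, rfl⟩
  have hmQ : ∀ x : R, x ∈ Q ↔ (x : G) ∈ P := fun x => by rw [← hQ]; rfl
  have hQc : Nat.card Q = 81 := by
    rw [← hQ, Nat.card_congr (Subgroup.subgroupOfEquivOfLe hPR).toEquiv, hP81]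
  have hQn : ∀ g : R, (∀ y ∈ Q, g * y * g⁻¹ ∈ Q) → g ∈ Q := fun g h =>
    (hmQ g).2 (hself g g.2 fun y hy => (hmQ _).1 (h ⟨y, hPR hy⟩ ((hmQ _).2 hy)))
  have hQp : IsPGroup 3 Q := IsPGroup.of_card (n := 4) (by rw [hQc]; norm_num)
  obtain ⟨S, hS⟩ := hQp.exists_le_sylow
  have hSQ : (S : Subgroup R) = Q := by
    by_contra hne
    obtain ⟨g, hgS, hgQ⟩ : ∃ g, g ∈ (S : Subgroup R) ∧ (∀ y ∈ Q, g * y * g⁻¹ ∈ Q) ∧ g ∉ Q := by
      haveI : Group.IsNilpotent (S : Subgroup R) := S.2.isNilpotent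
      obtain ⟨g, hg, hgn⟩ := SetLike.exists_of_lt (Group.normalizerCondition_of_isNilpotent (G := (S : Subgroup R))
        (Q.subgroupOf (S : Subgroup R)) (lt_top_iff_ne_top.2 fun h => hne
          (le_antisymm (Subgroup.subgroupOf_eq_top.1 h) hS)))
      refine ⟨g, g.2, fun y hy => ?_, fun h => hgn h⟩
      exact (Subgroup.mem_normalizer_iff.1 hg ⟨y, hS hy⟩).1 hy
    exact hgQ.2 (hQn g hgQ.1)
  have hwQ : (⟨φ 384, hwR⟩ : R) ∈ Q := (hmQ _).2 hwP
  let Zq : Subgroup Q := (Subgroup.zpowers (⟨φ 384, hwR⟩ : R)).subgroupOf Q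
  have hZq : ∀ x : Q, x ∈ Zq ↔ ∃ k : ℕ, ((x : R) : G) = φ 384 ^ k := by
    intro x
    rw [Subgroup.mem_subgroupOf, ← mem_powers_iff_mem_zpowers, Submonoid.mem_powers_iff]
    exact ⟨fun ⟨k, hk⟩ => ⟨k, by rw [← hk]; rfl⟩, fun ⟨k, hk⟩ => ⟨k, Subtype.ext (by rw [Subgroup.coe_pow]; exact hk.symm)⟩⟩
  haveI : Zq.Normal := ⟨fun n hn g => by
    obtain ⟨k, hk⟩ := (hZq n).1 hn
    refine (hZq _).2 ⟨k, ?_⟩
    show ((g : R) : G) * ((n : R) : G) * ((g : R) : G)⁻¹ = _
    rw [hk, ((show Commute ((g : R) : G) (φ 384) from W.core.comm_w _ (hPO ((hmQ _).1 g.2))).pow_right k).eq,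
      mul_inv_cancel_right]⟩
  let _ : CommGroup (Q ⧸ Zq) :=
    { (inferInstance : Group (Q ⧸ Zq)) with
      mul_comm := fun x y => by
        obtain ⟨x, rfl⟩ := QuotientGroup.mk'_surjective _ x
        obtain ⟨y, rfl⟩ := QuotientGroup.mk'_surjective _ y
        rw [← map_mul, ← map_mul]
        refine QuotientGroup.eq.2 ((hZq _).2 ?_)
        obtain ⟨k, hk⟩ := W.core.comm D (hPO ((hmQ _).1 y.2)) (hPO ((hmQ _).1 x.2))
        refine ⟨k, ?_⟩
        show (((x : R) : G) * ((y : R) : G))⁻¹ * (((y : R) : G) * ((x : R) : G)) = _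
        rw [hk]; group }
  obtain ⟨f, hfdef⟩ : ∃ f : (S : Subgroup R) →* Q ⧸ Zq,
      (QuotientGroup.mk' Zq).comp (MulEquiv.subgroupCongr hSQ).toMonoidHom = f := ⟨_, rfl⟩
  have hfv : ∀ (x : R) (hx : x ∈ (S : Subgroup R)), f ⟨x, hx⟩ = QuotientGroup.mk' Zq ⟨x, hSQ ▸ hx⟩ := fun x hx => by
    rw [← hfdef]; rfl
  have hA : ∀ q : Q ⧸ Zq, q ^ 3 = 1 := fun q => by
    obtain ⟨x, rfl⟩ := QuotientGroup.mk'_surjective _ q
    rw [← map_pow, show x ^ 3 = 1 from Subtype.ext (Subtype.ext (by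
      show ((x : R) : G) ^ 3 = 1
      exact W.cube _ (hPO ((hmQ _).1 x.2)))), map_one]
  have htr : ∀ x ∈ (S : Subgroup R), MonoidHom.transfer f x = CfsgLib.HallWielandt.ext f x := by
    intro x hx
    refine CfsgLib.HallWielandt.transfer_eq (p := 3) S (Q := (S : Subgroup R)) (H := (S : Subgroup R))
      ⟨le_rfl, fun g hg => Subgroup.eq_of_le_of_card_ge hg ?_⟩ le_rfl Subgroup.le_normalizer ?_ ?_ hA f hx
    · rw [Subgroup.card_map_of_injective (f := (MulAut.conj g).toMonoidHom)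
        (show Function.Injective (MulAut.conj g).toMonoidHom from (MulAut.conj g).injective)]
    · intro g hg
      rw [hSQ] at hg ⊢
      have := hQn g⁻¹ fun y hy => by simpa using hg y hy
      simpa using Q.inv_mem this
    · intro u hu y hy
      rw [hSQ] at hu hy
      show (fun t : R => t⁻¹ * y⁻¹ * t * y) ((fun t : R => t⁻¹ * y⁻¹ * t * y) u) = 1
      have hu' := hPO ((hmQ _).1 hu)
      have hy' := hPO ((hmQ _).1 hy)
      obtain ⟨k, hk⟩ := W.core.comm D hu' hy'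
      have hc : ((u⁻¹ * y⁻¹ * u * y : R) : G) = φ 384 ^ k := by
        show (u : G)⁻¹ * (y : G)⁻¹ * (u : G) * (y : G) = _
        rw [mul_assoc _ (u : G) (y : G), hk]; group
      refine Subtype.ext ?_
      show ((u⁻¹ * y⁻¹ * u * y : R) : G)⁻¹ * (y : G)⁻¹ * ((u⁻¹ * y⁻¹ * u * y : R) : G) * (y : G) = 1
      rw [hc, mul_assoc _ (φ 384 ^ k) (y : G),
        ← ((show Commute (y : G) (φ 384) from W.core.comm_w _ hy').pow_right k).eq]
      group
  obtain ⟨τ, hτ⟩ : ∃ τ, MonoidHom.transfer f = τ := ⟨_, rfl⟩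
  rw [hτ] at htr
  have hτQ : ∀ (x : R) (hx : x ∈ Q), τ x = QuotientGroup.mk' Zq ⟨x, hx⟩ := fun x hx => by
    rw [htr x (hSQ.symm ▸ hx), CfsgLib.HallWielandt.ext_of_mem _ (hSQ.symm ▸ hx), hfv]
  have hτsurj : Function.Surjective τ := fun q => by
    obtain ⟨x, rfl⟩ := QuotientGroup.mk'_surjective _ q
    exact ⟨x, hτQ x x.2⟩
  obtain ⟨K, hK⟩ : ∃ K, τ.ker = K := ⟨_, rfl⟩
  haveI : K.Normal := hK ▸ inferInstance
  have hwK : (⟨φ 384, hwR⟩ : R) ∈ K := hK ▸ MonoidHom.mem_ker.2 (by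
    rw [hτQ _ hwQ]
    exact (QuotientGroup.eq_one_iff _).2 ((hZq _).2 ⟨1, by rw [pow_one]⟩))
  have hwo : orderOf (⟨φ 384, hwR⟩ : R) = 3 := by rw [Subgroup.orderOf_mk, hw3]
  have hRK : Nat.card K * 27 = Nat.card R := by
    have h1 := K.card_mul_index
    have h2 : K.index = Nat.card (Q ⧸ Zq) := by
      rw [← hK, Subgroup.index_ker, MonoidHom.range_eq_top.2 hτsurj, Subgroup.card_top]
    have h3 := Zq.card_mul_index
    rw [Nat.card_congr (Subgroup.subgroupOfEquivOfLe ((Subgroup.zpowers_le).2 hwQ)).toEquiv, Nat.card_zpowers, hwo,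
      hQc, Subgroup.index] at h3
    rw [h2, show Nat.card (Q ⧸ Zq) = 27 by omega] at h1
    exact h1
  have h243 : ¬ 243 ∣ Nat.card R := fun h => by
    have h1 := S.card_eq_multiplicity
    rw [hSQ, hQc] at h1
    have h2 : 5 ≤ (Nat.card R).factorization 3 := by
      rw [← Nat.Prime.pow_dvd_iff_le_factorization Nat.prime_three Nat.card_pos.ne']
      simpa using h
    have := Nat.pow_le_pow_right (show 0 < 3 by norm_num) h2
    rw [← h1] at this
    norm_num at this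
  -- Burnside in the kernel
  obtain ⟨T, hTle⟩ := (IsPGroup.of_card (n := 1) (by
    rw [Nat.card_zpowers, Subgroup.orderOf_mk, hwo, pow_one]) :
    IsPGroup 3 (Subgroup.zpowers (⟨⟨φ 384, hwR⟩, hwK⟩ : K))).exists_le_sylow
  have hTeq : (T : Subgroup K) = Subgroup.zpowers (⟨⟨φ 384, hwR⟩, hwK⟩ : K) := by
    refine (Subgroup.eq_of_le_of_card_ge hTle ?_).symm
    rw [Nat.card_zpowers, Subgroup.orderOf_mk, hwo]
    obtain ⟨j, hj⟩ := IsPGroup.iff_card.1 T.2
    rw [hj]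
    by_contra hgt
    have hj2 : 2 ≤ j := by
      by_contra h
      interval_cases j <;> simp at hgt
    refine h243 ?_
    rw [← hRK, show (243 : ℕ) = 3 ^ 2 * 27 by norm_num]
    exact Nat.mul_dvd_mul_right ((pow_dvd_pow 3 hj2).trans (hj ▸ (T : Subgroup K).card_subgroup_dvd_card)) _
  have hburn : Subgroup.normalizer ((T : Subgroup K) : Set K) ≤ Subgroup.centralizer ((T : Subgroup K) : Set K) := by
    intro g hg
    rw [hTeq] at hg ⊢
    have hg' := (Subgroup.mem_normalizer_iff.1 hg _).1 (Subgroup.mem_zpowers _)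
    rw [← mem_powers_iff_mem_zpowers, Submonoid.mem_powers_iff] at hg'
    obtain ⟨k, hk⟩ := hg'
    have hk' : ((g : R) : G) * φ 384 * ((g : R) : G)⁻¹ = φ 384 ^ k := by
      have := congrArg (fun t : K => ((t : R) : G)) hk
      exact this.symm
    have hc := hnoinv _ (g : R).2 k hk'
    have hc2 : Commute g (⟨⟨φ 384, hwR⟩, hwK⟩ : K) := Subtype.ext (Subtype.ext hc)
    refine Subgroup.mem_centralizer_iff.2 fun t ht => ?_
    obtain ⟨i, rfl⟩ := Subgroup.mem_zpowers_iff.1 ht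
    exact (hc2.zpow_right i).eq.symm
  have hNPC := CfsgLib.hasNormalPComplement_of_normalizer_le_centralizer T hburn
  -- the complement is centralised trivially
  obtain ⟨M, hM⟩ : ∃ M, ((Cfsg.pPrimeCore 3 K).map K.subtype).map R.subtype = M := ⟨_, rfl⟩
  haveI : ((Cfsg.pPrimeCore 3 K).map K.subtype).Normal := inferInstance
  have hMc : (Nat.card M).Coprime 3 := by
    rw [← hM, Subgroup.card_map_of_injective (Subgroup.subtype_injective _),
      Subgroup.card_map_of_injective (Subgroup.subtype_injective _)]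
    exact CfsgLib.card_pPrimeCore_coprime 3
  have hMR : M ≤ R := hM ▸ Subgroup.map_subtype_le _
  have hE : B ⊓ R ≤ Subgroup.normalizer (M : Set G) := by
    intro g hg
    have key : ∀ g ∈ R, ∀ x ∈ M, g * x * g⁻¹ ∈ M := by
      intro g hg x hx
      rw [← hM] at hx ⊢
      obtain ⟨y, hy, rfl⟩ := hx
      exact ⟨⟨g, hg⟩ * y * ⟨g, hg⟩⁻¹, Subgroup.Normal.conj_mem inferInstance y hy _, rfl⟩
    refine Subgroup.mem_normalizer_iff.2 fun x => ⟨fun hx => key g hg.2 x hx, fun hx => ?_⟩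
    have := key g⁻¹ (R.inv_mem hg.2) _ hx
    rwa [show g⁻¹ * (g * x * g⁻¹) * g⁻¹⁻¹ = x by group] at this
  have hBcube : ∀ x ∈ B, x ^ 3 = 1 := fun x hx => by
    obtain ⟨v, hv, rfl⟩ := (D.coord.mem x).1 hx
    have h0 : ((List.range 81).all fun v => vadd (vadd v v) v == 0) = true := by decide +kernel
    have := of_range_all h0 hv
    simp only [beq_iff_eq] at this
    rw [pow_succ, pow_two, ← D.coord.add v hv v hv, ← D.coord.add _ (vadd_lt hv hv) v hv, this, D.coord.zero]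
  haveI : IsMulCommutative ↥(B ⊓ R) := ⟨⟨fun x y => Subtype.ext (D.coord.comm x.2.1 y.2.1)⟩⟩
  have hwB : φ 384 ∈ B := D.data.t_mem_B D.odd (by simp [tList])
  -- a further element of the elementary group commuting with `s`
  obtain ⟨c, hc, hcR, hcw⟩ : ∃ c, c ∈ B ∧ c ∈ R ∧ ∀ k : ℕ, c ≠ φ 384 ^ k := by
    have hval : ∀ i : Fin 9, ∃ k : Fin 3, θ (wPlane.getD i 0) * s * (θ (wPlane.getD i 0))⁻¹ = s * φ 384 ^ (k : ℕ) := by
      intro i
      have hi : (i : ℕ) < wPlane.length := wPlane_ok.2.2.1.symm ▸ i.2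
      have hm : wPlane.getD i 0 ∈ wPlane := by rw [List.getD_eq_getElem _ _ hi]; exact List.getElem_mem _
      obtain ⟨k, hk⟩ := W.core.comm D (W.plane_mem hm) hs.1
      refine ⟨⟨k % 3, Nat.mod_lt _ (by norm_num)⟩, ?_⟩
      show _ = s * φ 384 ^ (k % 3)
      rw [← hw3, pow_mod_orderOf, hk, mul_assoc (s * θ (wPlane.getD i 0)),
        ← ((show Commute (θ (wPlane.getD i 0))⁻¹ (φ 384) from
          (show Commute (θ (wPlane.getD i 0)) (φ 384) from W.core.comm_w _ (W.plane_mem hm)).inv_left).pow_right k).eq]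
      group
    choose F hF using hval
    obtain ⟨i, j, hij, hFij⟩ := Fintype.exists_ne_map_eq_of_card_lt F (by simp)
    have hi : (i : ℕ) < wPlane.length := wPlane_ok.2.2.1.symm ▸ i.2
    have hj : (j : ℕ) < wPlane.length := wPlane_ok.2.2.1.symm ▸ j.2
    obtain ⟨x, hx⟩ : ∃ x, wPlane.getD i 0 = x := ⟨_, rfl⟩
    obtain ⟨y, hy⟩ : ∃ y, wPlane.getD j 0 = y := ⟨_, rfl⟩
    have hxm : x ∈ wPlane := by rw [← hx, List.getD_eq_getElem _ _ hi]; exact List.getElem_mem _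
    have hym : y ∈ wPlane := by rw [← hy, List.getD_eq_getElem _ _ hj]; exact List.getElem_mem _
    have hxy : x ≠ y := fun h => hij (Fin.ext ((List.Nodup.getElem_inj_iff wPlane_ok.2.1).1 (by
      rw [← List.getD_eq_getElem _ 0 hi, ← List.getD_eq_getElem _ 0 hj, hx, hy, h])))
    have hxB : θ x ∈ B := (D.coord.mem _).2 ⟨x, (wPlane_facts hxm).1, rfl⟩
    have hyB : θ y ∈ B := (D.coord.mem _).2 ⟨y, (wPlane_facts hym).1, rfl⟩
    have hFx := hF i
    have hFy := hF j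
    rw [hx, hFij] at hFx
    rw [hy] at hFy
    refine ⟨(θ y)⁻¹ * θ x, B.mul_mem (B.inv_mem hyB) hxB, hR ▸ Subgroup.mem_centralizer_singleton_iff.2 ?_, fun k hk => ?_⟩
    · calc (θ y)⁻¹ * θ x * s = (θ y)⁻¹ * (θ x * s * (θ x)⁻¹) * θ x := by group
        _ = (θ y)⁻¹ * (θ y * s * (θ y)⁻¹) * θ x := by rw [hFx, ← hFy]
        _ = _ := by group
    · have hzc : z * ((θ y)⁻¹ * θ x) * z⁻¹ = ((θ y)⁻¹ * θ x)⁻¹ := by
        rw [show z * ((θ y)⁻¹ * θ x) * z⁻¹ = (z * θ y * z⁻¹)⁻¹ * (z * θ x * z⁻¹) by group, D.plane_inv hym,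
          D.plane_inv hxm, mul_inv_rev, inv_inv, D.coord.comm hyB (B.inv_mem hxB)]
      rw [hk, ((show Commute z (φ 384) from (D.data.comm_z (by norm_num)).symm).pow_right k).eq,
        mul_inv_cancel_right] at hzc
      have h3 := hBcube _ (B.pow_mem hwB k)
      rw [pow_succ, pow_two, mul_eq_one_iff_eq_inv.2 hzc, one_mul] at h3
      rw [h3, inv_mul_eq_one] at hk
      exact hxy (D.coord.inj _ (wPlane_facts hxm).1 _ (wPlane_facts hym).1 hk.symm)
  have hncyc : ¬ IsCyclic ↥(B ⊓ R) := by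
    intro hcyc
    obtain ⟨g, hg⟩ := hcyc.exists_generator
    have hwE : φ 384 ∈ B ⊓ R := ⟨hwB, hwR⟩
    have hg3 : g ^ 3 = 1 := Subtype.ext (hBcube _ g.2.1)
    obtain ⟨i, hi⟩ := Subgroup.mem_zpowers_iff.1 (hg ⟨φ 384, hwE⟩)
    have hgo : orderOf g = 3 := orderOf_eq_prime hg3 fun h1 => by
      rw [h1, one_zpow] at hi
      exact D.w_ne (congrArg Subtype.val hi).symm
    have hw' : orderOf (⟨φ 384, hwE⟩ : ↥(B ⊓ R)) = 3 := by rw [Subgroup.orderOf_mk, hw3]
    have heq' : Subgroup.zpowers (⟨φ 384, hwE⟩ : ↥(B ⊓ R)) = Subgroup.zpowers g :=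
      Subgroup.eq_of_le_of_card_ge (Subgroup.zpowers_le.2 (hg _)) (by
        rw [Nat.card_zpowers, Nat.card_zpowers, hgo, hw'])
    have hm : (⟨c, hc, hcR⟩ : ↥(B ⊓ R)) ∈ Subgroup.zpowers (⟨φ 384, hwE⟩ : ↥(B ⊓ R)) := heq'.symm ▸ hg _
    rw [← mem_powers_iff_mem_zpowers, Submonoid.mem_powers_iff] at hm
    obtain ⟨k, hk⟩ := hm
    exact hcw k (congrArg Subtype.val hk).symm
  have hcop : (Nat.card ↥(B ⊓ R)).Coprime (Nat.card M) := by
    have h1 : Nat.card ↥(B ⊓ R) ∣ 3 ^ 4 := by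
      have := Subgroup.card_dvd_of_le (inf_le_left : B ⊓ R ≤ B)
      rw [D.card_B] at this
      simpa using this
    exact Nat.Coprime.coprime_dvd_left h1 (Nat.Coprime.pow_left _ hMc.symm)
  have hMbot : M = ⊥ := by
    rw [← CfsgLib.coprime_generated_by_centralizers hncyc hE hcop]
    simp only [iSup_eq_bot]
    rintro x ⟨hx, hx1⟩
    rw [eq_bot_iff]
    intro m hm
    rw [Subgroup.mem_bot, ← orderOf_eq_one_iff]
    have hd : orderOf m ∣ Nat.card ↥(Subgroup.centralizer ({x} : Set G)) :=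
      Subgroup.orderOf_dvd_natCard _ hm.2
    have h2 : Nat.Coprime (orderOf m) 2 := Nat.coprime_two_right.2
      (Odd.of_dvd_nat hodd (Subgroup.orderOf_dvd_natCard R (hMR hm.1)))
    have h3 : Nat.Coprime (orderOf m) 3 := Nat.Coprime.coprime_dvd_left (Subgroup.orderOf_dvd_natCard M hm.1) hMc
    have hd' : orderOf m ∣ 2 ^ 3 * 3 ^ 6 := by
      rcases D.card_cent_mem W hx.1 hx1 with h | h <;> rw [h] at hd
      · exact hd.trans (by norm_num)
      · simpa using hd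
    exact Nat.eq_one_of_dvd_coprimes ((h2.pow_right 3).mul_right (h3.pow_right 6)) dvd_rfl hd'
  -- the kernel is a 3-group
  have hcore : Cfsg.pPrimeCore 3 K = ⊥ := by
    rw [← hM] at hMbot
    rw [eq_bot_iff]
    intro x hx
    have : ((x : R) : G) ∈ (⊥ : Subgroup G) := hMbot.le ⟨(x : R), ⟨x, hx, rfl⟩, rfl⟩
    exact Subgroup.mem_bot.2 (Subtype.ext (Subtype.ext (Subgroup.mem_bot.1 this)))
  have hKp : IsPGroup 3 K := by
    rw [IsPGroup.iff_card]
    refine ⟨_, Nat.eq_prime_pow_of_unique_prime_dvd Nat.card_pos.ne' fun {p} hp hpd => ?_⟩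
    by_contra hp3
    haveI := Fact.mk hp
    obtain ⟨x, hx⟩ := exists_prime_orderOf_dvd_card' (G := K) p hpd
    have hmem := CfsgLib.mem_pPrimeCore_of_hasNormalPComplement hNPC (g := x) (by
      rw [hx]; exact (Nat.coprime_primes hp Nat.prime_three).2 hp3)
    rw [hcore, Subgroup.mem_bot] at hmem
    rw [hmem, orderOf_one] at hx
    exact hp.one_lt.ne hx
  obtain ⟨j, hj⟩ := IsPGroup.iff_card.1 hKp
  have hj1 : j ≤ 1 := by
    by_contra h
    refine h243 ?_
    rw [← hRK, hj, show (243 : ℕ) = 3 ^ 2 * 27 by norm_num]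
    exact Nat.mul_dvd_mul_right (pow_dvd_pow 3 (by omega)) _
  have hRle : Nat.card R ≤ 81 := by
    rw [← hRK, hj]
    calc 3 ^ j * 27 ≤ 3 ^ 1 * 27 := Nat.mul_le_mul_right _ (Nat.pow_le_pow_right (by norm_num) hj1)
      _ = 81 := by norm_num
  rw [← hPdef]
  exact (Subgroup.eq_of_le_of_card_ge (inf_le_right : O ⊓ R ≤ R) (by rw [hPdef, hP81]; exact hRle)).symm

theorem WData.u_card (W : WData z φ B θ O vw) (D : Base z φ B θ e e') {s : G} (hs : Untyped z φ B O s) :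
    Nat.card ↥(Subgroup.centralizer ({s} : Set G)) = 81 := by
  rw [W.u_cent D hs]
  exact (W.u_index D hs).1

end CfsgU43Type
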