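import Cfsg.Agent.Lib.U43Type.UReal

/-!
Groups of U₄(3) type: the centraliser of an untyped element inside the core, and untyped elements are not conjugate
into the elementary group.
-/

set_option autoImplicit false
set_option maxRecDepth 100000
set_option linter.unusedSectionVars false

namespace CfsgU43Type

variable {G : Type*} [Group G] {z : G} {φ : ℕ → G} {B : Subgroup G} {θ : ℕ → G} {e e' : G} {O : Subgroup G} {vw : ℕ}

theorem WData.u_nw (W : WData z φ B θ O vw) (D : Base z φ B θ e e') {s : G} (hs : Untyped z φ B O s) (k : ℕ) :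
    s ≠ φ 384 ^ k := fun h => hs.2.2 1 (by simp) (by simp) (by
  rw [one_mul, inv_one, mul_one, h]
  exact B.pow_mem ((D.coord.mem _).2 ⟨vw, W.vw_lt, W.vw_eq⟩) k)

variable [Finite G]

/-- The conjugates of a noncentral element of the core under the core are its translates by powers of `φ 384`. -/
theorem WData.u_index (W : WData z φ B θ O vw) (D : Base z φ B θ e e') {s : G} (hs : Untyped z φ B O s) :
    Nat.card ↥(O ⊓ Subgroup.centralizer ({s} : Set G)) = 81 ∧ ∀ k : ℕ, ∃ y ∈ O, y * s * y⁻¹ = s * φ 384 ^ k := by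
  classical
  have hsO := hs.1
  obtain ⟨C, hC⟩ : ∃ C, (Subgroup.centralizer ({s} : Set G)).subgroupOf O = C := ⟨_, rfl⟩
  have hmC : ∀ y : O, y ∈ C ↔ (y : G) * s = s * (y : G) := fun y => by
    rw [← hC, Subgroup.mem_subgroupOf]; exact Subgroup.mem_centralizer_singleton_iff
  have hw3 : orderOf (φ 384) = 3 := orderOf_eq_prime D.w_cube D.w_ne
  have hval : ∀ y : O, ∃ i : Fin 3, (y : G) * s * (y : G)⁻¹ = s * φ 384 ^ (i : ℕ) := fun y => by
    obtain ⟨k, hk⟩ := W.core.comm D y.2 hsO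
    refine ⟨⟨k % 3, Nat.mod_lt _ (by norm_num)⟩, ?_⟩
    show (y : G) * s * (y : G)⁻¹ = s * φ 384 ^ (k % 3)
    rw [← hw3, pow_mod_orderOf, hk, mul_assoc (s * (y : G)),
      ← ((show Commute (y : G)⁻¹ (φ 384) from (show Commute (y : G) (φ 384) from W.core.comm_w _ y.2).inv_left).pow_right k).eq]
    group
  choose f hf using hval
  let F : O ⧸ C → Fin 3 := fun q => f q.out
  have hF : Function.Injective F := fun a b h => by
    have h' : (a.out : G) * s * (a.out : G)⁻¹ = (b.out : G) * s * (b.out : G)⁻¹ := by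
      rw [hf, hf, show f a.out = f b.out from h]
    rw [← QuotientGroup.out_eq' a, ← QuotientGroup.out_eq' b, QuotientGroup.eq, hmC, Subgroup.coe_mul, Subgroup.coe_inv]
    calc (a.out : G)⁻¹ * b.out * s = (a.out : G)⁻¹ * ((b.out : G) * s * (b.out : G)⁻¹) * b.out := by group
      _ = (a.out : G)⁻¹ * ((a.out : G) * s * (a.out : G)⁻¹) * b.out := by rw [h']
      _ = _ := by group
  have hle := Nat.card_le_card_of_injective F hF
  rw [Nat.card_fin] at hle
  have hcm := C.card_mul_index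
  rw [W.card] at hcm
  have hne1 : C.index ≠ 1 := fun h => by
    obtain ⟨k, hk⟩ := W.center s hsO fun y hy => ((hmC ⟨y, hy⟩).1 (by rw [Subgroup.index_eq_one.1 h]; trivial)).symm
    exact W.u_nw D hs k hk
  have hidx : C.index = 3 := by
    have hd : C.index ∣ 3 ^ 5 := Dvd.intro_left _ (show Nat.card C * C.index = 3 ^ 5 by rw [hcm]; norm_num)
    obtain ⟨j, -, hj⟩ := (Nat.dvd_prime_pow Nat.prime_three).1 hd
    have hle' : 3 ^ j ≤ 3 ^ 1 := by rw [← hj, Subgroup.index]; simpa using hle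
    have := (Nat.pow_le_pow_iff_right (by norm_num : 1 < 3)).1 hle'
    interval_cases j
    · exact absurd hj (by simpa using hne1)
    · simpa using hj
  refine ⟨?_, ?_⟩
  · rw [← Nat.card_congr (Subgroup.subgroupOfEquivOfLe (inf_le_left : O ⊓ Subgroup.centralizer ({s} : Set G) ≤ O)).toEquiv,
      Subgroup.inf_subgroupOf_left, hC]
    rw [hidx] at hcm
    omega
  · have hb := hF.bijective_of_nat_card_le (by rw [Nat.card_fin, show Nat.card (O ⧸ C) = C.index from rfl, hidx])
    intro k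
    obtain ⟨q, hq⟩ := hb.2 ⟨k % 3, Nat.mod_lt _ (by norm_num)⟩
    refine ⟨q.out, (q.out).2, ?_⟩
    rw [hf, show f q.out = ⟨k % 3, Nat.mod_lt _ (by norm_num)⟩ from hq]
    show s * φ 384 ^ (k % 3) = _
    rw [← hw3, pow_mod_orderOf]

theorem WData.u_eq_centX (W : WData z φ B θ O vw) (D : Base z φ B θ e e') {s : G} (hs : Untyped z φ B O s) :
    Subgroup.centralizer ({φ 384} : Set G) ⊓ Subgroup.centralizer ({s} : Set G) =
      O ⊓ Subgroup.centralizer ({s} : Set G) :=
  le_antisymm (fun g hg => ⟨W.u_centX D hs (Subgroup.mem_centralizer_singleton_iff.1 hg.1)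
      (Subgroup.mem_centralizer_singleton_iff.1 hg.2), hg.2⟩)
    fun g hg => ⟨Subgroup.mem_centralizer_singleton_iff.2 (W.core.comm_w g hg.1), hg.2⟩

/-- An untyped element is not conjugate to the first coordinate. -/
theorem WData.u_not_t1 (W : WData z φ B θ O vw) (D : Base z φ B θ e e') {θ₁ : ℕ → G} {φ₁ : ℕ → G} {e₁ e₂ : G}
    (D₁ : Base z φ₁ B θ₁ e₁ e₂) {s : G} (hs : Untyped z φ B O s) (g : G) : g * s * g⁻¹ ≠ θ₁ 1 := by
  intro h
  have hc : g * φ 384 * g⁻¹ * θ₁ 1 = θ₁ 1 * (g * φ 384 * g⁻¹) := by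
    rw [← h, show g * φ 384 * g⁻¹ * (g * s * g⁻¹) = g * (φ 384 * s) * g⁻¹ by group, ← W.core.comm_w s hs.1]
    group
  refine D₁.diag81 hc (by rw [conj_pow, D.w_cube, mul_one, mul_inv_cancel])
    (fun h1 => D.w_ne (conj_eq_one_iff.1 h1)) (by rw [card_cent_conj, W.cardX]) ?_
  have hmap : Subgroup.centralizer ({θ₁ 1} : Set G) ⊓ Subgroup.centralizer ({g * φ 384 * g⁻¹} : Set G) =
      (Subgroup.centralizer ({φ 384} : Set G) ⊓ Subgroup.centralizer ({s} : Set G)).map (MulAut.conj g).toMonoidHom := by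
    ext y
    constructor
    · intro hy
      have hy1 := Subgroup.mem_centralizer_singleton_iff.1 hy.1
      have hy2 := Subgroup.mem_centralizer_singleton_iff.1 hy.2
      refine ⟨g⁻¹ * y * g, ⟨Subgroup.mem_centralizer_singleton_iff.2 ?_, Subgroup.mem_centralizer_singleton_iff.2 ?_⟩,
        by simp only [MulEquiv.coe_toMonoidHom, MulAut.conj_apply]; group⟩
      · calc g⁻¹ * y * g * φ 384 = g⁻¹ * (y * (g * φ 384 * g⁻¹)) * g := by group
          _ = g⁻¹ * (g * φ 384 * g⁻¹ * y) * g := by rw [hy2]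
          _ = _ := by group
      · calc g⁻¹ * y * g * s = g⁻¹ * (y * (g * s * g⁻¹)) * g := by group
          _ = g⁻¹ * ((g * s * g⁻¹) * y) * g := by rw [h, hy1]
          _ = _ := by group
    · rintro ⟨t, ⟨ht1, ht2⟩, rfl⟩
      replace ht1 : t * φ 384 = φ 384 * t := Subgroup.mem_centralizer_singleton_iff.1 ht1
      replace ht2 : t * s = s * t := Subgroup.mem_centralizer_singleton_iff.1 ht2
      refine ⟨Subgroup.mem_centralizer_singleton_iff.2 ?_, Subgroup.mem_centralizer_singleton_iff.2 ?_⟩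
      · show g * t * g⁻¹ * θ₁ 1 = θ₁ 1 * (g * t * g⁻¹)
        rw [← h]
        calc g * t * g⁻¹ * (g * s * g⁻¹) = g * (t * s) * g⁻¹ := by group
          _ = _ := by rw [ht2]; group
      · show g * t * g⁻¹ * (g * φ 384 * g⁻¹) = g * φ 384 * g⁻¹ * (g * t * g⁻¹)
        calc g * t * g⁻¹ * (g * φ 384 * g⁻¹) = g * (t * φ 384) * g⁻¹ := by group
          _ = _ := by rw [ht1]; group
  rw [hmap, Subgroup.card_map_of_injective (f := (MulAut.conj g).toMonoidHom)
    (show Function.Injective (MulAut.conj g).toMonoidHom from (MulAut.conj g).injective), W.u_eq_centX D hs,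
    (W.u_index D hs).1]

/-- An untyped element is not conjugate into the elementary group. -/
theorem WData.u_not_B (W : WData z φ B θ O vw) (D : Base z φ B θ e e') {s : G} (hs : Untyped z φ B O s) (g : G) :
    g * s * g⁻¹ ∉ B := by
  intro hB
  obtain ⟨a, ha, hae⟩ := (D.coord.mem _).1 hB
  have hsO := hs.1
  have hzs := hs.2.1
  have ha0 : a ≠ 0 := fun h => by
    rw [h, D.coord.zero, eq_comm, conj_eq_one_iff] at hae
    exact W.u_nw D hs 0 (by rw [hae, pow_zero])
  by_cases hd : IsDiag a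
  · obtain ⟨L, hL, hu⟩ := hd
    obtain ⟨k, hk⟩ := D.exists_act hL
    have hks : k * g * s * (k * g)⁻¹ = θ (lapp L a) := by rw [← hk a ha, hae]; group
    obtain ⟨θ', e₁, e₂, D'⟩ := D.exists_twin
    have h2 : φ 2 * θ 1 * (φ 2)⁻¹ = θ 2 ∧ φ 2 * θ 3 * (φ 2)⁻¹ = θ 6 := by
      have e1 := D.at' 1 (by norm_num)
      have e3 := D.at' 3 (by norm_num)
      rw [show lapp lT 1 = 2 by decide +kernel] at e1
      rw [show lapp lT 3 = 6 by decide +kernel] at e3
      exact ⟨e1, e3⟩
    have e6 : ∀ x : G, (φ 2)⁻¹ * (k * g) * x * ((φ 2)⁻¹ * (k * g))⁻¹ = (φ 2)⁻¹ * (k * g * x * (k * g)⁻¹) * φ 2 :=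
      fun x => by group
    -- conjugate to the third coordinate means conjugate to the first of the twisted base
    have main3 : ∀ w : G, w * s * w⁻¹ = θ 3 → False := by
      intro w hw
      have ht : φ (twist 400) = φ 416 := by rw [show twist 400 = 416 by decide +kernel]
      rcases D'.t1 with t | t
      · exact W.u_not_t1 D D' hs w (by rw [hw, t, D.t3, ht])
      · refine W.u_not_t1 D D' hs (φ 2 * w) ?_
        rw [show φ 2 * w * s * (φ 2 * w)⁻¹ = φ 2 * (w * s * w⁻¹) * (φ 2)⁻¹ by group, hw, h2.2, t,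
          show (6 : ℕ) = vadd 3 3 by decide +kernel, D.coord.add 3 (by norm_num) 3 (by norm_num), D.t3,
          ← D.data.mul _ (by norm_num) _ (by norm_num), show mmul 416 416 = twist 800 by decide +kernel]
    simp only [List.mem_cons, List.not_mem_nil, or_false] at hu
    rcases hu with h | h | h | h <;> rw [h] at hks
    · exact W.u_not_t1 D D hs _ hks
    · refine W.u_not_t1 D D hs ((φ 2)⁻¹ * (k * g)) ?_
      rw [e6, hks, ← h2.1]; group
    · exact main3 _ hks
    · refine main3 ((φ 2)⁻¹ * (k * g)) ?_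
      rw [e6, hks, ← h2.2]; group
  · obtain ⟨k, hk⟩ := D.not_diag_conj ha ha0 hd
    obtain ⟨p, hp⟩ : ∃ p, k⁻¹ * g = p := ⟨_, rfl⟩
    have hps : p * s * p⁻¹ = φ 384 := by
      rw [← hp, show k⁻¹ * g * s * (k⁻¹ * g)⁻¹ = k⁻¹ * (g * s * g⁻¹) * k by group, ← hae, ← hk]; group
    refine W.not_real D (u := p * z * p⁻¹) ?_ ?_
    · rw [show p * z * p⁻¹ * (p * z * p⁻¹) = p * (z * z) * p⁻¹ by group, D.data.zz]; group
    · rw [← hps, show p * z * p⁻¹ * (p * s * p⁻¹) * (p * z * p⁻¹)⁻¹ = p * (z * s * z⁻¹) * p⁻¹ by group, hzs]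
      group

end CfsgU43Type
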