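import Cfsg.Agent.Lib.U43Type.BCent

/-!
Groups of U₄(3) type: an untyped element is centralised inside the centraliser of `φ 384` by a subgroup of index
three of the core only, and the one-sided elements are inverted by no involution.
-/

set_option autoImplicit false
set_option maxRecDepth 100000
set_option linter.unusedSectionVars false

namespace CfsgU43Type

variable {G : Type*} [Group G] {z : G} {φ : ℕ → G} {B : Subgroup G} {θ : ℕ → G} {e e' : G} {O : Subgroup G} {vw : ℕ}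

theorem Base.w_ne (D : Base z φ B θ e e') : φ 384 ≠ 1 := fun h => by
  rw [← D.data.one] at h
  exact absurd (D.data.inj 384 (by norm_num) 0 (by norm_num) h) (by norm_num)

variable [Finite G]

/-- No involution inverts `φ 384`. -/
theorem WData.not_real (W : WData z φ B θ O vw) (D : Base z φ B θ e e') {u : G} (hu : u * u = 1)
    (hw : u * φ 384 * u⁻¹ = (φ 384)⁻¹) : False := by
  have hzz := D.data.zz
  have hzi : z⁻¹ = z := inv_eq_of_mul_eq_one_right hzz
  have hui : u⁻¹ = u := inv_eq_of_mul_eq_one_right hu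
  have hzw : z * φ 384 = φ 384 * z := (D.data.comm_z (by norm_num)).symm
  have hX : u * z * u⁻¹ * φ 384 = φ 384 * (u * z * u⁻¹) := by
    have h2 : φ 384 = u * (φ 384)⁻¹ * u⁻¹ := by rw [← conj_inv, hw, inv_inv]
    have h3 : Commute z (φ 384)⁻¹ := (show Commute z (φ 384) from hzw).inv_right
    conv_lhs => rw [h2, show u * z * u⁻¹ * (u * (φ 384)⁻¹ * u⁻¹) = u * (z * (φ 384)⁻¹) * u⁻¹ by group, h3.eq]
    conv_rhs => rw [h2]
    group
  obtain ⟨c, hc⟩ : ∃ c, u * z * u⁻¹ * z⁻¹ = c := ⟨_, rfl⟩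
  have hcO : c ∈ O := by
    -- the commutator with `z` of the conjugate
    have h1 := W.core.comm_z _ hX
    have h2 : u * z * u⁻¹ * z * (u * z * u⁻¹)⁻¹ * z⁻¹ = c * c := by
      rw [← hc, show (u * z * u⁻¹)⁻¹ = u * z⁻¹ * u⁻¹ by group, hzi]
      group
    rw [h2] at h1
    obtain ⟨t, ht⟩ : ∃ t, u * z * u⁻¹ = t := ⟨_, rfl⟩
    rw [ht] at hX hc
    have htt : t * t = 1 := by
      rw [← ht, show u * z * u⁻¹ * (u * z * u⁻¹) = u * (z * z) * u⁻¹ by group, hzz]; group
    have ht1 : t ≠ 1 := fun h => D.data.z_ne (conj_eq_one_iff.1 (ht.trans h))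
    -- an involution of the centraliser commuting with `z` is `z`
    have honly : ∀ j, j * j = 1 → j ≠ 1 → j * φ 384 = φ 384 * j → j * z = z * j → j = z := by
      intro j hj hj1 hjw hjz
      obtain ⟨h, hh, rfl⟩ := (D.data.cent j).1 hjz
      have := of_range_all h_cent_w.1 hh
      simp only [(D.data.sq_iff hh).1 hj, (D.data.commute_iff hh (by norm_num)).1 hjw, bne_self_eq_false,
        Bool.false_or, Bool.or_eq_true, beq_iff_eq] at this
      rcases this with rfl | rfl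
      · exact absurd D.data.one hj1
      · exact D.data.zc
    have hzc : z * c * z⁻¹ = c⁻¹ := by
      rw [← hc, hzi, mul_inv_rev, inv_eq_of_mul_eq_one_right htt, hzi,
        show z * (t * z) * z = z * t * (z * z) by group, hzz, mul_one]
    have htc : t * c * t⁻¹ = c⁻¹ := by
      rw [← hc, hzi, mul_inv_rev, inv_eq_of_mul_eq_one_right htt, hzi,
        show t * (t * z) * t = t * t * (z * t) by group, htt, one_mul]
    have hcw : c * φ 384 = φ 384 * c := by
      rw [← hc, hzi]; exact (Commute.mul_left (show Commute t (φ 384) from hX) (show Commute z (φ 384) from hzw)).eq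
    rcases Nat.even_or_odd (orderOf c) with ⟨k, hk⟩ | hodd
    · exfalso
      have hk0 : 0 < k := by have := orderOf_pos c; omega
      have hj : c ^ k * c ^ k = 1 := by rw [← pow_add, ← hk, pow_orderOf_eq_one]
      have hj1 : c ^ k ≠ 1 := pow_ne_one_of_lt_orderOf hk0.ne' (by omega)
      have hji : (c ^ k)⁻¹ = c ^ k := inv_eq_of_mul_eq_one_right hj
      have hjz : c ^ k * z = z * c ^ k := by
        refine (mul_inv_eq_iff_eq_mul.1 ?_).symm
        rw [← conj_pow, hzc, inv_pow, hji]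
      have hjw : c ^ k * φ 384 = φ 384 * c ^ k := ((show Commute c (φ 384) from hcw).pow_left k).eq
      have hje := honly _ hj hj1 hjw hjz
      have htz : t * z = z * t := mul_inv_eq_iff_eq_mul.1 (by rw [← hje, ← conj_pow, htc, inv_pow, hji])
      have := honly t htt ht1 hX htz
      rw [this, mul_inv_cancel] at hc
      rw [← hc, one_pow] at hj1
      exact hj1 rfl
    · obtain ⟨m, hm⟩ := hodd
      have e : c = (c * c) ^ (m + 1) := by
        rw [← pow_two, ← pow_mul, show 2 * (m + 1) = orderOf c + 1 by omega, pow_succ, pow_orderOf_eq_one, one_mul]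
      rw [e]
      exact O.pow_mem h1 _
  have hinv : z * c * z⁻¹ = c⁻¹ := by
    rw [← hc, hzi, hui, show (u * z * u * z)⁻¹ = z⁻¹ * u⁻¹ * z⁻¹ * u⁻¹ by group, hzi, hui,
      show z * (u * z * u * z) * z = z * u * z * u * (z * z) by group, hzz, mul_one]
  have huc : u * c * u⁻¹ = c⁻¹ := by
    rw [← hc, hzi, hui, show (u * z * u * z)⁻¹ = z⁻¹ * u⁻¹ * z⁻¹ * u⁻¹ by group, hzi, hui,
      show u * (u * z * u * z) * u = (u * u) * (z * u * z * u) by group, hu, one_mul]
  obtain ⟨m, hm⟩ := exists_sqrt_odd (Odd.of_dvd_nat W.core.odd (Subgroup.orderOf_dvd_natCard O hcO))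
  obtain ⟨s, hs⟩ : ∃ s, c ^ (m * m) = s := ⟨_, rfl⟩
  have hs4 : s * s * (s * s) = c := by
    have hcc : c ^ (2 * m) = c := by rw [two_mul, pow_add]; exact hm
    rw [← hs, ← pow_add, ← pow_add, show m * m + m * m + (m * m + m * m) = (2 * m) * (2 * m) by ring, pow_mul, hcc,
      hcc]
  have hzs : z * s * z⁻¹ = s⁻¹ := by rw [← hs, ← conj_pow, hinv, inv_pow]
  have hus : u * s * u⁻¹ = s⁻¹ := by rw [← hs, ← conj_pow, huc, inv_pow]
  obtain ⟨v, hv⟩ : ∃ v, s⁻¹ * u * s = v := ⟨_, rfl⟩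
  have hvv : v * v = 1 := by
    rw [← hv, show s⁻¹ * u * s * (s⁻¹ * u * s) = s⁻¹ * (u * u) * s by group, hu]; group
  have hvz : v * z = z * v := by
    rw [← mul_inv_eq_iff_eq_mul, ← hv]
    have hsz : s * z * s⁻¹ = s * s * z := by
      rw [mul_assoc s z, show z * s⁻¹ = s * z from
        mul_inv_eq_iff_eq_mul.1 (by rw [← conj_inv, hzs, inv_inv]), ← mul_assoc]
    have huz : u * z * u⁻¹ = c * z := by rw [← hc]; group
    calc s⁻¹ * u * s * z * (s⁻¹ * u * s)⁻¹ = s⁻¹ * (u * (s * z * s⁻¹) * u⁻¹) * s := by group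
      _ = s⁻¹ * ((u * s * u⁻¹) * (u * s * u⁻¹) * (u * z * u⁻¹)) * s := by rw [hsz]; group
      _ = s⁻¹ * (s * s * z) * s := by rw [hus, huz, ← hs4]; group
      _ = s * (z * s) := by group
      _ = s * (s⁻¹ * z) := by rw [show z * s = s⁻¹ * z from mul_inv_eq_iff_eq_mul.1 hzs]
      _ = z := by group
  have hvw : v * φ 384 * v⁻¹ = (φ 384)⁻¹ := by
    have hsw : s * φ 384 = φ 384 * s := hs ▸ W.core.comm_w _ (O.pow_mem hcO _)
    rw [← hv, show s⁻¹ * u * s * φ 384 * (s⁻¹ * u * s)⁻¹ = s⁻¹ * (u * (s * φ 384 * s⁻¹) * u⁻¹) * s by group, hsw,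
      mul_inv_cancel_right, hw, mul_assoc, ← (show Commute s (φ 384) from hsw).inv_right.eq, inv_mul_cancel_left]
  obtain ⟨h, hh, hhe⟩ := (D.data.cent v).1 hvz
  have e1 : mmul h h = 0 := (D.data.sq_iff hh).1 (hhe ▸ hvv)
  have e2 : mconj h 384 = 768 := D.data.inj _ (mconj_lt hh (by norm_num)) _ (by norm_num) (by
    rw [D.data.conj hh (by norm_num), hhe, hvw, ← D.data.inv (by norm_num)]
    congr 1)
  have := of_range_all not_real_check.1 hh
  simp [e1, e2] at this

/-- The elements of the centraliser of `φ 384` commuting with an untyped element lie in the core. -/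
theorem WData.u_centX (W : WData z φ B θ O vw) (D : Base z φ B θ e e') {s : G} (hs : Untyped z φ B O s) {g : G}
    (hgw : g * φ 384 = φ 384 * g) (hgs : g * s = s * g) : g ∈ O := by
  obtain ⟨hsO, hzs, huntyped⟩ := hs
  have hwpow : ∀ x ∈ O, ∀ k : ℕ, Commute x (φ 384 ^ k) := fun x hx k =>
    (show Commute x (φ 384) from W.core.comm_w x hx).pow_right k
  have hnotw : ∀ k : ℕ, s ≠ φ 384 ^ k := fun k h => huntyped 1 (by simp) (by simp) (by
    rw [one_mul, inv_one, mul_one, h]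
    exact B.pow_mem (D.data.t_mem_B D.odd (show 384 ∈ tList by simp [tList])) k)
  obtain ⟨o, ho, hoz⟩ := W.core.split g hgw
  obtain ⟨h, hh, hhe⟩ := (D.data.cent _).1 hoz
  obtain ⟨k₀, hk₀⟩ := W.core.comm D ho hsO
  have hhs : ∃ k : ℕ, φ h * s * (φ h)⁻¹ = s * φ 384 ^ k := ⟨k₀, by
    rw [hhe, show o * g * s * (o * g)⁻¹ = o * (g * s * g⁻¹) * o⁻¹ by group,
      show g * s * g⁻¹ = s by rw [hgs, mul_inv_cancel_right], hk₀, mul_assoc (s * o), ← (hwpow o⁻¹ (O.inv_mem ho) k₀).eq]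
    group⟩
  have hhw : φ h * φ 384 = φ 384 * φ h := hhe ▸ (Commute.mul_left (show Commute o (φ 384) from W.core.comm_w o ho)
    (show Commute g (φ 384) from hgw)).eq
  -- products of elements fixing `s` modulo `φ 384`
  have hm : ∀ a b : G, a * φ 384 = φ 384 * a → (∃ k : ℕ, a * s * a⁻¹ = s * φ 384 ^ k) →
      (∃ k : ℕ, b * s * b⁻¹ = s * φ 384 ^ k) → ∃ k : ℕ, a * b * s * (a * b)⁻¹ = s * φ 384 ^ k := by
    rintro a b ha ⟨i, hi⟩ ⟨j, hj⟩
    refine ⟨i + j, ?_⟩
    rw [show a * b * s * (a * b)⁻¹ = a * (b * s * b⁻¹) * a⁻¹ by group, hj,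
      show a * (s * φ 384 ^ j) * a⁻¹ = a * s * a⁻¹ * (a * φ 384 ^ j * a⁻¹) by group, hi,
      ((show Commute a (φ 384) from ha).pow_right j).eq, mul_inv_cancel_right, pow_add, mul_assoc]
  have hcodes : ∀ p, p < 1152 → mmul p 384 = mmul 384 p → φ p * φ 384 = φ 384 * φ p := fun p hp e =>
    (D.data.commute_iff hp (by norm_num)).2 e
  have hc : mmul h 384 = mmul 384 h := (D.data.commute_iff hh (by norm_num)).1 hhw
  have hnotz : ¬ ∃ k : ℕ, z * s * z⁻¹ = s * φ 384 ^ k := by
    rintro ⟨k, hk⟩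
    rw [hzs] at hk
    have h2 : s * s = (φ 384 ^ k)⁻¹ := by
      calc s * s = s * s * (s⁻¹ * (φ 384 ^ k)⁻¹ * s⁻¹)⁻¹ * (s⁻¹ * (φ 384 ^ k)⁻¹ * s⁻¹) := by group
        _ = s * s * (s * φ 384 ^ k * s) * (s⁻¹ * (φ 384 ^ k)⁻¹ * s⁻¹) := by group
        _ = (φ 384 ^ k)⁻¹ := by
          rw [← hk, inv_mul_cancel, mul_one, show s * s * (s⁻¹ * (φ 384 ^ k)⁻¹ * s⁻¹) = s * (φ 384 ^ k)⁻¹ * s⁻¹ by
            group, ((hwpow s hsO k).inv_right).eq, mul_inv_cancel_right]
    have h3 : s ^ 3 = 1 := W.cube s hsO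
    rw [pow_succ, pow_two, h2, inv_mul_eq_one] at h3
    exact hnotw k h3.symm
  obtain h0 | hne : h ∈ [0, 384, 768] ∨ h ∉ [0, 384, 768] := em _
  · have : φ h ∈ O := by
      simp only [List.mem_cons, List.not_mem_nil, or_false] at h0
      rcases h0 with rfl | rfl | rfl
      · rw [D.data.one]; exact O.one_mem
      · exact W.core.w_mem
      · rw [show 768 = mmul 384 384 by decide +kernel, D.data.mul _ (by norm_num) _ (by norm_num)]
        exact O.mul_mem W.core.w_mem W.core.w_mem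
    rw [show g = o⁻¹ * φ h by rw [hhe]; group]
    exact O.mul_mem (O.inv_mem ho) this
  exfalso
  have := of_range_all rList_ok.2.2 hh
  simp only [hc, bne_self_eq_false, Bool.false_or, Bool.or_eq_true, List.contains_iff_mem, hne, false_or,
    List.any_eq_true] at this
  rcases this with hz | ⟨r, hr, p, hp, hr16⟩
  · refine hnotz ?_
    have h2 := hm _ _ hhw hhs hhs
    have hw2 : φ h * φ h * φ 384 = φ 384 * (φ h * φ h) := (Commute.mul_left hhw hhw).eq
    simp only [List.mem_cons, List.not_mem_nil, or_false] at hz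
    have e3 : φ (mcube h) = φ h * (φ h * φ h) := by rw [mcube, D.data.mul _ hh _ (mmul_lt hh hh), D.data.mul _ hh _ hh]
    rcases hz with e | e | e | e
    · rw [← D.data.zc, e]; exact hhs
    · rw [← D.data.zc, e, D.data.mul _ hh _ hh]; exact h2
    · rw [← D.data.zc, e, e3]; exact hm _ _ hhw hhs h2
    · rw [← D.data.zc, e, D.data.mul _ (mcube_lt hh) _ (mcube_lt hh), e3]
      exact hm _ _ (Commute.mul_left hhw (show Commute _ _ from hw2)).eq (hm _ _ hhw hhs h2) (hm _ _ hhw hhs h2)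
  · obtain ⟨hrl, hrc, -⟩ := rList_mem hr
    have hp' : p < 1152 ∧ φ p * φ 384 = φ 384 * φ p ∧ ∃ k : ℕ, φ p * s * (φ p)⁻¹ = s * φ 384 ^ k := by
      have hs384 : φ 384 * s = s * φ 384 := (W.core.comm_w s hsO).symm
      simp only [List.mem_cons, List.not_mem_nil, or_false] at hp
      rcases hp with rfl | rfl | rfl
      · exact ⟨by norm_num, by rw [D.data.one]; simp, 0, by rw [D.data.one]; simp⟩
      · exact ⟨by norm_num, rfl, 0, by rw [hs384, mul_inv_cancel_right, pow_zero, mul_one]⟩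
      · have e768 : φ 768 = φ 384 * φ 384 := by
          rw [← D.data.mul _ (by norm_num) _ (by norm_num), show mmul 384 384 = 768 by decide +kernel]
        refine ⟨by norm_num, by rw [e768, mul_assoc], 0, ?_⟩
        rw [e768, (Commute.mul_left hs384 hs384).eq, mul_inv_cancel_right, pow_zero, mul_one]
    obtain ⟨hpl, hpw, hps⟩ := hp'
    have hhp := hm _ _ hhw hhs hps
    have hhpw := (Commute.mul_left hhw (show Commute _ _ from hpw)).eq
    have hr' : ∃ k : ℕ, φ (mconj r 16) * s * (φ (mconj r 16))⁻¹ = s * φ 384 ^ k := by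
      simp only [List.mem_cons, List.not_mem_nil, or_false] at hr16
      rcases hr16 with e | e
      · rw [e, D.data.mul _ hh _ hpl]; exact hhp
      · rw [e, D.data.mul _ (mmul_lt hh hpl) _ (mmul_lt hh hpl), D.data.mul _ hh _ hpl]
        exact hm _ _ hhpw hhp hhp
    obtain ⟨k, hk⟩ := hr'
    rw [D.data.conj hrl (by norm_num)] at hk
    have hrw := hcodes r hrl hrc
    have hri : (φ r)⁻¹ * φ 384 = φ 384 * (φ r)⁻¹ := (show Commute (φ r) (φ 384) from hrw).inv_left.eq
    have hs'O : (φ r)⁻¹ * s * φ r ∈ O := by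
      simpa using W.core.norm _ hri s hsO
    obtain ⟨a, ha, hae⟩ := W.fix16 _ hs'O ⟨k, by
      rw [show φ 16 * ((φ r)⁻¹ * s * φ r) * (φ 16)⁻¹ =
          (φ r)⁻¹ * (φ r * φ 16 * (φ r)⁻¹ * s * (φ r * φ 16 * (φ r)⁻¹)⁻¹) * φ r by group, hk,
        show (φ r)⁻¹ * (s * φ 384 ^ k) * φ r = (φ r)⁻¹ * s * (φ 384 ^ k * φ r) by group,
        ((show Commute (φ r) (φ 384) from hrw).pow_right k).symm.eq]
      group⟩
    refine huntyped (φ r)⁻¹ hri (show Commute (φ r) z from D.data.comm_z hrl).inv_left.eq ?_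
    rw [inv_inv, ← hae]
    refine (D.coord.mem _).2 ⟨a, ?_, rfl⟩
    have := of_all wSpan_ok.1 W.vw_mem
    simp only [Bool.and_eq_true, beq_iff_eq, decide_eq_true_eq, List.all_eq_true] at this
    exact this.1.2 a ha

end CfsgU43Type
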