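import Cfsg.Agent.Lib.U43Type.WStruct
import Cfsg.Agent.Lib.U43Type.WTypes

/-!
Groups of U₄(3) type: the inverted elements of the odd core not conjugate into the group of order eighty-one.
-/

set_option autoImplicit false
set_option maxRecDepth 100000
set_option linter.unusedSectionVars false

namespace CfsgU43Type

variable {G : Type*} [Group G] {z : G} {φ : ℕ → G} {B : Subgroup G} {θ : ℕ → G} {e e' : G} {O : Subgroup G} {vw : ℕ}

/-- An element of the odd core inverted by `z` and not conjugate into the elementary group inside the centralisers. -/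
def Untyped (z : G) (φ : ℕ → G) (B O : Subgroup G) (s : G) : Prop :=
  s ∈ O ∧ z * s * z⁻¹ = s⁻¹ ∧ ∀ h, h * φ 384 = φ 384 * h → h * z = z * h → h * s * h⁻¹ ∉ B

theorem WData.vw_lt (W : WData z φ B θ O vw) : vw < 81 := by
  have := of_all wPlane_ok.2.2.2.2 W.vw_mem
  simp only [Bool.and_eq_true, decide_eq_true_eq] at this
  exact this.1

theorem wPlane_facts {b : ℕ} (hb : b ∈ wPlane) : b < 81 ∧ lapp lZ b = vneg b ∧ (b ≠ 0 → IsDiag b) := by
  have := of_all wPlane_ok.1 hb
  simp only [Bool.and_eq_true, Bool.or_eq_true, beq_iff_eq, decide_eq_true_eq, List.all_eq_true, List.any_eq_true,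
    List.contains_iff_mem] at this
  exact ⟨this.1.1.1, this.1.1.2, fun h => this.1.2.resolve_left h⟩

theorem WData.plane_mem (W : WData z φ B θ O vw) {b : ℕ} (hb : b ∈ wPlane) : θ b ∈ O := by
  refine W.span_mem b ?_
  have := of_all (of_all wPlane_ok.2.2.2.1 W.vw_mem) hb
  simp only [Bool.and_eq_true, List.contains_iff_mem] at this
  exact this.2

theorem Base.plane_inv (D : Base z φ B θ e e') {b : ℕ} (hb : b ∈ wPlane) : z * θ b * z⁻¹ = (θ b)⁻¹ := by
  rw [D.az b (wPlane_facts hb).1, (wPlane_facts hb).2.1, D.coord.neg (wPlane_facts hb).1]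

/-- An inverted element of the core in the elementary group lies in the plane. -/
theorem WData.inv_mem_plane (W : WData z φ B θ O vw) (D : Base z φ B θ e e') {x : G} (hx : x ∈ O) (hB : x ∈ B)
    (hz : z * x * z⁻¹ = x⁻¹) : ∃ b ∈ wPlane, θ b = x := by
  obtain ⟨a, ha, rfl⟩ := W.inter x hx hB
  have hlt : a < 81 := by
    have := of_all wSpan_ok.1 W.vw_mem
    simp only [Bool.and_eq_true, beq_iff_eq, decide_eq_true_eq, List.all_eq_true] at this
    exact this.1.2 a ha
  have hinv : lapp lZ a = vneg a := D.coord.act_apply D.az hlt (vneg_lt hlt) (by rw [hz, D.coord.neg hlt])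
  have hc : ([4, 5, 7, 8].all fun v => (wSpan v).all fun a => lapp lZ a != vneg a || wPlane.contains a) = true := by
    decide +kernel
  have := of_all (of_all hc W.vw_mem) ha
  simp only [hinv, bne_self_eq_false, Bool.false_or, List.contains_iff_mem] at this
  exact ⟨a, this, rfl⟩

variable [Finite G]

/-- The core is invariant under elements of the centraliser of `z` fixing the line of `φ 384`. -/
theorem WData.conj_norm (W : WData z φ B θ O vw) (D : Base z φ B θ e e') {h : G} (hz : h * z = z * h)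
    (hw : h * φ 384 * h⁻¹ = φ 384 ∨ h * φ 384 * h⁻¹ = (φ 384)⁻¹) {x : G} (hx : x ∈ O) : h * x * h⁻¹ ∈ O := by
  have hX : ∀ g, g * φ 384 = φ 384 * g → h * g * h⁻¹ * φ 384 = φ 384 * (h * g * h⁻¹) := by
    intro g hg
    rcases hw with e1 | e1
    · conv_lhs => rw [← e1, show h * g * h⁻¹ * (h * φ 384 * h⁻¹) = h * (g * φ 384) * h⁻¹ by group, hg]
      conv_rhs => rw [← e1]
      group
    · have e2 : Commute (h * g * h⁻¹) (φ 384)⁻¹ := by
        show h * g * h⁻¹ * (φ 384)⁻¹ = (φ 384)⁻¹ * (h * g * h⁻¹)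
        rw [← e1, show h * g * h⁻¹ * (h * φ 384 * h⁻¹) = h * (g * φ 384) * h⁻¹ by group, hg]
        group
      exact (inv_inv (φ 384) ▸ e2.inv_right).eq
  obtain ⟨k, s, hs, hzs, rfl⟩ := W.core.split_inv D hx
  obtain ⟨m, hm⟩ := exists_sqrt_odd (Odd.of_dvd_nat W.core.odd (Subgroup.orderOf_dvd_natCard O hs))
  have hmem : ∀ t ∈ O, z * t * z⁻¹ = t⁻¹ → h * (t * t) * h⁻¹ ∈ O := by
    intro t ht hzt
    have h1 := W.core.comm_z _ (hX t (W.core.comm_w t ht))
    have hz' : h * z * h⁻¹ = z := by rw [hz, mul_inv_cancel_right]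
    have e1 : t * z * t⁻¹ * z⁻¹ = t * t := by
      rw [show t * z * t⁻¹ * z⁻¹ = t * (z * t * z⁻¹)⁻¹ by group, hzt, inv_inv]
    rw [show h * t * h⁻¹ * z * (h * t * h⁻¹)⁻¹ * z⁻¹ =
      h * (t * (h⁻¹ * z * h) * t⁻¹ * (h⁻¹ * z * h)⁻¹) * h⁻¹ by group] at h1
    rwa [show h⁻¹ * z * h = z by rw [mul_assoc, ← hz, inv_mul_cancel_left], e1] at h1
  have hsm : h * s * h⁻¹ ∈ O := hm ▸ hmem (s ^ m) (O.pow_mem hs m) (by rw [← conj_pow, hzs, inv_pow])
  rw [show h * (φ 384 ^ k * s) * h⁻¹ = h * φ 384 ^ k * h⁻¹ * (h * s * h⁻¹) by group, ← conj_pow]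
  refine O.mul_mem (O.pow_mem ?_ k) hsm
  rcases hw with e1 | e1 <;> rw [e1]
  exacts [W.core.w_mem, O.inv_mem W.core.w_mem]

/-- Two of the planes meet trivially. -/
theorem WData.plane_meet (_W : WData z φ B θ O vw) (D : Base z φ B θ e e') {p b : ℕ} (hp : p < 1152) (hb : b ∈ wPlane)
    (hb0 : b ≠ 0) (hB : φ p * θ b * (φ p)⁻¹ ∈ B) : (tList.all fun q => tList.contains (mconj p q)) = true := by
  obtain ⟨hb81, -, hd⟩ := wPlane_facts hb
  obtain ⟨g, hg⟩ : ∃ g, φ p = g := ⟨_, rfl⟩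
  rw [hg] at hB
  have hA : B.map (MulAut.conj g⁻¹).toMonoidHom = B := by
    refine D.abelian_unique _ ?_ ?_ ?_
    · rintro _ ⟨a, ha, rfl⟩ _ ⟨c, hc, rfl⟩
      simp only [MulEquiv.coe_toMonoidHom, MulAut.conj_apply]
      rw [show g⁻¹ * a * g⁻¹⁻¹ * (g⁻¹ * c * g⁻¹⁻¹) = g⁻¹ * (a * c) * g⁻¹⁻¹ by group, D.coord.comm ha hc]
      group
    · rw [Subgroup.card_map_of_injective (f := (MulAut.conj g⁻¹).toMonoidHom)
        (show Function.Injective (MulAut.conj g⁻¹).toMonoidHom from (MulAut.conj g⁻¹).injective), D.card_B]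
    · rintro _ ⟨a, ha, rfl⟩
      refine D.diag_comm hb81 (hd hb0) ?_
      show g⁻¹ * a * g⁻¹⁻¹ * θ b = θ b * (g⁻¹ * a * g⁻¹⁻¹)
      calc g⁻¹ * a * g⁻¹⁻¹ * θ b = g⁻¹ * (a * (g * θ b * g⁻¹)) * g := by group
        _ = g⁻¹ * ((g * θ b * g⁻¹) * a) * g := by rw [D.coord.comm ha hB]
        _ = _ := by group
  simp only [List.all_eq_true, List.contains_iff_mem]
  intro q hq
  have hl := (tList_facts hq).1
  obtain ⟨y, hy, hye⟩ := hA.ge (D.data.t_mem_B D.odd hq)
  have hy' : φ (mconj p q) = y := by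
    rw [D.data.conj hp hl, hg, ← hye]
    simp only [MulEquiv.coe_toMonoidHom, MulAut.conj_apply]
    group
  rw [← hy'] at hy
  obtain ⟨hc, ho⟩ := (D.odd.mem_iff _).1 hy
  have hc' := hc.all D.data (show 400 ∈ tList by simp [tList])
  have := of_range_all cent_d (mconj_lt hp hl)
  simpa [D.data.nine_of_odd (mconj_lt hp hl) ho,
    (D.data.commute_iff (mconj_lt hp hl) (by norm_num)).1 hc'] using this

/-- An element fixing the group of order nine maps the plane to itself. -/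
theorem WData.plane_stable (W : WData z φ B θ O vw) (D : Base z φ B θ e e') {p b : ℕ} (hp : p < 1152)
    (hc : mmul p 384 = mmul 384 p) (hf : (tList.all fun q => tList.contains (mconj p q)) = true) (hb : b ∈ wPlane) :
    ∃ c ∈ wPlane, θ c = φ p * θ b * (φ p)⁻¹ := by
  simp only [List.all_eq_true, List.contains_iff_mem] at hf
  have hcw := (D.data.commute_iff hp (by norm_num)).2 hc
  refine W.inv_mem_plane D (W.core.norm _ hcw _ (W.plane_mem hb))
    (D.data.conj_B D.odd (D.data.sends_code hp hf) ((D.coord.mem _).2 ⟨b, (wPlane_facts hb).1, rfl⟩)) ?_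
  rw [show z * (φ p * θ b * (φ p)⁻¹) * z⁻¹ = (z * φ p) * θ b * (z * φ p)⁻¹ by group, ← D.data.comm_z hp,
    show φ p * z * θ b * (φ p * z)⁻¹ = φ p * (z * θ b * z⁻¹) * (φ p)⁻¹ by group, D.plane_inv hb]
  group

theorem rList_mem {r : ℕ} (hr : r ∈ rList) : r < 1152 ∧ mmul r 384 = mmul 384 r ∧
    ∀ r' ∈ rList, (tList.all fun q => tList.contains (mconj (mmul (minv r) r') q)) = true → r = r' := by
  have := of_all rList_ok.2.1 hr
  simp only [Bool.and_eq_true, decide_eq_true_eq, beq_iff_eq] at this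
  refine ⟨this.1.1, this.1.2, fun r' hr' hf => ?_⟩
  have h := of_all this.2 hr'
  simpa only [hf, Bool.not_true, Bool.or_false, beq_iff_eq] using h

/-- An inverted element of the core conjugate into the elementary group lies in one of the four planes. -/
theorem WData.typed_plane (W : WData z φ B θ O vw) (D : Base z φ B θ e e') {s : G} (hs : s ∈ O)
    (hz : z * s * z⁻¹ = s⁻¹) (hu : ¬ Untyped z φ B O s) :
    ∃ r ∈ rList, ∃ b ∈ wPlane, s = φ r * θ b * (φ r)⁻¹ := by
  simp only [Untyped, hs, hz, true_and] at hu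
  push Not at hu
  obtain ⟨h, hw, hhz, hB⟩ := hu
  obtain ⟨p, hp, rfl⟩ := (D.data.cent h).1 hhz
  obtain ⟨b, hb, hbe⟩ := W.inv_mem_plane D (W.core.norm _ hw s hs) hB (by
    rw [show z * (φ p * s * (φ p)⁻¹) * z⁻¹ = (z * φ p) * s * (z * φ p)⁻¹ by group, ← hhz,
      show φ p * z * s * (φ p * z)⁻¹ = φ p * (z * s * z⁻¹) * (φ p)⁻¹ by group, hz]
    group)
  have hi := minv_lt hp
  have hci : mmul (minv p) 384 = mmul 384 (minv p) := (D.data.commute_iff hi (by norm_num)).1 (by
    rw [D.data.inv hp]; exact (Commute.inv_left (show Commute (φ p) (φ 384) from hw)).eq)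
  have := of_range_all rList_ok.1 hi
  simp only [hci, bne_self_eq_false, Bool.false_or, List.any_eq_true] at this
  obtain ⟨r, hr, hf⟩ := this
  obtain ⟨hrl, hrc, -⟩ := rList_mem hr
  have hir := minv_lt hrl
  have hml := mmul_lt hir hi
  have hcir : mmul (mmul (minv r) (minv p)) 384 = mmul 384 (mmul (minv r) (minv p)) :=
    (D.data.commute_iff hml (by norm_num)).1 (by
      rw [D.data.mul _ hir _ hi, D.data.inv hrl, D.data.inv hp]
      exact (((show Commute (φ r) (φ 384) from (D.data.commute_iff hrl (by norm_num)).2 hrc).inv_left).mul_left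
        (show Commute (φ p) (φ 384) from hw).inv_left).eq)
  obtain ⟨c, hc, hce⟩ := W.plane_stable D hml hcir hf hb
  refine ⟨r, hr, c, hc, ?_⟩
  rw [hce, D.data.mul _ hir _ hi, D.data.inv hrl, D.data.inv hp, hbe]
  group

/-- The inverted elements conjugate into the elementary group. -/
theorem WData.typed_card (W : WData z φ B θ O vw) (D : Base z φ B θ e e') :
    Nat.card {s : G // s ∈ O ∧ z * s * z⁻¹ = s⁻¹ ∧ ¬ Untyped z φ B O s} = 33 := by
  classical
  let l : List (ℕ × ℕ) := (0, 0) :: rList.product (wPlane.filter fun b => b != 0)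
  have hl : l.length = 33 ∧ l.Nodup ∧ (l.all fun x => rList.contains x.1 && wPlane.contains x.2 &&
      (x.2 != 0 || x.1 == 0)) = true := by decide +kernel
  have hx : ∀ x ∈ l, x.1 ∈ rList ∧ x.2 ∈ wPlane ∧ (x.2 ≠ 0 ∨ x.1 = 0) := fun x hx => by
    have := List.all_eq_true.1 hl.2.2 x hx
    simp only [Bool.and_eq_true, Bool.or_eq_true, bne_iff_ne, beq_iff_eq, List.contains_iff_mem] at this
    exact ⟨this.1.1, this.1.2, this.2⟩
  have hval : ∀ x ∈ l, φ x.1 * θ x.2 * (φ x.1)⁻¹ ∈ O ∧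
      z * (φ x.1 * θ x.2 * (φ x.1)⁻¹) * z⁻¹ = (φ x.1 * θ x.2 * (φ x.1)⁻¹)⁻¹ ∧
      ¬ Untyped z φ B O (φ x.1 * θ x.2 * (φ x.1)⁻¹) := by
    intro x hxl
    obtain ⟨hr, hb, -⟩ := hx x hxl
    obtain ⟨hrl, hrc, -⟩ := rList_mem hr
    have hrw := (D.data.commute_iff hrl (by norm_num)).2 hrc
    refine ⟨W.core.norm _ hrw _ (W.plane_mem hb), ?_, fun hu => hu.2.2 (φ x.1)⁻¹
      (show Commute (φ x.1) (φ 384) from hrw).inv_left.eq (show Commute (φ x.1) z from D.data.comm_z hrl).inv_left.eq ?_⟩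
    · rw [show z * (φ x.1 * θ x.2 * (φ x.1)⁻¹) * z⁻¹ = (z * φ x.1) * θ x.2 * (z * φ x.1)⁻¹ by group,
        ← D.data.comm_z hrl,
        show φ x.1 * z * θ x.2 * (φ x.1 * z)⁻¹ = φ x.1 * (z * θ x.2 * z⁻¹) * (φ x.1)⁻¹ by group, D.plane_inv hb]
      group
    · rw [show (φ x.1)⁻¹ * (φ x.1 * θ x.2 * (φ x.1)⁻¹) * (φ x.1)⁻¹⁻¹ = θ x.2 by group]
      exact (D.coord.mem _).2 ⟨x.2, (wPlane_facts hb).1, rfl⟩
  let F : Fin l.length → {s : G // s ∈ O ∧ z * s * z⁻¹ = s⁻¹ ∧ ¬ Untyped z φ B O s} :=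
    fun i => ⟨φ l[i].1 * θ l[i].2 * (φ l[i].1)⁻¹, hval _ (List.getElem_mem i.2)⟩
  have hF : Function.Bijective F := by
    refine ⟨fun i j h => ?_, fun ⟨s, hs, hz, hu⟩ => ?_⟩
    · have h' : φ l[i.1].1 * θ l[i.1].2 * (φ l[i.1].1)⁻¹ = φ l[j.1].1 * θ l[j.1].2 * (φ l[j.1].1)⁻¹ := congrArg Subtype.val h
      obtain ⟨hr, hb, hor⟩ := hx _ (List.getElem_mem i.2)
      obtain ⟨hr', hb', hor'⟩ := hx _ (List.getElem_mem j.2)
      refine Fin.ext ((List.Nodup.getElem_inj_iff hl.2.1 (hi := i.2) (hj := j.2)).1 (?_ : l[i.1] = l[j.1]))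
      by_cases hb0 : l[i.1].2 = 0
      · have e1 : l[j.1].2 = 0 := by
          rw [hb0, D.coord.zero, mul_one, mul_inv_cancel, eq_comm, conj_eq_one_iff, ← D.coord.zero] at h'
          exact D.coord.inj _ (wPlane_facts hb').1 0 (by norm_num) h'
        exact Prod.ext ((hor.resolve_left (not_not_intro hb0)).trans (hor'.resolve_left (not_not_intro e1)).symm)
          (hb0.trans e1.symm)
      · obtain ⟨hrl, -, hsep⟩ := rList_mem hr
        obtain ⟨hrl', -, hsep'⟩ := rList_mem hr'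
        have e : φ (mmul (minv l[j.1].1) l[i.1].1) * θ l[i.1].2 * (φ (mmul (minv l[j.1].1) l[i.1].1))⁻¹ = θ l[j.1].2 := by
          rw [D.data.mul _ (minv_lt hrl') _ hrl, D.data.inv hrl',
            show (φ l[j.1].1)⁻¹ * φ l[i.1].1 * θ l[i.1].2 * ((φ l[j.1].1)⁻¹ * φ l[i.1].1)⁻¹ =
              (φ l[j.1].1)⁻¹ * (φ l[i.1].1 * θ l[i.1].2 * (φ l[i.1].1)⁻¹) * φ l[j.1].1 by group, h']
          group
        have hm := W.plane_meet D (mmul_lt (minv_lt hrl') hrl) hb hb0
          (by rw [e]; exact (D.coord.mem _).2 ⟨_, (wPlane_facts hb').1, rfl⟩)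
        have hrr := hsep' _ hr hm
        rw [hrr] at h'
        exact Prod.ext hrr.symm (D.coord.inj _ (wPlane_facts hb).1 _ (wPlane_facts hb').1
          (mul_left_cancel (mul_right_cancel h')))
    · obtain ⟨r, hr, b, hb, rfl⟩ := W.typed_plane D hs hz hu
      by_cases hb0 : b = 0
      · refine ⟨⟨0, hl.1.symm ▸ (by norm_num)⟩, Subtype.ext ?_⟩
        show φ 0 * θ 0 * (φ 0)⁻¹ = φ r * θ b * (φ r)⁻¹
        rw [hb0, D.coord.zero, mul_one, mul_one, mul_inv_cancel, mul_inv_cancel]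
      · have hm : (r, b) ∈ l := List.mem_cons_of_mem _ (List.mem_product.2 ⟨hr, List.mem_filter.2 ⟨hb, by simp [hb0]⟩⟩)
        obtain ⟨i, hi, hie⟩ := List.mem_iff_getElem.1 hm
        refine ⟨⟨i, hi⟩, Subtype.ext ?_⟩
        show φ l[i].1 * θ l[i].2 * (φ l[i].1)⁻¹ = _
        rw [hie]
  rw [← Nat.card_eq_of_bijective F hF, Nat.card_fin, hl.1]

/-- There are forty-eight untyped elements. -/
theorem WData.untyped_card (W : WData z φ B θ O vw) (D : Base z φ B θ e e') :
    Nat.card {s : G // Untyped z φ B O s} = 48 := by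
  classical
  haveI := Fintype.ofFinite G
  let I : Finset G := Finset.univ.filter fun s => s ∈ O ∧ z * s * z⁻¹ = s⁻¹
  have hI : I.card = 81 := by
    -- each element is a power of `φ 384` times exactly one inverted element
    have hw3 : orderOf (φ 384) = 3 := orderOf_eq_prime D.w_cube fun h => by
      rw [← D.data.one] at h
      exact absurd (D.data.inj 384 (by norm_num) 0 (by norm_num) h) (by norm_num)
    have hzw : Commute z (φ 384) := (D.data.comm_z (by norm_num)).symm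
    let F : I × Fin 3 → O := fun p => ⟨φ 384 ^ (p.2 : ℕ) * (p.1 : G),
      O.mul_mem (O.pow_mem W.core.w_mem _) (Finset.mem_filter.1 p.1.2).2.1⟩
    have hF : Function.Bijective F := by
      refine ⟨?_, fun x => ?_⟩
      · rintro ⟨⟨a, ha⟩, i⟩ ⟨⟨b, hb⟩, j⟩ h
        have h' : φ 384 ^ (i : ℕ) * a = φ 384 ^ (j : ℕ) * b := congrArg Subtype.val h
        obtain ⟨-, haO, haz⟩ := Finset.mem_filter.1 ha
        obtain ⟨-, hbO, hbz⟩ := Finset.mem_filter.1 hb
        obtain ⟨P, hP⟩ : ∃ P, φ 384 ^ (i : ℕ) = P := ⟨_, rfl⟩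
        obtain ⟨Q, hQ⟩ : ∃ Q, φ 384 ^ (j : ℕ) = Q := ⟨_, rfl⟩
        rw [hP, hQ] at h'
        have h2 : P * a⁻¹ = Q * b⁻¹ := by
          have : z * (P * a) * z⁻¹ = z * (Q * b) * z⁻¹ := by rw [h']
          rwa [show z * (P * a) * z⁻¹ = z * P * z⁻¹ * (z * a * z⁻¹) by group, haz,
            show z * (Q * b) * z⁻¹ = z * Q * z⁻¹ * (z * b * z⁻¹) by group, hbz, ← hP, ← hQ, (hzw.pow_right _).eq,
            (hzw.pow_right _).eq, mul_inv_cancel_right, mul_inv_cancel_right, hP, hQ] at this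
        obtain ⟨R, hR⟩ : ∃ R, Q⁻¹ * P = R := ⟨_, rfl⟩
        have e1 : b = R * a := by rw [← hR, mul_assoc, h']; group
        have hcR : Commute a R := by
          rw [← hR, ← hP, ← hQ]
          exact ((show Commute a (φ 384) from W.core.comm_w a haO).pow_right _).inv_right.mul_right
            ((show Commute a (φ 384) from W.core.comm_w a haO).pow_right _)
        have e2 : R * a⁻¹ = b⁻¹ := by rw [← hR, mul_assoc, h2]; group
        have hR2 : R * R = 1 := by
          rw [e1, mul_inv_rev, ← hcR.inv_left.eq] at e2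
          exact mul_eq_one_iff_eq_inv.2 (mul_left_cancel e2)
        have hR3 : R ^ 3 = 1 := by
          have hc : Commute Q⁻¹ P := by rw [← hP, ← hQ]; exact (Commute.pow_pow_self _ _ _).inv_left
          have h3 : ∀ n : ℕ, (φ 384 ^ n) ^ 3 = 1 := fun n => by rw [← pow_mul, mul_comm, pow_mul, D.w_cube, one_pow]
          rw [← hR, hc.mul_pow, inv_pow, ← hP, ← hQ, h3, h3, inv_one, one_mul]
        have hR1 : R = 1 := by rwa [pow_succ, pow_two, hR2, one_mul] at hR3
        rw [hR1, one_mul] at e1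
        subst e1
        rw [← hP, ← hQ] at h'
        exact Prod.ext rfl (Fin.ext (pow_injOn_Iio_orderOf (hw3.symm ▸ i.2) (hw3.symm ▸ j.2) (mul_right_cancel h')))
      · obtain ⟨k, s, hs, hzs, hxe⟩ := W.core.split_inv D x.2
        refine ⟨(⟨s, Finset.mem_filter.2 ⟨Finset.mem_univ _, hs, hzs⟩⟩, ⟨k % 3, Nat.mod_lt _ (by norm_num)⟩),
          Subtype.ext ?_⟩
        show φ 384 ^ (k % 3) * s = _
        rw [← hw3, pow_mod_orderOf, hxe]
    have := Nat.card_eq_of_bijective F hF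
    rw [Nat.card_prod, Nat.card_fin, W.card, Nat.card_eq_fintype_card, Fintype.card_coe] at this
    omega
  have h33 := W.typed_card D
  rw [Nat.card_eq_fintype_card, Fintype.card_subtype] at h33 ⊢
  have hsplit := Finset.card_filter_add_card_filter_not (s := I) (fun s => Untyped z φ B O s)
  have e1 : I.filter (fun s => Untyped z φ B O s) = Finset.univ.filter (fun s => Untyped z φ B O s) := by
    ext s
    simp only [I, Finset.mem_filter, Finset.mem_univ, true_and]
    exact ⟨fun h => h.2, fun h => ⟨⟨h.1, h.2.1⟩, h⟩⟩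
  have e2 : I.filter (fun s => ¬ Untyped z φ B O s) =
      Finset.univ.filter (fun s => s ∈ O ∧ z * s * z⁻¹ = s⁻¹ ∧ ¬ Untyped z φ B O s) := by
    ext s
    simp only [I, Finset.mem_filter, Finset.mem_univ, true_and, and_assoc]
  rw [e1, e2, hI, h33] at hsplit
  omega

end CfsgU43Type
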