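import Cfsg.Agent.Lib.U43Type.Types
import Cfsg.Agent.Lib.ZStar.Main

/-!
Groups of U₄(3) type: the odd core of the centraliser of a one-sided element of order three.
-/

set_option autoImplicit false
set_option maxRecDepth 100000
set_option linter.unusedSectionVars false

namespace CfsgU43Type

open Cfsg

variable {G : Type*} [Group G] {z : G} {φ : ℕ → G} {B : Subgroup G} {θ : ℕ → G} {e e' : G}

/-- The odd normal subgroup of the centraliser of `φ 384` splitting it. -/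
structure WOdd (z : G) (φ : ℕ → G) (O : Subgroup G) : Prop where
  comm_w : ∀ x ∈ O, x * φ 384 = φ 384 * x
  norm : ∀ g, g * φ 384 = φ 384 * g → ∀ x ∈ O, g * x * g⁻¹ ∈ O
  odd : Odd (Nat.card O)
  w_mem : φ 384 ∈ O
  split : ∀ g, g * φ 384 = φ 384 * g → ∃ o ∈ O, o * g * z = z * (o * g)
  comm_z : ∀ g, g * φ 384 = φ 384 * g → g * z * g⁻¹ * z⁻¹ ∈ O
  fix : ∀ x ∈ O, x * z = z * x → ∃ k : ℕ, x = φ 384 ^ k

/-- An element of odd order is the square of a power of itself. -/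
theorem exists_sqrt_odd {c : G} (h : Odd (orderOf c)) : ∃ m : ℕ, c ^ m * c ^ m = c := by
  obtain ⟨j, hj⟩ := h
  refine ⟨j + 1, ?_⟩
  rw [← pow_add, show j + 1 + (j + 1) = orderOf c + 1 by omega, pow_succ, pow_orderOf_eq_one, one_mul]

theorem Base.w_cube (D : Base z φ B θ e e') : φ 384 ^ 3 = 1 := by
  rw [← D.data.cube_eq (by norm_num), (tList_facts (show 384 ∈ tList by simp [tList])).2.1, D.data.one]

variable [Finite G] {O : Subgroup G}

theorem Base.exists_wOdd (D : Base z φ B θ e e') : ∃ O, WOdd z φ O := by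
  obtain ⟨X, hX⟩ : ∃ X, Subgroup.centralizer ({φ 384} : Set G) = X := ⟨_, rfl⟩
  have hmX : ∀ x, x ∈ X ↔ x * φ 384 = φ 384 * x := fun x => by rw [← hX]; exact Subgroup.mem_centralizer_singleton_iff
  obtain ⟨c1, c2, -, c4, c5, -, -, c8, -⟩ := h_cent_w
  have hzX : z ∈ X := (hmX z).2 (by
    rw [← D.data.zc]; exact (D.data.commute_iff (by norm_num) (by norm_num)).2 c8)
  obtain ⟨u, hu⟩ : ∃ u : X, u = ⟨z, hzX⟩ := ⟨_, rfl⟩
  have huo : orderOf u = 2 := by rw [← Subgroup.orderOf_coe, hu, D.data.z2]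
  have hiso : IsIsolated u := by
    intro g hg
    obtain ⟨v, hv⟩ : ∃ v, g * u * g⁻¹ = v := ⟨_, rfl⟩
    rw [hv] at hg ⊢
    have hvz : (v : G) * z = z * (v : G) := by
      have := congrArg Subtype.val hg.eq
      rw [Subgroup.coe_mul, Subgroup.coe_mul, hu] at this
      exact this.symm
    obtain ⟨h, hh, hhe⟩ := (D.data.cent (v : G)).1 hvz
    have hvo : orderOf v = 2 := by
      rwa [← hv, show orderOf (g * u * g⁻¹) = orderOf u from MulEquiv.orderOf_eq (MulAut.conj g) u]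
    have h1 : mmul h h = 0 := (D.data.sq_iff hh).1 (by
      rw [hhe, ← Subgroup.coe_mul, ← pow_two, ← hvo, pow_orderOf_eq_one, Subgroup.coe_one])
    have h2 : mmul h 384 = mmul 384 h := (D.data.commute_iff hh (by norm_num)).1 (hhe ▸ (hmX _).1 v.2)
    have := of_range_all c1 hh
    simp only [h1, h2, bne_self_eq_false, Bool.false_or, Bool.or_eq_true, beq_iff_eq] at this
    rcases this with rfl | rfl
    · rw [D.data.one] at hhe
      rw [show v = 1 from Subtype.ext hhe.symm, orderOf_one] at hvo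
      omega
    · rw [D.data.zc] at hhe
      exact hu ▸ Subtype.ext hhe.symm
  obtain ⟨O, hO⟩ : ∃ O, (pPrimeCore 2 X).map X.subtype = O := ⟨_, rfl⟩
  have hmem : ∀ x : X, x ∈ pPrimeCore 2 X → (x : G) ∈ O := fun x hx => hO ▸ ⟨x, hx, rfl⟩
  have hodd : Odd (Nat.card O) := by
    rw [← hO, Subgroup.card_map_of_injective (Subgroup.subtype_injective _)]
    exact Nat.coprime_two_right.1 (CfsgLib.card_pPrimeCore_coprime 2)
  have hnorm : ∀ g, g * φ 384 = φ 384 * g → ∀ x ∈ O, g * x * g⁻¹ ∈ O := by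
    intro g hg x hx
    rw [← hO] at hx
    obtain ⟨y, hy, rfl⟩ := hx
    exact hmem (⟨g, (hmX g).2 hg⟩ * y * ⟨g, (hmX g).2 hg⟩⁻¹) (Subgroup.Normal.conj_mem inferInstance y hy _)
  have hle : ∀ x ∈ O, x * φ 384 = φ 384 * x := fun x hx => by
    rw [← hO] at hx
    obtain ⟨y, -, rfl⟩ := hx
    exact (hmX _).1 y.2
  have hcz : ∀ g, g * φ 384 = φ 384 * g → g * z * g⁻¹ * z⁻¹ ∈ O := fun g hg => by
    have := hmem _ (CfsgLib.ZStar.inZStar huo hiso ⟨g, (hmX g).2 hg⟩)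
    rw [hu] at this
    exact this
  have hwX : φ 384 ∈ X := (hmX _).2 rfl
  have hw : φ 384 ∈ O := by
    haveI : (Subgroup.zpowers (⟨φ 384, hwX⟩ : X)).Normal := ⟨fun n hn g => by
      obtain ⟨k, rfl⟩ := Subgroup.mem_zpowers_iff.1 hn
      have hc : Commute g (⟨φ 384, hwX⟩ : X) := Subtype.ext ((hmX _).1 g.2)
      rw [(hc.zpow_right k).eq, mul_inv_cancel_right]
      exact ⟨k, rfl⟩⟩
    refine hmem ⟨φ 384, hwX⟩ (CfsgLib.le_pPrimeCore (p := 2) (N := Subgroup.zpowers (⟨φ 384, hwX⟩ : X)) ?_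
      (Subgroup.mem_zpowers _))
    rw [Nat.card_zpowers, ← Subgroup.orderOf_coe, Nat.coprime_two_right]
    exact Odd.of_dvd_nat (show Odd 3 by decide) (orderOf_dvd_iff_pow_eq_one.2 D.w_cube)
  refine ⟨O, hle, hnorm, hodd, hw, ?_, hcz, ?_⟩
  · intro g hg
    obtain ⟨c, hc⟩ : ∃ c, g * z * g⁻¹ * z⁻¹ = c := ⟨_, rfl⟩
    have hcO : c ∈ O := hc ▸ hcz g hg
    obtain ⟨m, hm⟩ := exists_sqrt_odd (Odd.of_dvd_nat hodd (Subgroup.orderOf_dvd_natCard O hcO))
    refine ⟨(c ^ m)⁻¹, O.inv_mem (O.pow_mem hcO m), ?_⟩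
    have hzz := D.data.zz
    have hzi : z⁻¹ = z := inv_eq_of_mul_eq_one_right hzz
    have hinv : z * c * z⁻¹ = c⁻¹ := by
      rw [← hc, show (g * z * g⁻¹ * z⁻¹)⁻¹ = z * g * z⁻¹ * g⁻¹ by group, hzi,
        show z * (g * z * g⁻¹ * z) * z = z * g * z * g⁻¹ * (z * z) by group, hzz, mul_one]
    have hs : z * c ^ m * z⁻¹ = (c ^ m)⁻¹ := by rw [← conj_pow, hinv, inv_pow]
    have hgz : g * z = c * z * g := by rw [← hc]; group
    obtain ⟨s, hse⟩ : ∃ s, c ^ m = s := ⟨_, rfl⟩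
    rw [hse] at hs hm ⊢
    calc s⁻¹ * g * z = s⁻¹ * (g * z) := by group
      _ = s⁻¹ * (s * s) * z * g := by rw [hgz, hm]; group
      _ = s * z * g := by group
      _ = z * s⁻¹ * g := by
          rw [show z * s⁻¹ = s * z from mul_inv_eq_iff_eq_mul.1 (by rw [← conj_inv, hs, inv_inv])]
      _ = z * (s⁻¹ * g) := by group
  · intro x hx hxz
    obtain ⟨h, hh, hhe⟩ := (D.data.cent x).1 hxz
    have hc : mmul h 384 = mmul 384 h := (D.data.commute_iff hh (by norm_num)).1 (hhe ▸ hle x hx)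
    have o1 : mcube (mcube h) = 0 := D.data.nine_of_odd hh (hhe ▸ Odd.of_dvd_nat hodd (Subgroup.orderOf_dvd_natCard O hx))
    have l1 := minv_lt hh
    have l2 := mconj_lt (show 4 < 1152 by norm_num) hh
    have o2 : mcube (mcube (mmul (minv h) (mconj 4 h))) = 0 := by
      refine D.data.nine_of_odd (mmul_lt l1 l2) (Odd.of_dvd_nat hodd (Subgroup.orderOf_dvd_natCard O ?_))
      rw [D.data.mul _ l1 _ l2, D.data.inv hh, D.data.conj (by norm_num) hh, hhe]
      exact O.mul_mem (O.inv_mem hx) (hnorm _ ((D.data.commute_iff (by norm_num) (by norm_num)).2 c4) x hx)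
    have := of_range_all c2 hh
    simp only [hc, o1, o2, bne_self_eq_false, Bool.false_or, List.contains_iff_mem, List.mem_cons, List.not_mem_nil,
      or_false] at this
    rcases this with rfl | rfl | rfl
    · exact ⟨0, by rw [← hhe, D.data.one, pow_zero]⟩
    · exact ⟨1, by rw [← hhe, pow_one]⟩
    · exact ⟨2, by rw [← hhe, pow_two, ← D.data.mul _ (by norm_num) _ (by norm_num),
        show mmul 384 384 = 768 by decide +kernel]⟩

/-- The inverted part of an element of the odd subgroup. -/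
theorem WOdd.split_inv (W : WOdd z φ O) (D : Base z φ B θ e e') {x : G} (hx : x ∈ O) :
    ∃ (k : ℕ) (s : G), s ∈ O ∧ z * s * z⁻¹ = s⁻¹ ∧ x = φ 384 ^ k * s := by
  have hzn : ∀ y ∈ O, z * y * z⁻¹ ∈ O := fun y hy =>
    W.norm z (by rw [← D.data.zc]; exact (D.data.commute_iff (by norm_num) (by norm_num)).2 h_cent_w.2.2.2.2.2.2.2.1) y hy
  obtain ⟨y, hy⟩ : ∃ y, z * x * z⁻¹ = y := ⟨_, rfl⟩
  have hyO : y ∈ O := hy ▸ hzn x hx
  have hzy : z * y * z⁻¹ = x := by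
    rw [← hy, show z * (z * x * z⁻¹) * z⁻¹ = (z * z) * x * (z * z)⁻¹ by group, D.data.zz]; group
  obtain ⟨d, hd⟩ : ∃ d, x⁻¹ * y = d := ⟨_, rfl⟩
  have hdO : d ∈ O := hd ▸ O.mul_mem (O.inv_mem hx) hyO
  have hdinv : z * d * z⁻¹ = d⁻¹ := by
    rw [← hd, show z * (x⁻¹ * y) * z⁻¹ = (z * x * z⁻¹)⁻¹ * (z * y * z⁻¹) by group, hy, hzy]; group
  obtain ⟨m, hm⟩ := exists_sqrt_odd (Odd.of_dvd_nat W.odd (Subgroup.orderOf_dvd_natCard O hdO))
  obtain ⟨s, hs⟩ : ∃ s, d ^ m = s := ⟨_, rfl⟩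
  rw [hs] at hm
  have hsO : s ∈ O := hs ▸ O.pow_mem hdO m
  have hsinv : z * s * z⁻¹ = s⁻¹ := by rw [← hs, ← conj_pow, hdinv, inv_pow]
  have hfix : x * s * z = z * (x * s) := by
    refine (mul_inv_eq_iff_eq_mul.1 ?_).symm
    rw [show z * (x * s) * z⁻¹ = (z * x * z⁻¹) * (z * s * z⁻¹) by group, hy, hsinv,
      show y = x * d by rw [← hd]; group, ← hm]
    group
  obtain ⟨k, hk⟩ := W.fix _ (O.mul_mem hx hsO) hfix
  exact ⟨k, s⁻¹, O.inv_mem hsO, by rw [← conj_inv, hsinv], by rw [← hk]; group⟩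

/-- Commutators in the odd subgroup are powers of `φ 384`. -/
theorem WOdd.comm (W : WOdd z φ O) (D : Base z φ B θ e e') {x y : G} (hx : x ∈ O) (hy : y ∈ O) :
    ∃ k : ℕ, x * y = y * x * φ 384 ^ k := by
  obtain ⟨i, a, ha, hza, rfl⟩ := W.split_inv D hx
  obtain ⟨j, b, hb, hzb, rfl⟩ := W.split_inv D hy
  obtain ⟨k, c, hc, hzc, hab⟩ := W.split_inv D (O.mul_mem ha hb)
  obtain ⟨p, hp⟩ : ∃ p, φ 384 ^ k = p := ⟨_, rfl⟩
  have hpc : ∀ g ∈ O, Commute g p := fun g hg => hp ▸ (show Commute g (φ 384) from W.comm_w g hg).pow_right k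
  have hzp : z * p * z⁻¹ = p := by
    have : Commute z (φ 384) := by
      show z * φ 384 = φ 384 * z
      exact (D.data.comm_z (by norm_num)).symm
    rw [← hp, (this.pow_right k).eq, mul_inv_cancel_right]
  rw [hp] at hab
  have e1 : a⁻¹ * b⁻¹ = p * c⁻¹ := by
    rw [← hza, ← hzb, ← hzp, ← hzc,
      show z * a * z⁻¹ * (z * b * z⁻¹) = z * (a * b) * z⁻¹ by group, hab]
    group
  have hab' : c = p⁻¹ * (a * b) := by rw [hab]; group
  have hba : b * a = a * b * (p⁻¹ * p⁻¹) := by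
    calc b * a = (a⁻¹ * b⁻¹)⁻¹ := by group
      _ = c * p⁻¹ := by rw [e1]; group
      _ = p⁻¹ * (a * b) * p⁻¹ := by rw [hab']
      _ = a * b * p⁻¹ * p⁻¹ := by rw [(hpc _ (O.mul_mem ha hb)).inv_right.eq]
      _ = _ := by group
  have hcw : ∀ g ∈ O, ∀ n : ℕ, Commute g (φ 384 ^ n) := fun g hg n =>
    (show Commute g (φ 384) from W.comm_w g hg).pow_right n
  refine ⟨2 * k, ?_⟩
  obtain ⟨wi, hwi⟩ : ∃ wi, φ 384 ^ i = wi := ⟨_, rfl⟩
  obtain ⟨wj, hwj⟩ : ∃ wj, φ 384 ^ j = wj := ⟨_, rfl⟩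
  have ca : Commute a wj := hwj ▸ hcw a ha j
  have cb : Commute b wi := hwi ▸ hcw b hb i
  have cw : Commute wi wj := hwi ▸ hwj ▸ Commute.pow_pow_self _ i j
  rw [pow_mul', hp, hwi, hwj, pow_two]
  calc wi * a * (wj * b) = wi * (a * wj) * b := by group
    _ = (wi * wj) * (a * b) := by rw [ca.eq]; group
    _ = (wj * wi) * (b * a * (p * p)) := by rw [cw.eq, hba]; group
    _ = wj * (wi * b) * a * (p * p) := by group
    _ = wj * b * (wi * a) * (p * p) := by rw [← cb.eq]; group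

end CfsgU43Type
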