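import Cfsg.Agent.Lib.U43Type.WCore

/-!
Groups of U₄(3) type: the odd core of the centraliser of a one-sided element of order three is extraspecial of
order 243.
-/

set_option autoImplicit false
set_option maxRecDepth 100000
set_option linter.unusedSectionVars false

namespace CfsgU43Type

variable {G : Type*} [Group G] {z : G} {φ : ℕ → G} {B : Subgroup G} {θ : ℕ → G} {e e' : G}

/-- The plane inverted by `z`. -/
def wPlane : List ℕ := ([0, 9, 18].product [0, 27, 54]).map fun p => vadd p.1 p.2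

theorem wPlane_ok : (wPlane.all fun a => decide (a < 81) && lapp lZ a == vneg a &&
    (a == 0 || lList.any fun L => [1, 2, 3, 6].contains (lapp L a)) &&
    wPlane.all fun b => wPlane.contains (vadd a (vneg b))) = true ∧ wPlane.Nodup ∧ wPlane.length = 9 ∧
    ([4, 5, 7, 8].all fun v => wPlane.all fun a => (a == 0 || !([0, v, vneg v].contains a)) &&
      (wSpan v).contains a) = true ∧
    ([4, 5, 7, 8].all fun v => decide (v < 81) && (wSpan v).all fun a => (wSpan v).all fun b =>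
      (wSpan v).contains (vadd a (vneg b))) = true := by
  decide +kernel

theorem exists_w_coord : ((List.range 3).all fun i => (List.range 3).all fun j => i == 0 || j == 0 ||
    [4, 5, 7, 8].contains (vmk i j 0 0)) = true ∧
    ([4, 5, 7, 8].all fun v => (wSpan v).all fun a => [0, v, vneg v].any fun p => wPlane.any fun b =>
      vadd p b == a) = true := by
  decide +kernel

/-- The coordinate of `φ 384`. -/
theorem Base.w_coord (D : Base z φ B θ e e') : ∃ v ∈ [4, 5, 7, 8], θ v = φ 384 := by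
  have hvec : ∀ i j, i < 3 → j < 3 → θ (vmk i j 0 0) = θ 1 ^ i * θ 3 ^ j := by
    intro i j hi hj
    obtain ⟨d0, d1, d2, d3⟩ := vmk_digits i j 0 0
    rw [D.coord.dec _ (vmk_lt _ _ _ _), d0, d1, d2, d3, Nat.mod_eq_of_lt hi, Nat.mod_eq_of_lt hj]
    simp
  have key : ∃ i j : ℕ, i < 3 ∧ j < 3 ∧ i ≠ 0 ∧ j ≠ 0 ∧ θ 1 ^ i * θ 3 ^ j = φ 384 := by
    have := of_all tPair_all.1 (show 384 ∈ tList by simp [tList])
    simp only [List.any_eq_true, List.mem_range, beq_iff_eq] at this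
    obtain ⟨i, hi, j, hj, hij⟩ := this
    have e416 : φ ([0, 416, mmul 416 416].getD j 0) = φ 416 ^ j := by
      interval_cases j
      · rw [show [0, 416, mmul 416 416].getD 0 0 = 0 from rfl, D.data.one, pow_zero]
      · rw [pow_one]; rfl
      · rw [pow_two, ← D.data.mul _ (by norm_num) _ (by norm_num)]
        try rfl
    have e400 : ∃ i' < 3, φ ([0, 400, 800].getD i 0) = θ 1 ^ i' ∧ (i' = 0 → i = 0) := by
      rcases D.t1 with h | h <;> rw [h]
      · refine ⟨i, hi, ?_, id⟩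
        interval_cases i
        · rw [show [0, 400, 800].getD 0 0 = 0 from rfl, D.data.one, pow_zero]
        · rw [pow_one]; rfl
        · rw [pow_two, ← D.data.mul _ (by norm_num) _ (by norm_num), show mmul 400 400 = 800 by decide +kernel]; rfl
      · refine ⟨2 * i % 3, by omega, ?_, by omega⟩
        interval_cases i
        · rw [show [0, 400, 800].getD 0 0 = 0 from rfl, D.data.one]; simp
        · show φ 400 = φ 800 ^ 2
          rw [pow_two, ← D.data.mul _ (by norm_num) _ (by norm_num), show mmul 800 800 = 400 by decide +kernel]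
        · show φ 800 = φ 800 ^ 1
          rw [pow_one]
    obtain ⟨i', hi', hie, hi0⟩ := e400
    have b1 : [0, 400, 800].getD i 0 < 1152 := by interval_cases i <;> norm_num
    have b2 : [0, 416, mmul 416 416].getD j 0 < 1152 := by
      interval_cases j
      exacts [by norm_num, by norm_num, mmul_lt (by norm_num) (by norm_num)]
    have hne : i ≠ 0 ∧ j ≠ 0 := by
      have : ((List.range 3).all fun i => (List.range 3).all fun j => tPair i j != 384 || (i != 0 && j != 0)) = true := by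
        decide +kernel
      have := of_range_all (of_range_all this hi) hj
      simpa [hij] using this
    refine ⟨i', j, hi', hj, fun h => hne.1 (hi0 h), hne.2, ?_⟩
    rw [← hij, tPair, D.data.mul _ b1 _ b2, hie, e416, D.t3]
  obtain ⟨i, j, hi, hj, hi0, hj0, he⟩ := key
  refine ⟨vmk i j 0 0, ?_, (hvec i j hi hj).trans he⟩
  have := of_range_all (of_range_all exists_w_coord.1 hi) hj
  simpa [hi0, hj0] using this

/-- The structure of the odd core. -/
structure WData (z : G) (φ : ℕ → G) (B : Subgroup G) (θ : ℕ → G) (O : Subgroup G) (vw : ℕ) : Prop where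
  core : WOdd z φ O
  vw_mem : vw ∈ [4, 5, 7, 8]
  vw_eq : θ vw = φ 384
  card : Nat.card O = 243
  cardX : Nat.card ↥(Subgroup.centralizer ({φ 384} : Set G)) = 5832
  span_mem : ∀ a ∈ wSpan vw, θ a ∈ O
  inter : ∀ x ∈ O, x ∈ B → ∃ a ∈ wSpan vw, θ a = x
  param : ∀ x ∈ O, ∃ a ∈ wSpan vw, ∃ b ∈ wPlane, x = θ a * (φ 4 * θ b * (φ 4)⁻¹)
  fix16 : ∀ x ∈ O, (∃ k : ℕ, φ 16 * x * (φ 16)⁻¹ = x * φ 384 ^ k) → ∃ a ∈ wSpan vw, θ a = x
  cube : ∀ x ∈ O, x ^ 3 = 1
  center : ∀ x ∈ O, (∀ y ∈ O, x * y = y * x) → ∃ k : ℕ, x = φ 384 ^ k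
  normB : ∀ x ∈ O, x ∈ Subgroup.normalizer (B : Set G)

variable [Finite G] {O : Subgroup G}

set_option maxHeartbeats 800000 in
theorem Base.exists_wData (D : Base z φ B θ e e') : ∃ (O : Subgroup G) (vw : ℕ), WData z φ B θ O vw := by
  classical
  obtain ⟨O, W⟩ := D.exists_wOdd
  obtain ⟨v, hv, hve⟩ := D.w_coord
  have hv81 : v < 81 := by
    have := of_all wPlane_ok.2.2.2.2 hv
    simp only [Bool.and_eq_true, decide_eq_true_eq] at this
    exact this.1
  obtain ⟨hnd, hlen, h18, hlt⟩ : (wSpan v).Nodup ∧ (wSpan v).length = 27 ∧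
      (lList.filter fun L => lapp L v == v).length = 18 ∧ ∀ a ∈ wSpan v, a < 81 := by
    have := of_all wSpan_ok.1 hv
    simp only [Bool.and_eq_true, beq_iff_eq, decide_eq_true_eq, List.all_eq_true] at this
    obtain ⟨⟨⟨⟨⟨h1, h2⟩, h3⟩, -⟩, h4⟩, -⟩ := this
    exact ⟨h1, h2, h3, h4⟩
  have hp : ∀ b ∈ wPlane, b < 81 ∧ lapp lZ b = vneg b ∧ (b ≠ 0 → IsDiag b) ∧
      ∀ c ∈ wPlane, vadd b (vneg c) ∈ wPlane := fun b hb => by
    have := of_all wPlane_ok.1 hb
    simp only [Bool.and_eq_true, Bool.or_eq_true, beq_iff_eq, decide_eq_true_eq, List.all_eq_true, List.any_eq_true,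
      List.contains_iff_mem] at this
    exact ⟨this.1.1.1, this.1.1.2, fun h => this.1.2.resolve_left h, this.2⟩
  have hsp : ∀ b ∈ wPlane, b ∈ wSpan v := fun b hb => by
    have := of_all (of_all wPlane_ok.2.2.2.1 hv) hb
    simp only [Bool.and_eq_true, List.contains_iff_mem] at this
    exact this.2
  have hwc : ∀ x, x ∈ B → x * φ 384 = φ 384 * x := fun x hx => ((D.odd.mem_iff x).1 hx).1.1
  have hθB : ∀ a, a < 81 → θ a ∈ B := fun a ha => (D.coord.mem _).2 ⟨a, ha, rfl⟩
  -- the span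
  have hplane : ∀ b ∈ wPlane, θ b ∈ O := by
    intro b hb
    obtain ⟨hb81, hbz, -, -⟩ := hp b hb
    have h := W.comm_z _ (hwc _ (hθB b hb81))
    rw [show θ b * z * (θ b)⁻¹ * z⁻¹ = θ b * (z * θ b * z⁻¹)⁻¹ by group, D.az b hb81, hbz, ← D.coord.neg (vneg_lt hb81),
      ← D.coord.add _ hb81 _ (vneg_lt (vneg_lt hb81))] at h
    have h2 := O.mul_mem h h
    rw [← D.coord.add _ (vadd_lt hb81 (vneg_lt (vneg_lt hb81))) _ (vadd_lt hb81 (vneg_lt (vneg_lt hb81)))] at h2
    have : ((List.range 81).all fun b => vadd (vadd b (vneg (vneg b))) (vadd b (vneg (vneg b))) == b) = true := by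
      decide +kernel
    have := of_range_all this hb81
    simp only [beq_iff_eq] at this
    rwa [this] at h2
  have hline : ∀ p ∈ [0, v, vneg v], θ p ∈ O := by
    simp only [List.mem_cons, List.not_mem_nil, or_false]
    rintro p (rfl | rfl | rfl)
    · rw [D.coord.zero]; exact O.one_mem
    · exact hve.symm ▸ W.w_mem
    · rw [D.coord.neg hv81, hve]; exact O.inv_mem W.w_mem
  have hspan : ∀ a ∈ wSpan v, θ a ∈ O := by
    intro a ha
    have := of_all (of_all exists_w_coord.2 hv) ha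
    simp only [List.any_eq_true, beq_iff_eq] at this
    obtain ⟨p, hp', b, hb, rfl⟩ := this
    have hp81 : p < 81 := by
      simp only [List.mem_cons, List.not_mem_nil, or_false] at hp'
      rcases hp' with rfl | rfl | rfl
      exacts [by norm_num, hv81, vneg_lt hv81]
    rw [D.coord.add p hp81 b (hp b hb).1]
    exact O.mul_mem (hline p hp') (hplane b hb)
  have hp₀ := hp
  -- orders
  obtain ⟨X, hX⟩ : ∃ X, Subgroup.centralizer ({φ 384} : Set G) = X := ⟨_, rfl⟩
  have hmX : ∀ x, x ∈ X ↔ x * φ 384 = φ 384 * x := fun x => by rw [← hX]; exact Subgroup.mem_centralizer_singleton_iff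
  haveI hOn : (O.subgroupOf X).Normal := ⟨fun n hn g => W.norm g ((hmX _).1 g.2) n hn⟩
  have hzX : z ∈ X := (hmX z).2 (by
    rw [← D.data.zc]; exact (D.data.commute_iff (by norm_num) (by norm_num)).2 h_cent_w.2.2.2.2.2.2.2.1)
  obtain ⟨Z, hZdef⟩ : ∃ Z : Subgroup X, (Subgroup.centralizer ({z} : Set G)).subgroupOf X = Z := ⟨_, rfl⟩
  have hmZ : ∀ x : X, x ∈ Z ↔ (x : G) * z = z * (x : G) := fun x => by
    rw [← hZdef, Subgroup.mem_subgroupOf]; exact Subgroup.mem_centralizer_singleton_iff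
  have hZ : Nat.card Z = 72 := by
    let l := (List.range 1152).filter fun h => mmul h 384 == mmul 384 h
    have hl : ∀ i : Fin l.length, l[i] < 1152 ∧ mmul l[i] 384 = mmul 384 l[i] := fun i => by
      have := List.mem_filter.1 (List.getElem_mem i.2 : l[i.1] ∈ l)
      exact ⟨List.mem_range.1 this.1, by simpa using this.2⟩
    let F : Fin l.length → Z := fun i => ⟨⟨φ l[i], (hmX _).2 ((D.data.commute_iff (hl i).1 (by norm_num)).2 (hl i).2)⟩,
      (hmZ _).2 (D.data.comm_z (hl i).1)⟩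
    have hF : Function.Bijective F := by
      refine ⟨fun i j h => ?_, fun x => ?_⟩
      · have h' : φ l[i] = φ l[j] := congrArg (fun t : Z => ((t : X) : G)) h
        exact Fin.ext ((List.Nodup.getElem_inj_iff (List.nodup_range.filter _)).1 (D.data.inj _ (hl i).1 _ (hl j).1 h'))
      · obtain ⟨h, hh, hhe⟩ := (D.data.cent ((x : X) : G)).1 ((hmZ _).1 x.2)
        have hm : h ∈ l := List.mem_filter.2 ⟨List.mem_range.2 hh, by
          simpa using (D.data.commute_iff hh (by norm_num)).1 (hhe ▸ (hmX _).1 (x : X).2)⟩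
        obtain ⟨i, hi, rfl⟩ := List.mem_iff_getElem.1 hm
        exact ⟨⟨i, hi⟩, Subtype.ext (Subtype.ext hhe)⟩
    rw [← Nat.card_eq_of_bijective F hF, Nat.card_fin]
    exact h_cent_w.2.2.1
  have hw3 : orderOf (φ 384) = 3 := orderOf_eq_prime D.w_cube fun h => by
    rw [← D.data.one] at h
    exact absurd (D.data.inj 384 (by norm_num) 0 (by norm_num) h) (by norm_num)
  have hOX : O ≤ X := fun x hx => (hmX x).2 (W.comm_w x hx)
  have hindex : (O.subgroupOf X).index = 24 := by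
    let f : Z →* X ⧸ O.subgroupOf X := (QuotientGroup.mk' (O.subgroupOf X)).comp Z.subtype
    have hf : Function.Surjective f := fun q => by
      obtain ⟨g, rfl⟩ := QuotientGroup.mk'_surjective _ q
      obtain ⟨o, ho, hoz⟩ := W.split _ ((hmX _).1 g.2)
      refine ⟨⟨⟨o, hOX ho⟩ * g, (hmZ _).2 hoz⟩, ?_⟩
      show QuotientGroup.mk' _ (⟨o, hOX ho⟩ * g) = _
      rw [map_mul, show QuotientGroup.mk' (O.subgroupOf X) ⟨o, hOX ho⟩ = 1 from (QuotientGroup.eq_one_iff _).2 ho,
        one_mul]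
    have hker : Nat.card f.ker = 3 := by
      let K : Fin 3 → f.ker := fun i => ⟨⟨⟨φ 384 ^ (i : ℕ), X.pow_mem ((hmX _).2 rfl) _⟩,
        (hmZ _).2 ((show Commute (φ 384) z from D.data.comm_z (by norm_num)).pow_left _).eq⟩,
        (QuotientGroup.eq_one_iff _).2 (O.pow_mem W.w_mem _)⟩
      have hK : Function.Bijective K := by
        refine ⟨fun i j h => Fin.ext ?_, fun x => ?_⟩
        · have h' : φ 384 ^ (i : ℕ) = φ 384 ^ (j : ℕ) := congrArg (fun t : f.ker => (((t : Z) : X) : G)) h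
          exact pow_injOn_Iio_orderOf (hw3.symm ▸ i.2) (hw3.symm ▸ j.2) h'
        · obtain ⟨k, hk⟩ := W.fix _ (show (((x : Z) : X) : G) ∈ O from
            (QuotientGroup.eq_one_iff (N := O.subgroupOf X) ((x : Z) : X)).1 x.2) ((hmZ _).1 (x : Z).2)
          refine ⟨⟨k % 3, Nat.mod_lt _ (by norm_num)⟩, Subtype.ext (Subtype.ext (Subtype.ext ?_))⟩
          show φ 384 ^ (k % 3) = _
          rw [← hw3, pow_mod_orderOf]
          exact hk.symm
      rw [← Nat.card_eq_of_bijective K hK, Nat.card_fin]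
    have h1 := f.ker.card_mul_index
    rw [hker, hZ, Subgroup.index_ker, MonoidHom.range_eq_top.2 hf, Subgroup.card_top, ← Subgroup.index] at h1
    omega
  have hOc : Nat.card O * 24 = Nat.card X := by
    rw [← hindex, ← Nat.card_congr (Subgroup.subgroupOfEquivOfLe hOX).toEquiv]
    exact (O.subgroupOf X).card_mul_index
  obtain ⟨K, hKdef⟩ : ∃ K, Subgroup.normalizer (B : Set G) ⊓ Subgroup.centralizer ({θ v} : Set G) = K := ⟨_, rfl⟩
  have hKc : Nat.card K = 1458 := by rw [← hKdef, D.card_vec_cent hv81, h18]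
  have hKX : K ≤ X := by rw [← hKdef, hve, hX]; exact inf_le_right
  have h243 : Nat.card O = 243 := by
    have h3 : 3 ^ 6 ∣ Nat.card O * 24 := by
      rw [hOc]
      exact (show 3 ^ 6 ∣ Nat.card K by rw [hKc]; norm_num).trans (Subgroup.card_dvd_of_le hKX)
    have h5 : 3 ^ 5 ∣ Nat.card O := by
      have h5' : 3 ^ 5 ∣ Nat.card O * 8 := (Nat.mul_dvd_mul_iff_right (show 0 < 3 by norm_num)).1 (by
        rw [mul_assoc]; simpa using h3)
      exact (Nat.Coprime.pow_left _ (by norm_num)).dvd_of_dvd_mul_right h5'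
    have h6 : ¬ 3 ^ 6 ∣ Nat.card O := fun h => D.three_part.2 (by
      refine dvd_trans ?_ (Subgroup.card_subgroup_dvd_card X)
      rw [← hOc, show (3 : ℕ) ^ 7 = 3 ^ 6 * 3 by norm_num]
      exact Nat.mul_dvd_mul h (by norm_num))
    obtain ⟨m, hm⟩ := h5
    suffices m = 1 by rw [hm, this]; norm_num
    refine Nat.eq_one_iff_not_exists_prime_dvd.2 fun p hp hpm => ?_
    haveI := Fact.mk hp
    by_cases hp3 : p = 3
    · exact h6 (by rw [hm, show (3 : ℕ) ^ 6 = 3 ^ 5 * 3 by norm_num]; exact Nat.mul_dvd_mul_left _ (hp3 ▸ hpm))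
    obtain ⟨x, hx⟩ := exists_prime_orderOf_dvd_card' (G := O) p (hm ▸ Dvd.dvd.mul_left hpm _)
    have hxo : orderOf (x : G) = p := by rw [Subgroup.orderOf_coe, hx]
    have h9 : (9 : ℕ) ∈ wPlane := by decide +kernel
    obtain ⟨-, -, hd9, -⟩ := hp₀ 9 h9
    obtain ⟨k, hk⟩ := W.comm D (hplane 9 h9) x.2
    have hconj : θ 9 * (x : G) * (θ 9)⁻¹ = (x : G) * φ 384 ^ k := by
      rw [hk, mul_assoc (x : G), ((show Commute (θ 9) (φ 384) from W.comm_w _ (hplane 9 h9)).pow_right k).eq]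
      group
    have hkp : φ 384 ^ (k * p) = 1 := by
      have h1 : (θ 9 * (x : G) * (θ 9)⁻¹) ^ p = 1 := by
        rw [conj_pow, ← hxo, pow_orderOf_eq_one, mul_one, mul_inv_cancel]
      rwa [hconj, (show Commute (x : G) (φ 384 ^ k) from (show Commute (x : G) (φ 384) from
        W.comm_w _ x.2).pow_right k).mul_pow, ← hxo, pow_orderOf_eq_one, one_mul, hxo, ← pow_mul] at h1
    have hk3 : 3 ∣ k := by
      have : orderOf (φ 384) ∣ k * p := orderOf_dvd_iff_pow_eq_one.2 hkp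
      rw [hw3] at this
      exact ((Nat.prime_three).dvd_mul.1 this).resolve_right fun h =>
        hp3 ((Nat.prime_dvd_prime_iff_eq Nat.prime_three hp).1 h).symm
    obtain ⟨j, rfl⟩ := hk3
    rw [pow_mul, D.w_cube, one_pow, mul_one] at hk
    have hcx : (x : G) ∈ Subgroup.centralizer ({θ 9} : Set G) :=
      Subgroup.mem_centralizer_singleton_iff.2 hk.symm
    have := Subgroup.orderOf_dvd_natCard _ hcx
    rw [D.card_diag_cent (by norm_num) (hd9 (by norm_num)), hxo, show 972 = 2 ^ 2 * 3 ^ 5 by norm_num] at this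
    rcases hp.dvd_mul.1 this with h | h
    · have h2 := (Nat.prime_dvd_prime_iff_eq hp Nat.prime_two).1 (hp.dvd_of_dvd_pow h)
      have := Odd.of_dvd_nat W.odd (Subgroup.orderOf_dvd_natCard O x.2)
      rw [hxo, h2] at this
      exact absurd this (by decide)
    · exact hp3 ((Nat.prime_dvd_prime_iff_eq hp Nat.prime_three).1 (hp.dvd_of_dvd_pow h))
  -- the parametrisation
  obtain ⟨q, hq⟩ : ∃ q, φ 4 = q := ⟨_, rfl⟩
  obtain ⟨t, ht⟩ : ∃ t, φ 16 = t := ⟨_, rfl⟩
  obtain ⟨w, hw⟩ : ∃ w, φ 384 = w := ⟨_, rfl⟩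
  have hqw : q * w = w * q := hq ▸ hw ▸ (D.data.commute_iff (by norm_num) (by norm_num)).2 h_cent_w.2.2.2.1
  have hqX : q * φ 384 = φ 384 * q := hw ▸ hqw
  have hqn : ∀ x ∈ O, q * x * q⁻¹ ∈ O := W.norm q hqX
  have htB : t ∈ B := ht ▸ D.data.t_mem_B D.odd (by simp [tList])
  have htO : ∀ a ∈ wSpan v, t * θ a * t⁻¹ = θ a := fun a ha => by
    rw [D.coord.comm htB (hθB a (hlt a ha)), mul_inv_cancel_right]
  -- the elements fixed modulo `w` by two Sylow groups
  have hfix2 : ∀ x ∈ O, (∃ k : ℕ, t * x * t⁻¹ = x * w ^ k) →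
      (∃ k : ℕ, q * t * q⁻¹ * x * (q * t * q⁻¹)⁻¹ = x * w ^ k) → ∃ k : ℕ, x = w ^ k := by
    rintro x hx ⟨k1, hk1⟩ ⟨k2, hk2⟩
    have hm : ∀ (g h : G), g * w = w * g → (∃ k : ℕ, g * x * g⁻¹ = x * w ^ k) → (∃ k : ℕ, h * x * h⁻¹ = x * w ^ k) →
        ∃ k : ℕ, g * h * x * (g * h)⁻¹ = x * w ^ k := by
      rintro g h hg ⟨i, hi⟩ ⟨j, hj⟩
      refine ⟨i + j, ?_⟩
      rw [show g * h * x * (g * h)⁻¹ = g * (h * x * h⁻¹) * g⁻¹ by group, hj,
        show g * (x * w ^ j) * g⁻¹ = g * x * g⁻¹ * (g * w ^ j * g⁻¹) by group, hi,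
        ((show Commute g w from hg).pow_right j).eq, mul_inv_cancel_right, pow_add, mul_assoc]
    have htw : t * w = w * t := by
      rw [← ht, ← hw]; exact (D.data.commute_iff (by norm_num) (by norm_num)).2 h_cent_w.2.2.2.2.2.2.1
    have hqtw : q * t * q⁻¹ * w = w * (q * t * q⁻¹) :=
      ((Commute.mul_left (show Commute q w from hqw) (show Commute t w from htw)).mul_left
        (show Commute q w from hqw).inv_left).eq
    have hh := hm t (q * t * q⁻¹) htw ⟨k1, hk1⟩ ⟨k2, hk2⟩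
    obtain ⟨g, hg⟩ : ∃ g, t * (q * t * q⁻¹) = g := ⟨_, rfl⟩
    rw [hg] at hh
    have hgw : g * w = w * g := hg ▸ (Commute.mul_left (show Commute t w from htw) (show Commute _ w from hqtw)).eq
    obtain ⟨k, hk⟩ := hm g _ hgw hh (hm g g hgw hh hh)
    have hgz : g * (g * g) = z := by
      rw [← D.data.zc, ← h_cent_w.2.2.2.2.2.1, D.data.cube_eq (mmul_lt (by norm_num) (mconj_lt (by norm_num) (by norm_num))),
        D.data.mul _ (by norm_num) _ (mconj_lt (by norm_num) (by norm_num)), D.data.conj (by norm_num) (by norm_num),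
        hq, ht, hg, pow_succ', pow_two]
    rw [hgz] at hk
    obtain ⟨i, s, hs, hzs, rfl⟩ := W.split_inv D hx
    rw [hw] at hk ⊢
    have hzw : z * w ^ i * z⁻¹ = w ^ i := by
      rw [← hw, ((show Commute z (φ 384) from (D.data.comm_z (by norm_num)).symm).pow_right i).eq, mul_inv_cancel_right]
    have hsw : ∀ n : ℕ, Commute s (w ^ n) := fun n => by
      rw [← hw]; exact (show Commute s (φ 384) from W.comm_w s hs).pow_right n
    rw [show z * (w ^ i * s) * z⁻¹ = (z * w ^ i * z⁻¹) * (z * s * z⁻¹) by group, hzw, hzs, mul_assoc] at hk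
    have h1 : s⁻¹ = s * w ^ k := mul_left_cancel hk
    have h2 : z * (s * s) * z⁻¹ = s * s := by
      have e : (s * s)⁻¹ = w ^ k := by
        rw [mul_inv_rev]; nth_rw 1 [h1]
        rw [mul_assoc, (hsw k).inv_left.symm.eq, ← mul_assoc, mul_inv_cancel, one_mul]
      have hzk : z * w ^ k * z⁻¹ = w ^ k := by
        rw [← hw, ((show Commute z (φ 384) from (D.data.comm_z (by norm_num)).symm).pow_right k).eq,
          mul_inv_cancel_right]
      rw [← e, ← conj_inv] at hzk
      exact inv_injective hzk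
    rw [show z * (s * s) * z⁻¹ = (z * s * z⁻¹) * (z * s * z⁻¹) by group, hzs] at h2
    have h4 : s ^ 4 = 1 := by
      calc s ^ 4 = (s * s) * (s * s) := by simp [pow_succ, mul_assoc]
        _ = (s⁻¹ * s⁻¹) * (s * s) := by rw [h2]
        _ = 1 := by group
    have hs1 : s = 1 := by
      have hodd := Odd.of_dvd_nat W.odd (Subgroup.orderOf_dvd_natCard O hs)
      have hd := orderOf_dvd_iff_pow_eq_one.2 h4
      have hc : Nat.Coprime (orderOf s) (2 ^ 2) := Nat.Coprime.pow_right _ (Nat.coprime_two_right.2 hodd)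
      exact orderOf_eq_one_iff.1 (Nat.eq_one_of_dvd_coprimes hc dvd_rfl (by simpa using hd))
    exact ⟨i, by rw [hs1, mul_one]⟩
  have hq16 : ∀ b ∈ wSpan v, ∃ k : ℕ, q * t * q⁻¹ * (q * θ b * q⁻¹) * (q * t * q⁻¹)⁻¹ = q * θ b * q⁻¹ * w ^ k :=
    fun b hb => ⟨0, by
      rw [pow_zero, mul_one, show q * t * q⁻¹ * (q * θ b * q⁻¹) * (q * t * q⁻¹)⁻¹ = q * (t * θ b * t⁻¹) * q⁻¹ by group,
        htO b hb]⟩
  have hzero : ∀ b ∈ wPlane, ∀ k : ℕ, θ b = w ^ k → b = 0 := by
    intro b hb k h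
    by_contra hb0
    have := of_all (of_all wPlane_ok.2.2.2.1 hv) hb
    simp only [Bool.and_eq_true, Bool.or_eq_true, beq_iff_eq, hb0, false_or, Bool.not_eq_true', List.contains_iff_mem]
      at this
    have hk3 : θ b = θ (vsmul (k % 3) v) := by
      rw [D.coord.smul (Nat.mod_lt _ (by norm_num)) hv81, hve, h, ← hw, ← hw3, pow_mod_orderOf]
    have he : b = vsmul (k % 3) v := D.coord.inj _ (hp b hb).1 _ (vmk_lt _ _ _ _) hk3
    have hc : ([4, 5, 7, 8].all fun v => (List.range 3).all fun n => [0, v, vneg v].contains (vsmul n v)) = true := by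
      decide +kernel
    have := of_range_all (of_all hc hv) (Nat.mod_lt k (show 3 > 0 by norm_num))
    rw [← he] at this
    simp_all
  -- surjectivity
  let F : Fin (wSpan v).length × Fin wPlane.length → O := fun p => ⟨θ (wSpan v)[p.1] * (q * θ wPlane[p.2] * q⁻¹),
    O.mul_mem (hspan _ (List.getElem_mem _)) (hqn _ (hplane _ (List.getElem_mem _)))⟩
  have hFinj : Function.Injective F := by
    rintro ⟨i, j⟩ ⟨i', j'⟩ h
    have h' : θ (wSpan v)[i] * (q * θ wPlane[j] * q⁻¹) = θ (wSpan v)[i'] * (q * θ wPlane[j'] * q⁻¹) :=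
      congrArg Subtype.val h
    have ha := List.getElem_mem i.2 (l := wSpan v)
    have ha' := List.getElem_mem i'.2 (l := wSpan v)
    have hb := List.getElem_mem j.2 (l := wPlane)
    have hb' := List.getElem_mem j'.2 (l := wPlane)
    obtain ⟨c, hc, hce⟩ : ∃ c, c ∈ wPlane ∧ θ c = θ wPlane[j] * (θ wPlane[j'])⁻¹ := by
      refine ⟨_, (hp _ hb).2.2.2 _ hb', ?_⟩
      rw [D.coord.add _ (hp _ hb).1 _ (vneg_lt (hp _ hb').1), D.coord.neg (hp _ hb').1]
      rfl
    have hspd := of_all wPlane_ok.2.2.2.2 hv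
    simp only [Bool.and_eq_true, List.all_eq_true, List.contains_iff_mem] at hspd
    obtain ⟨d, hd, hde⟩ : ∃ d, d ∈ wSpan v ∧ θ d = (θ (wSpan v)[i])⁻¹ * θ (wSpan v)[i'] := by
      refine ⟨_, hspd.2 _ ha' _ ha, ?_⟩
      rw [D.coord.add _ (hlt _ ha') _ (vneg_lt (hlt _ ha)), D.coord.neg (hlt _ ha),
        D.coord.comm (hθB _ (hlt _ ha')) (B.inv_mem (hθB _ (hlt _ ha)))]
      rfl
    have hxe : q * θ c * q⁻¹ = θ d := by
      rw [hce, hde, show q * (θ wPlane[j] * (θ wPlane[j'])⁻¹) * q⁻¹ =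
        (θ (wSpan v)[i])⁻¹ * (θ (wSpan v)[i] * (q * θ wPlane[j] * q⁻¹)) * (q * θ wPlane[j'] * q⁻¹)⁻¹ by group, h']
      group
    obtain ⟨k, hk⟩ := hfix2 (θ d) (hspan d hd) ⟨0, by rw [htO d hd, pow_zero, mul_one]⟩
      (hxe ▸ hq16 c (hsp c hc))
    have hck : θ c = w ^ k := by
      rw [hk] at hxe
      calc θ c = q⁻¹ * (q * θ c * q⁻¹) * q := by group
        _ = q⁻¹ * q * w ^ k := by rw [hxe, mul_assoc, mul_assoc, ((show Commute q w from hqw).pow_right k).eq]
        _ = w ^ k := by group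
    have hc0 := hzero c hc k hck
    subst hc0
    rw [D.coord.zero, eq_comm, mul_inv_eq_one] at hce
    have hj := (List.Nodup.getElem_inj_iff wPlane_ok.2.1).1 (D.coord.inj _ (hp _ hb).1 _ (hp _ hb').1 hce)
    obtain rfl := Fin.ext hj
    have hi := (List.Nodup.getElem_inj_iff hnd).1 (D.coord.inj _ (hlt _ ha) _ (hlt _ ha') (mul_right_cancel h'))
    exact Prod.ext (Fin.ext hi) rfl
  have hFbij := hFinj.bijective_of_nat_card_le (by
    rw [h243, Nat.card_prod, Nat.card_fin, Nat.card_fin, hlen, wPlane_ok.2.2.1])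
  have hparam : ∀ x ∈ O, ∃ a ∈ wSpan v, ∃ b ∈ wPlane, x = θ a * (q * θ b * q⁻¹) := fun x hx => by
    obtain ⟨⟨i, j⟩, hij⟩ := hFbij.2 ⟨x, hx⟩
    exact ⟨_, List.getElem_mem i.2, _, List.getElem_mem j.2, (congrArg Subtype.val hij).symm⟩
  have hfix16 : ∀ x ∈ O, (∃ k : ℕ, t * x * t⁻¹ = x * w ^ k) → ∃ a ∈ wSpan v, θ a = x := by
    intro x hx ⟨k, hk⟩
    obtain ⟨a, ha, b, hb, rfl⟩ := hparam x hx
    obtain ⟨y, hy⟩ : ∃ y, q * θ b * q⁻¹ = y := ⟨_, rfl⟩
    rw [hy] at hk hx ⊢
    have hyk : t * y * t⁻¹ = y * w ^ k := by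
      rw [show t * (θ a * y) * t⁻¹ = (t * θ a * t⁻¹) * (t * y * t⁻¹) by group, htO a ha, mul_assoc (θ a) y] at hk
      exact mul_left_cancel hk
    obtain ⟨m, hm⟩ := hfix2 y (hy ▸ hqn _ (hplane b hb)) ⟨k, hyk⟩ (hy ▸ hq16 b (hsp b hb))
    have hbm : θ b = w ^ m := by
      calc θ b = q⁻¹ * (q * θ b * q⁻¹) * q := by group
        _ = q⁻¹ * q * w ^ m := by rw [hy, hm, mul_assoc, mul_assoc, ((show Commute q w from hqw).pow_right m).eq]
        _ = w ^ m := by group
    have hb0 := hzero b hb m hbm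
    subst hb0
    refine ⟨a, ha, ?_⟩
    rw [← hy, D.coord.zero]; group
  have hinter : ∀ x ∈ O, x ∈ B → ∃ a ∈ wSpan v, θ a = x := fun x hx hxB =>
    hfix16 x hx ⟨0, by rw [pow_zero, mul_one, D.coord.comm htB hxB, mul_inv_cancel_right]⟩
  have hnormB : ∀ x ∈ O, x ∈ Subgroup.normalizer (B : Set G) := by
    have h1 : (O.subgroupOf X).relIndex (K.subgroupOf X) ∣ 24 := hindex ▸ Subgroup.relIndex_dvd_index_of_normal _ _
    rw [Subgroup.relIndex_subgroupOf hKX] at h1
    have h2 : Nat.card ↥(O.subgroupOf K) * O.relIndex K = 1458 := hKc ▸ (O.subgroupOf K).card_mul_index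
    have h6 : O.relIndex K ∣ 6 := (show Nat.gcd 24 1458 = 6 from rfl) ▸ Nat.dvd_gcd h1 (Dvd.intro_left _ h2)
    have hle := Nat.le_of_dvd (by norm_num) h6
    have hinj : Function.Injective fun x : O.subgroupOf K => (⟨((x : K) : G), x.2⟩ : O) := fun a b h =>
      Subtype.ext (Subtype.ext (congrArg Subtype.val h :))
    have hb := hinj.bijective_of_nat_card_le (by rw [h243]; nlinarith)
    intro x hx
    obtain ⟨y, hy⟩ := hb.2 ⟨x, hx⟩
    have hyx : ((y : K) : G) = x := congrArg Subtype.val hy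
    have := hKdef.ge (y : K).2
    exact hyx ▸ this.1
  have hlift : ∀ b ∈ wPlane, (∀ y ∈ O, θ b * y = y * θ b) → b = 0 := by
    intro b hb hc
    by_contra hb0
    obtain ⟨C, hC⟩ : ∃ C, Subgroup.centralizer ({θ b} : Set G) = C := ⟨_, rfl⟩
    have hmC : ∀ g, g ∈ C ↔ g * θ b = θ b * g := fun g => by rw [← hC]; exact Subgroup.mem_centralizer_singleton_iff
    have hd := (hp b hb).2.2.1 hb0
    have hCc : Nat.card C = 972 := hC ▸ D.card_diag_cent (hp b hb).1 hd
    have hOC : O ≤ C := fun y hy => (hmC y).2 (hc y hy).symm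
    have hBC : B ≤ C := fun y hy => (hmC y).2 (D.coord.comm hy (hθB b (hp b hb).1))
    haveI : (B.subgroupOf C).Normal := ⟨fun n hn g => (Subgroup.mem_normalizer_iff.1
      (D.diag_comm (hp b hb).1 hd ((hmC _).1 g.2)) _).1 hn⟩
    have h1 := Subgroup.relIndex_dvd_index_of_normal (B.subgroupOf C) (O.subgroupOf C)
    rw [Subgroup.relIndex_subgroupOf hOC] at h1
    have h2 := (B.subgroupOf C).card_mul_index
    rw [Nat.card_congr (Subgroup.subgroupOfEquivOfLe hBC).toEquiv, D.card_B, hCc] at h2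
    rw [show (B.subgroupOf C).index = 12 by omega] at h1
    have h3 : Nat.card ↥(B.subgroupOf O) * B.relIndex O = 243 := h243 ▸ (B.subgroupOf O).card_mul_index
    have h4 : B.relIndex O ∣ 3 := (show Nat.gcd 12 243 = 3 from rfl) ▸ Nat.dvd_gcd h1 (Dvd.intro_left _ h3)
    have hle := Nat.le_of_dvd (by norm_num) h4
    haveI := Fintype.ofFinite ↥(B.subgroupOf O)
    choose a ha hae using fun x : B.subgroupOf O => hinter _ (x : O).2 x.2
    have : Nat.card ↥(B.subgroupOf O) ≤ 27 := by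
      rw [Nat.card_eq_fintype_card, ← Finset.card_univ]
      refine (Finset.card_le_card_of_injOn (t := (wSpan v).toFinset) a (fun x _ => by simp [ha x]) fun x _ y _ h => ?_).trans
        ((List.toFinset_card_le _).trans hlen.le)
      exact Subtype.ext (Subtype.ext (by rw [← hae x, ← hae y, h]))
    nlinarith
  have hplaneB : ∀ b ∈ wPlane, θ b ∈ B := fun b hb => hθB b (hp b hb).1
  have hcube : ∀ x ∈ O, x ^ 3 = 1 := by
    intro x hx
    obtain ⟨a, ha, b, hb, rfl⟩ := hparam x hx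
    have hB3 : ∀ g ∈ B, g ^ 3 = 1 := fun g hg => by
      obtain ⟨u, hu, rfl⟩ := (D.coord.mem g).1 hg
      have : ((List.range 81).all fun v => vadd (vadd v v) v == 0) = true := by decide +kernel
      have := of_range_all this hu
      simp only [beq_iff_eq] at this
      rw [pow_succ, pow_two, ← D.coord.add u hu u hu, ← D.coord.add _ (vadd_lt hu hu) u hu, this, D.coord.zero]
    obtain ⟨A, hA⟩ : ∃ A, θ a = A := ⟨_, rfl⟩
    obtain ⟨Y, hY⟩ : ∃ Y, q * θ b * q⁻¹ = Y := ⟨_, rfl⟩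
    have hAO : A ∈ O := hA ▸ hspan a ha
    have hYO : Y ∈ O := hY ▸ hqn _ (hplane b hb)
    have hA3 : A ^ 3 = 1 := hA ▸ hB3 _ (hθB a (hlt a ha))
    have hY3 : Y ^ 3 = 1 := by rw [← hY, conj_pow, hB3 _ (hplaneB b hb), mul_one, mul_inv_cancel]
    rw [hA, hY]
    obtain ⟨k, hk⟩ := W.comm D hYO hAO
    obtain ⟨c, hc⟩ : ∃ c, φ 384 ^ k = c := ⟨_, rfl⟩
    rw [hc] at hk
    have hc3 : c * c * c = 1 := by
      rw [← hc, ← pow_add, ← pow_add, show k + k + k = 3 * k by ring, pow_mul, D.w_cube, one_pow]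
    have hcA : Commute A c := hc ▸ (show Commute A (φ 384) from W.comm_w A hAO).pow_right k
    have hcY : Commute Y c := hc ▸ (show Commute Y (φ 384) from W.comm_w Y hYO).pow_right k
    calc (A * Y) ^ 3 = A * (Y * A) * (Y * A) * Y := by simp [pow_succ, mul_assoc]
      _ = A * (A * Y * c) * (A * Y * c) * Y := by rw [hk]
      _ = A * A * Y * (c * (A * Y)) * (c * Y) := by group
      _ = A * A * Y * (A * Y * c) * (Y * c) := by rw [(hcA.mul_left hcY).eq, hcY.eq]
      _ = A * A * (Y * A) * Y * (c * Y) * c := by group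
      _ = A * A * (A * Y * c) * Y * (Y * c) * c := by rw [hk, ← hcY.eq]
      _ = A * A * A * Y * (c * (Y * Y)) * c * c := by group
      _ = A * A * A * Y * (Y * Y * c) * c * c := by rw [(hcY.mul_left hcY).eq]
      _ = A ^ 3 * Y ^ 3 * (c * c * c) := by simp only [pow_succ, pow_zero, one_mul, mul_assoc]
      _ = 1 := by rw [hA3, hY3, hc3, one_mul, one_mul]
  have hcenter : ∀ x ∈ O, (∀ y ∈ O, x * y = y * x) → ∃ k : ℕ, x = w ^ k := by
    intro x hx hc
    obtain ⟨a, ha, b, hb, rfl⟩ := hparam x hx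
    obtain ⟨Y, hY⟩ : ∃ Y, q * θ b * q⁻¹ = Y := ⟨_, rfl⟩
    rw [hY] at hc
    have hY1 : ∀ c ∈ wSpan v, Commute Y (θ c) := fun c hc' => by
      have h1 : Commute (θ a * Y) (θ c) := hc _ (hspan c hc')
      have h2 : Commute (θ a) (θ c) := D.coord.comm (hθB a (hlt a ha)) (hθB c (hlt c hc'))
      have := h2.inv_left.mul_left h1
      rwa [inv_mul_cancel_left] at this
    have hY2 : ∀ c ∈ wPlane, Commute Y (q * θ c * q⁻¹) := fun c hc' => by
      rw [← hY]
      show q * θ b * q⁻¹ * (q * θ c * q⁻¹) = q * θ c * q⁻¹ * (q * θ b * q⁻¹)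
      rw [show q * θ b * q⁻¹ * (q * θ c * q⁻¹) = q * (θ b * θ c) * q⁻¹ by group,
        D.coord.comm (hplaneB b hb) (hplaneB c hc')]
      group
    have hYc : ∀ y ∈ O, Y * y = y * Y := fun y hy => by
      obtain ⟨a', ha', b', hb', rfl⟩ := hparam y hy
      exact ((hY1 a' ha').mul_right (hY2 b' hb')).eq
    have hb0 : b = 0 := hlift b hb fun y hy => by
      have h1 := hYc (q * y * q⁻¹) (hqn y hy)
      rw [← hY, show q * θ b * q⁻¹ * (q * y * q⁻¹) = q * (θ b * y) * q⁻¹ by group,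
        show q * y * q⁻¹ * (q * θ b * q⁻¹) = q * (y * θ b) * q⁻¹ by group] at h1
      exact mul_left_cancel (mul_right_cancel h1)
    subst hb0
    have := of_all (of_all exists_w_coord.2 hv) ha
    simp only [List.any_eq_true, beq_iff_eq] at this
    obtain ⟨p, hp'', b', hb', rfl⟩ := this
    have hp81 : p < 81 ∧ ∃ k : ℕ, θ p = w ^ k := by
      simp only [List.mem_cons, List.not_mem_nil, or_false] at hp''
      rcases hp'' with rfl | rfl | rfl
      · exact ⟨by norm_num, 0, by rw [pow_zero, D.coord.zero]⟩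
      · exact ⟨hv81, 1, by rw [pow_one, hve, hw]⟩
      · exact ⟨vneg_lt hv81, 2, by rw [vneg, D.coord.add _ hv81 _ hv81, hve, hw, pow_two]⟩
    obtain ⟨hp81, k, hk⟩ := hp81
    have hxe : θ (vadd p b') * (q * θ 0 * q⁻¹) = w ^ k * θ b' := by
      rw [D.coord.add p hp81 b' (hp b' hb').1, hk, D.coord.zero]; group
    have hb'0 : b' = 0 := hlift b' hb' fun y hy => by
      have h1 : Commute (w ^ k * θ b') y := by rw [← hxe]; exact hY ▸ hc y hy
      have h2 : Commute (w ^ k) y := by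
        rw [← hw]; exact ((show Commute y (φ 384) from W.comm_w y hy).pow_right k).symm
      have := h2.inv_left.mul_left h1
      rwa [inv_mul_cancel_left] at this
    subst hb'0
    exact ⟨k, by rw [hxe, D.coord.zero, mul_one]⟩
  exact ⟨O, v, W, hv, hve, h243, by rw [hX, ← hOc, h243], hspan, hinter, fun x hx => hq ▸ hparam x hx,
    fun x hx h => hfix16 x hx (ht ▸ hw ▸ h), hcube, fun x hx h => hw ▸ hcenter x hx h, hnormB⟩

end CfsgU43Type
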